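import Groth.Agent.ValFibreLib.Basic
import Groth.Agent.GrpFieldLib.Identity
import Groth.Agent.AVAmpleLib.ReducedSub
import Groth.Agent.GrpSchLib.Cartier

/-! Fibres over a valuation ring, and the reduced identity component. -/

set_option autoImplicit false
set_option linter.style.haveILetI false
set_option backward.isDefEq.respectTransparency false
set_option maxHeartbeats 1000000

universe u

open CategoryTheory CategoryTheory.Limits MonoidalCategory CartesianMonoidalCategory AlgebraicGeometry TopologicalSpace
open scoped MonObj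
open Groth.Agent.HomogDense Groth.Agent.GrpField

noncomputable section

namespace SubSpecLib

/-- A pullback along a geometric point which is a preimmersion is the fibre. -/
def fibreHomeo {S X : Scheme.{u}} {F : Type u} [Field F] (f : X ⟶ S) (p : Spec (CommRingCat.of F) ⟶ S)
    [IsPreimmersion p] (s : S) (hs : p (IsLocalRing.closedPoint F) = s) :
    ↥(pullback f p) ≃ₜ ↥(f.base ⁻¹' {s}) :=
  (pullback.fst f p).isEmbedding.toHomeomorph.trans (Homeomorph.setCongr (by
    haveI : Subsingleton ↥(Spec (CommRingCat.of F)) := inferInstanceAs (Subsingleton (PrimeSpectrum F))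
    rw [Scheme.Pullback.range_fst, ← hs]
    congr 1
    refine Set.eq_singleton_iff_unique_mem.2 ⟨⟨_, rfl⟩, ?_⟩
    rintro _ ⟨x, rfl⟩
    rw [Subsingleton.elim x (IsLocalRing.closedPoint F)]))

theorem fibreHomeo_apply {S X : Scheme.{u}} {F : Type u} [Field F] (f : X ⟶ S) (p : Spec (CommRingCat.of F) ⟶ S)
    [IsPreimmersion p] (s : S) (hs : p (IsLocalRing.closedPoint F) = s) (z : ↥(pullback f p)) :
    (fibreHomeo f p s hs z : X) = pullback.fst f p z := rfl

theorem gp_closedPoint (R : Type u) [CommRing R] [IsDomain R] (K : Type u) [Field K] [Algebra R K] [IsFractionRing R K] :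
    Spec.map (CommRingCat.ofHom (algebraMap R K)) (IsLocalRing.closedPoint K) = (⟨⊥, Ideal.isPrime_bot⟩ : PrimeSpectrum R) := by
  refine PrimeSpectrum.ext ?_
  show Ideal.comap (algebraMap R K) (IsLocalRing.maximalIdeal K) = ⊥
  rw [IsLocalRing.maximalIdeal_eq_bot, ← RingHom.ker_eq_comap_bot]
  exact (RingHom.injective_iff_ker_eq_bot _).1 (IsFractionRing.injective R K)

theorem sp_closedPoint {V : Type u} [CommRing V] [IsLocalRing V] {k : Type u} [Field k] (φ : V →+* k)
    (hφ : Function.Surjective φ) :
    Spec.map (CommRingCat.ofHom φ) (IsLocalRing.closedPoint k) = IsLocalRing.closedPoint V := by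
  haveI := IsLocalHom.of_surjective φ hφ
  exact IsLocalRing.comap_closedPoint φ

theorem eq_of_dim_zero {α : Type*} [TopologicalSpace α] [T0Space α] {Z : Set α} (hZ : IsIrreducible Z)
    (hZc : IsClosed Z) (hd : topologicalKrullDim ↥Z ≤ 0) {y : α} (hy : y ∈ Z) : closure {y} = Z := by
  by_contra hne
  haveI : IrreducibleSpace ↥Z := isIrreducible_iff_irreducibleSpace.1 hZ
  let a : IrreducibleCloseds ↥Z :=
    { carrier := closure {(⟨y, hy⟩ : ↥Z)}
      isIrreducible' := isIrreducible_singleton.closure
      isClosed' := isClosed_closure }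
  let b : IrreducibleCloseds ↥Z :=
    { carrier := Set.univ
      isIrreducible' := IrreducibleSpace.isIrreducible_univ _
      isClosed' := isClosed_univ }
  have hab : a < b := lt_of_le_of_ne (Set.subset_univ _) fun h => hne (by
    have h2 : closure {(⟨y, hy⟩ : ↥Z)} = Set.univ := congrArg (fun c : IrreducibleCloseds ↥Z => (c : Set ↥Z)) h
    refine (hZc.closure_subset_iff.2 (Set.singleton_subset_iff.2 hy)).antisymm fun x hx => ?_
    have h3 : (⟨x, hx⟩ : ↥Z) ∈ closure {(⟨y, hy⟩ : ↥Z)} := h2 ▸ trivial
    have h4 := closure_subtype.1 h3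
    rwa [Set.image_singleton] at h4)
  have : (1 : WithBot ℕ∞) ≤ topologicalKrullDim ↥Z :=
    le_of_eq_of_le (by simp) (Order.LTSeries.length_le_krullDim ((RelSeries.singleton _ a).snoc b hab))
  exact absurd (this.trans hd) (by simp)

variable {V : Type u} [CommRing V] [IsDomain V] [ValuationRing V] {K : Type u} [Field K] [Algebra V K]
  [IsFractionRing V K] {k : Type u} [Field k]

theorem dim_special_component (φ : V →+* k) (hφ : Function.Surjective φ) {X : Scheme.{u}} [IrreducibleSpace ↥X]
    (f : X ⟶ Spec (CommRingCat.of V)) [LocallyOfFiniteType f] [Surjective f]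
    (Z : Set ↥(pullback f (Spec.map (CommRingCat.ofHom φ))))
    (hZ : Z ∈ irreducibleComponents ↥(pullback f (Spec.map (CommRingCat.ofHom φ)))) :
    topologicalKrullDim ↥Z = topologicalKrullDim ↥(pullback f (Spec.map (CommRingCat.ofHom (algebraMap V K)))) := by
  haveI : IsClosedImmersion (Spec.map (CommRingCat.ofHom φ)) := IsClosedImmersion.spec_of_surjective _ hφ
  haveI : IsPreimmersion (Spec.map (CommRingCat.ofHom (algebraMap V K))) :=
    IsPreimmersion.of_isLocalization (nonZeroDivisors V)
  let e := (fibreHomeo f _ _ (sp_closedPoint φ hφ)).trans (f.fiberHomeo (IsLocalRing.closedPoint V)).symm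
  let e' := (fibreHomeo f _ _ (gp_closedPoint V K)).trans
    (f.fiberHomeo (⟨⊥, Ideal.isPrime_bot⟩ : PrimeSpectrum V)).symm
  rw [e'.isHomeomorph.topologicalKrullDim_eq]
  have hZ' : e '' Z ∈ irreducibleComponents ↥(f.fiber (IsLocalRing.closedPoint V)) :=
    image_mem_irreducibleComponents_of_isPreirreducible_fiber e e.continuous e.isOpenMap
      (fun _ => (Set.subsingleton_singleton.preimage e.injective).isPreirreducible) e.surjective hZ
  rw [(e.image Z).isHomeomorph.topologicalKrullDim_eq]
  exact ValFibreLib.dim_component_eq f _ hZ'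

theorem exists_red_identity [IsAlgClosed k] (G : Over (Spec (CommRingCat.of k))) [GrpObj G]
    [LocallyOfFiniteType G.hom] :
    ∃ (B : Over (Spec (CommRingCat.of k))) (_ : GrpObj B) (r : B ⟶ G), IsMonHom r ∧ IsClosedImmersion r.left ∧
      Smooth B.hom ∧ IrreducibleSpace ↥B.left ∧ QuasiCompact B.hom ∧ Set.range r.left = Z0 G := by
  obtain ⟨G₀, hG₀, i, hi, hic, -, hr, -, -⟩ := exists_identity_component (G := G)
  haveI : LocallyOfFiniteType G₀.hom := by rw [← Over.w i]; infer_instance
  obtain ⟨B, hB, r, hrm, hrc, hBr, hBl, hrr⟩ := AVAmpleLib.exists_reduced_subgroup (A := G₀) Set.univ trivial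
    (fun _ _ _ _ => trivial) (fun _ _ => trivial)
  haveI : JacobsonSpace G₀.left := LocallyOfFiniteType.jacobsonSpace G₀.hom
  have huniv : Set.range r.left = Set.univ := by
    rw [hrr, Set.eq_univ_iff_forall]
    intro x
    refine closure_mono ?_ (closure_closedPoints (X := G₀.left) ▸ Set.mem_univ x)
    intro y hy
    exact ⟨Over.homMk (pointOfClosedPoint G₀.hom y hy) (pointOfClosedPoint_comp _ _ _), trivial,
      pointOfClosedPoint_apply G₀.hom y hy _⟩
  haveI : IsClosedImmersion (r ≫ i).left := by rw [Over.comp_left]; infer_instance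
  have hrange : Set.range (r ≫ i).left = Z0 G := by
    rw [Over.comp_left, Scheme.Hom.comp_base, TopCat.coe_comp, Set.range_comp, huniv, Set.image_univ, hr]
  have hZ : IsIrreducible (Z0 G) := by
    obtain ⟨z, -, -, h⟩ := exists_Z0_gen G
    rw [h]; exact isIrreducible_singleton.closure
  have hemb := (r ≫ i).left.isEmbedding
  haveI : IrreducibleSpace ↥B.left := by
    haveI : IrreducibleSpace ↥(Set.range (r ≫ i).left) := isIrreducible_iff_irreducibleSpace.1 (hrange ▸ hZ)
    exact hemb.toHomeomorph.irreducibleSpace_iff.2 inferInstance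
  haveI : CompactSpace ↥B.left := by
    have h := isCompact_Z0 (G := G)
    rw [← hrange, ← Set.image_univ, ← hemb.isInducing.isCompact_iff] at h
    exact ⟨h⟩
  refine ⟨B, hB, r ≫ i, inferInstance, inferInstance, ?_, inferInstance, ?_, hrange⟩
  · exact Groth.Agent.GrpSchLib.smooth_of_isAlgClosed_of_isReduced B
  · exact (quasiCompact_iff_compactSpace B.hom).2 inferInstance

end SubSpecLib
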