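import Groth.Agent.SubSpecLib.HullFibre
import Groth.Agent.SubSpecLib.Closure
import Groth.Agent.S16029

/-! The two fibres of the affinization of a flat group over a valuation ring. -/

set_option autoImplicit false
set_option linter.style.haveILetI false
set_option backward.isDefEq.respectTransparency false
set_option maxHeartbeats 1000000

universe u

open CategoryTheory CategoryTheory.Limits MonoidalCategory CartesianMonoidalCategory AlgebraicGeometry TopologicalSpace Opposite
open scoped MonObj

noncomputable section

namespace SubSpecLib.Hull

variable {R : Type u} [CommRing R] [IsDomain R] [ValuationRing R]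
  (G : Over (Spec (CommRingCat.of R))) [GrpObj G] [Flat G.hom] [QuasiCompact G.hom] [QuasiSeparated G.hom]

/-- The affinization on the fibre along a morphism from a field. -/
abbrev fibreHull {F : Type u} [Field F] (p : Spec (CommRingCat.of F) ⟶ Spec (CommRingCat.of R)) :
    Red.bc p G ⟶ Red.bc p (hull G) := (Over.pullback p).map (toHull G)

theorem fibreHull_left {F : Type u} [Field F] (p : Spec (CommRingCat.of F) ⟶ Spec (CommRingCat.of R)) :
    (fibreHull G p).left = pullback.map G.hom p (hull G).hom p G.left.toSpecΓ (𝟙 _) (𝟙 _)
      ((Category.comp_id _).trans (Over.w (toHull G)).symm) ((Category.comp_id _).trans (Category.id_comp _).symm) := by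
  refine pullback.hom_ext ?_ ?_
  · rw [pullback.lift_fst]
    exact ActBC.pullback_map_left_fst p (toHull G)
  · rw [pullback.lift_snd, Category.comp_id]
    exact Over.w (fibreHull G p)

instance isAffine_bc_hull {F : Type u} [Field F] (p : Spec (CommRingCat.of F) ⟶ Spec (CommRingCat.of R)) :
    IsAffine (Red.bc p (hull G)).left :=
  inferInstanceAs (IsAffine (pullback (hull G).hom p))

/-- The special fibre of the affinization is an algebraic group, faithfully flat image of the special fibre. -/
theorem special [LocallyOfFiniteType G.hom] {F : Type u} [Field F] (φ : R →+* F) (hφ : Function.Surjective φ) :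
    Flat (fibreHull G (Spec.map (CommRingCat.ofHom φ))).left ∧
      Surjective (fibreHull G (Spec.map (CommRingCat.ofHom φ))).left ∧
      LocallyOfFiniteType (Red.bc (Spec.map (CommRingCat.ofHom φ)) (hull G)).hom := by
  let p := Spec.map (CommRingCat.ofHom φ)
  haveI : IsMonHom (fibreHull G p) := inferInstanceAs (IsMonHom ((Over.pullback p).map (toHull G)))
  haveI : LocallyOfFiniteType (Red.bc p G).hom := MorphismProperty.pullback_snd (P := @LocallyOfFiniteType) _ _ ‹_›
  haveI : QuasiCompact (Red.bc p G).hom := MorphismProperty.pullback_snd (P := @QuasiCompact) _ _ ‹_›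
  refine Groth.Agent.S16029.result F _ _ (fibreHull G p) ?_
  haveI : QuasiCompact (fibreHull G p).left := by
    haveI : CompactSpace (Red.bc p G).left := QuasiCompact.compactSpace_of_compactSpace (Red.bc p G).hom
    exact quasiCompact_of_compactSpace _
  refine ker_eq_bot_of_injective _ ?_
  rw [fibreHull_left]
  exact injective_special G.hom (hull G).hom (Over.w (toHull G)) φ hφ

/-- The affinization is an isomorphism on an affine generic fibre. -/
theorem isIso_generic {K : Type u} [Field K] [Algebra R K] [IsFractionRing R K]
    [IsAffine (Red.bc (Spec.map (CommRingCat.ofHom (algebraMap R K))) G).left] :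
    IsIso (fibreHull G (Spec.map (CommRingCat.ofHom (algebraMap R K)))).left := by
  let p := Spec.map (CommRingCat.ofHom (algebraMap R K))
  let Y₀ : Over (Spec (CommRingCat.of R)) := Over.mk p
  haveI : Flat Y₀.hom := flat_gp R K
  haveI : IsAffine Y₀.left := inferInstanceAs (IsAffine (Spec _))
  haveI h := isΓIso_tensor (toHull G) (𝟙 Y₀)
  haveI := h.iso
  haveI : IsIso (fibreHull G p).left.appTop := by
    rw [fibreHull_left]
    exact inferInstanceAs (IsIso (MonoidalCategory.tensorHom (toHull G) (𝟙 Y₀)).left.appTop)
  exact (HasAffineProperty.iff_of_isAffine (P := MorphismProperty.isomorphisms Scheme.{u})).2 ⟨inferInstance, inferInstance⟩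

end SubSpecLib.Hull
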