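import Groth.Prelude
import Groth.Agent.GrpFieldLib.Comps

/-!
The affinization of a flat group scheme over a Bezout domain.
-/

set_option autoImplicit false
set_option linter.style.haveILetI false
set_option backward.isDefEq.respectTransparency false

universe u

open CategoryTheory CategoryTheory.Limits MonoidalCategory CartesianMonoidalCategory AlgebraicGeometry Opposite
open scoped MonObj

noncomputable section

namespace SubSpecLib.Hull

variable {R : Type u} [CommRing R]

instance qc_tensor (X Y : (Over (Spec (CommRingCat.of R)))) [QuasiCompact X.hom] [QuasiCompact Y.hom] : QuasiCompact (X ⊗ Y).hom := by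
  show QuasiCompact (pullback.fst X.hom Y.hom ≫ X.hom); infer_instance

instance qs_tensor (X Y : (Over (Spec (CommRingCat.of R)))) [QuasiSeparated X.hom] [QuasiSeparated Y.hom] : QuasiSeparated (X ⊗ Y).hom := by
  show QuasiSeparated (pullback.fst X.hom Y.hom ≫ X.hom); infer_instance

instance qc_unit : QuasiCompact (𝟙_ (Over (Spec (CommRingCat.of R)))).hom := inferInstanceAs (QuasiCompact (𝟙 _))

instance qs_unit : QuasiSeparated (𝟙_ (Over (Spec (CommRingCat.of R)))).hom := inferInstanceAs (QuasiSeparated (𝟙 _))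

instance affine_unit : IsAffine (𝟙_ (Over (Spec (CommRingCat.of R)))).left := inferInstanceAs (IsAffine (Spec (CommRingCat.of R)))

instance qc_affine (X : (Over (Spec (CommRingCat.of R)))) [IsAffine X.left] : QuasiCompact X.hom :=
  haveI : CompactSpace X.left := inferInstance
  quasiCompact_of_compactSpace _

instance qs_affine (X : (Over (Spec (CommRingCat.of R)))) [IsAffine X.left] : QuasiSeparated X.hom :=
  haveI : IsAffineHom X.hom := isAffineHom_of_isAffine X.hom
  inferInstance

instance isAffine_tensor (X Y : (Over (Spec (CommRingCat.of R)))) [IsAffine X.left] [IsAffine Y.left] : IsAffine (X ⊗ Y).left :=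
  inferInstanceAs (IsAffine (pullback X.hom Y.hom))

/-- The morphism induces an isomorphism on global functions. -/
class IsΓIso {X Y : (Over (Spec (CommRingCat.of R)))} (f : X ⟶ Y) : Prop where
  iso : IsIso f.left.appTop

instance isΓIso_of_isIso {X Y : (Over (Spec (CommRingCat.of R)))} (f : X ⟶ Y) [IsIso f] : IsΓIso f := by
  haveI : IsIso f.left := inferInstanceAs (IsIso ((Over.forget _).map f))
  exact ⟨inferInstance⟩

theorem isΓIso_comp {X Y Z : (Over (Spec (CommRingCat.of R)))} (f : X ⟶ Y) (g : Y ⟶ Z) (hf : IsΓIso f) (hg : IsΓIso g) : IsΓIso (f ≫ g) := by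
  haveI := hf.iso; haveI := hg.iso
  exact ⟨by rw [Over.comp_left, Scheme.Hom.comp_appTop]; infer_instance⟩

theorem isΓIso_of_comp {X Y Z : (Over (Spec (CommRingCat.of R)))} (f : X ⟶ Y) (g : Y ⟶ Z) (h : IsΓIso (f ≫ g)) (hf : IsΓIso f) : IsΓIso g := by
  haveI := h.iso; haveI := hf.iso
  haveI : IsIso (g.left.appTop ≫ f.left.appTop) := by rw [← Scheme.Hom.comp_appTop, ← Over.comp_left]; infer_instance
  exact ⟨IsIso.of_isIso_comp_right g.left.appTop f.left.appTop⟩

theorem isΓIso_of_comp' {X Y Z : (Over (Spec (CommRingCat.of R)))} (f : X ⟶ Y) (g : Y ⟶ Z) (h : IsΓIso (f ≫ g)) (hg : IsΓIso g) : IsΓIso f := by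
  haveI := h.iso; haveI := hg.iso
  haveI : IsIso (g.left.appTop ≫ f.left.appTop) := by rw [← Scheme.Hom.comp_appTop, ← Over.comp_left]; infer_instance
  exact ⟨IsIso.of_isIso_comp_left g.left.appTop f.left.appTop⟩

/-- Morphisms into an affine scheme are determined on global functions. -/
theorem hom_ext {X Y Z : (Over (Spec (CommRingCat.of R)))} [IsAffine Z.left] (f : X ⟶ Y) [hf : IsΓIso f] {g g' : Y ⟶ Z}
    (h : f ≫ g = f ≫ g') : g = g' := by
  haveI := hf.iso
  refine Over.OverMorphism.ext (ext_of_isAffine ?_)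
  rw [← cancel_mono f.left.appTop, ← Scheme.Hom.comp_appTop, ← Scheme.Hom.comp_appTop, ← Over.comp_left,
    ← Over.comp_left, h]

/-- Morphisms into an affine scheme extend along a morphism inducing an isomorphism on global functions. -/
theorem exists_desc {X Y Z : (Over (Spec (CommRingCat.of R)))} [IsAffine Z.left] (f : X ⟶ Y) [hf : IsΓIso f] (h : X ⟶ Z) :
    ∃ g : Y ⟶ Z, f ≫ g = h := by
  haveI := hf.iso
  let g₀ : Y.left ⟶ Z.left := Y.left.toSpecΓ ≫ Spec.map (h.left.appTop ≫ inv f.left.appTop) ≫ Z.left.isoSpec.inv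
  have e : f.left ≫ g₀ = h.left := by
    simp only [g₀]
    rw [Scheme.toSpecΓ_naturality_assoc, ← Spec.map_comp_assoc, Category.assoc, IsIso.inv_hom_id,
      Category.comp_id, ← Scheme.toSpecΓ_naturality_assoc, ← Scheme.isoSpec_hom, Iso.hom_inv_id, Category.comp_id]
  have w : g₀ ≫ Z.hom = Y.hom := by
    refine ext_of_isAffine ?_
    rw [← cancel_mono f.left.appTop, ← Scheme.Hom.comp_appTop, ← Scheme.Hom.comp_appTop, ← Category.assoc, e,
      Over.w, Over.w]
  exact ⟨Over.homMk g₀ w, Over.OverMorphism.ext e⟩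

/-- The extension along a morphism inducing an isomorphism on global functions. -/
def desc {X Y Z : (Over (Spec (CommRingCat.of R)))} [IsAffine Z.left] (f : X ⟶ Y) [IsΓIso f] (h : X ⟶ Z) : Y ⟶ Z := (exists_desc f h).choose

@[reassoc (attr := simp)]
theorem fac {X Y Z : (Over (Spec (CommRingCat.of R)))} [IsAffine Z.left] (f : X ⟶ Y) [IsΓIso f] (h : X ⟶ Z) : f ≫ desc f h = h :=
  (exists_desc f h).choose_spec


instance flat_tensor (X Y : Over (Spec (CommRingCat.of R))) [Flat X.hom] [Flat Y.hom] : Flat (X ⊗ Y).hom := by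
  show Flat (pullback.fst X.hom Y.hom ≫ X.hom); infer_instance

instance flat_unit : Flat (𝟙_ (Over (Spec (CommRingCat.of R)))).hom := inferInstanceAs (Flat (𝟙 _))

variable [IsDomain R] [IsBezout R]

omit [IsBezout R] in
/-- Multiplication by a nonzero scalar is injective on sections of a flat scheme. -/
theorem mul_left_injective_of_flat {X : Scheme.{u}} (f : X ⟶ Spec (CommRingCat.of R)) [Flat f] {r : R} (hr : r ≠ 0)
    (U : X.Opens) :
    Function.Injective fun x : Γ(X, U) =>
      (((Scheme.ΓSpecIso (CommRingCat.of R)).inv ≫ f.appTop ≫ X.presheaf.map (homOfLE (le_top : U ≤ ⊤)).op).hom r) * x := by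
  intro x y hxy
  refine X.IsSheaf.section_ext fun p hp => ?_
  obtain ⟨_, ⟨W, hW, rfl⟩, hpW, hWU⟩ := X.isBasis_affineOpens.exists_subset_of_mem_open hp U.isOpen
  refine ⟨W, hWU, hpW, ?_⟩
  have hfl : (((Scheme.ΓSpecIso (CommRingCat.of R)).inv ≫ f.appTop ≫
      X.presheaf.map (homOfLE (le_top : W ≤ ⊤)).op).hom).Flat := by
    rw [CommRingCat.hom_comp, RingHom.Flat.respectsIso.cancel_left_isIso]
    exact HasRingHomProperty.appLE (P := @Flat) f ‹_› ⟨⊤, isAffineOpen_top _⟩ ⟨W, hW⟩ le_top
  have h := congrArg (X.presheaf.map (homOfLE (show W ≤ U from hWU)).op).hom hxy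
  simp only [map_mul] at h
  algebraize [((Scheme.ΓSpecIso (CommRingCat.of R)).inv ≫ f.appTop ≫
      X.presheaf.map (homOfLE (le_top : W ≤ ⊤)).op).hom]
  have hreg : IsSMulRegular Γ(X, W) r := (IsSMulRegular.of_ne_zero (M := R) hr).of_flat
  refine hreg ?_
  simp only [Algebra.smul_def]
  convert h using 2 <;>
  · rw [RingHom.algebraMap_toAlgebra, ← CommRingCat.comp_apply, Category.assoc, Category.assoc, ← Functor.map_comp]
    rfl

/-- The ring of global functions of a flat scheme is flat. -/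
theorem flat_Γ {X : Scheme.{u}} (f : X ⟶ Spec (CommRingCat.of R)) [Flat f] : f.appTop.hom.Flat := by
  let ι₀ := (Scheme.ΓSpecIso (CommRingCat.of R)).inv
  suffices H : (ι₀ ≫ f.appTop).hom.Flat by
    rw [CommRingCat.hom_comp] at H
    exact (RingHom.Flat.respectsIso.cancel_left_isIso ι₀ f.appTop).1 H
  algebraize [(ι₀ ≫ f.appTop).hom]
  change Module.Flat R Γ(X, ⊤)
  rw [Module.Flat.flat_iff_torsion_eq_bot_of_isBezout, Submodule.eq_bot_iff]
  rintro x ⟨⟨r, hr⟩, hx⟩
  have hr0 : r ≠ 0 := nonZeroDivisors.ne_zero hr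
  change (ι₀ ≫ f.appTop).hom r * x = 0 at hx
  apply mul_left_injective_of_flat f hr0 ⊤
  simpa [ι₀] using hx

theorem isPushout_appTop (X Y : Over (Spec (CommRingCat.of R))) [QuasiCompact X.hom] [QuasiSeparated X.hom]
    [QuasiCompact Y.hom] [QuasiSeparated Y.hom] [Flat X.hom] [Flat Y.hom] :
    IsPushout X.hom.appTop Y.hom.appTop (fst X Y).left.appTop (snd X Y).left.appTop := by
  haveI : CompactSpace X.left := QuasiCompact.compactSpace_of_compactSpace X.hom
  haveI : CompactSpace Y.left := QuasiCompact.compactSpace_of_compactSpace Y.hom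
  haveI : QuasiSeparatedSpace X.left := quasiSeparatedSpace_of_quasiSeparated X.hom
  haveI : QuasiSeparatedSpace Y.left := quasiSeparatedSpace_of_quasiSeparated Y.hom
  have H : IsPullback (fst X Y).left (snd X Y).left X.hom Y.hom := IsPullback.of_hasPullback X.hom Y.hom
  have hfl : (X.hom.appLE ⊤ ⊤ le_top).hom.Flat := by
    have h := flat_Γ X.hom
    simpa [Scheme.Hom.appLE, Scheme.Hom.appTop] using h
  have hiso := isIso_pushoutSection_of_isCompact_of_flat_right_of_ringHomFlat H (US := ⊤) (UT := ⊤) (UX := ⊤)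
    le_top le_top (UY := ⊤) (by simp) (isAffineOpen_top _) isCompact_univ isQuasiSeparated_univ isCompact_univ
    isQuasiSeparated_univ hfl
  have := (isIso_pushoutSection_iff H (US := ⊤) (UT := ⊤) (UX := ⊤) le_top le_top (UY := ⊤) (by simp)).1 hiso
  simp only [Scheme.Hom.appLE, homOfLE_leOfHom] at this
  simpa [Scheme.Hom.appTop] using this

theorem isΓIso_tensor {X X' Y Y' : (Over (Spec (CommRingCat.of R)))} (f : X ⟶ X') (g : Y ⟶ Y') [hf : IsΓIso f] [hg : IsΓIso g]
    [QuasiCompact X.hom] [QuasiSeparated X.hom] [QuasiCompact Y.hom] [QuasiSeparated Y.hom]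
    [QuasiCompact X'.hom] [QuasiSeparated X'.hom] [QuasiCompact Y'.hom] [QuasiSeparated Y'.hom]
    [Flat X.hom] [Flat Y.hom] [Flat X'.hom] [Flat Y'.hom] :
    IsΓIso (f ⊗ₘ g) := by
  haveI := hf.iso; haveI := hg.iso
  have h := isPushout_appTop X Y
  have h' := isPushout_appTop X' Y'
  have e₁ : (fst X' Y').left.appTop ≫ (f ⊗ₘ g).left.appTop = f.left.appTop ≫ (fst X Y).left.appTop := by
    rw [← Scheme.Hom.comp_appTop, ← Scheme.Hom.comp_appTop, ← Over.comp_left, ← Over.comp_left, tensorHom_fst]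
  have e₂ : (snd X' Y').left.appTop ≫ (f ⊗ₘ g).left.appTop = g.left.appTop ≫ (snd X Y).left.appTop := by
    rw [← Scheme.Hom.comp_appTop, ← Scheme.Hom.comp_appTop, ← Over.comp_left, ← Over.comp_left, tensorHom_snd]
  have w : X.hom.appTop ≫ inv f.left.appTop ≫ (fst X' Y').left.appTop =
      Y.hom.appTop ≫ inv g.left.appTop ≫ (snd X' Y').left.appTop := by
    rw [← Over.w f, ← Over.w g, Scheme.Hom.comp_appTop, Scheme.Hom.comp_appTop, Category.assoc, Category.assoc,
      IsIso.hom_inv_id_assoc, IsIso.hom_inv_id_assoc]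
    exact h'.w
  refine ⟨⟨h.desc _ _ w, h'.hom_ext ?_ ?_, h.hom_ext ?_ ?_⟩⟩
  · rw [reassoc_of% e₁, h.inl_desc, IsIso.hom_inv_id_assoc, Category.comp_id]
  · rw [reassoc_of% e₂, h.inr_desc, IsIso.hom_inv_id_assoc, Category.comp_id]
  · rw [h.inl_desc_assoc, Category.assoc, e₁, IsIso.inv_hom_id_assoc, Category.comp_id]
  · rw [h.inr_desc_assoc, Category.assoc, e₂, IsIso.inv_hom_id_assoc, Category.comp_id]

/-- The spectrum of the ring of global functions. -/
def hull (X : (Over (Spec (CommRingCat.of R)))) : (Over (Spec (CommRingCat.of R))) := Over.mk (Spec.map X.hom.appTop ≫ (Spec (CommRingCat.of R)).isoSpec.inv)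

instance isAffine_hull (X : (Over (Spec (CommRingCat.of R)))) : IsAffine (hull X).left := inferInstanceAs (IsAffine (Spec Γ(X.left, ⊤)))

/-- The canonical morphism to the spectrum of the ring of global functions. -/
def toHull (X : (Over (Spec (CommRingCat.of R)))) : X ⟶ hull X := Over.homMk X.left.toSpecΓ (by
  show X.left.toSpecΓ ≫ Spec.map X.hom.appTop ≫ (Spec (CommRingCat.of R)).isoSpec.inv = X.hom
  rw [← Scheme.toSpecΓ_naturality_assoc, ← Scheme.isoSpec_hom, Iso.hom_inv_id, Category.comp_id])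

theorem toHull_left (X : (Over (Spec (CommRingCat.of R)))) : (toHull X).left = X.left.toSpecΓ := rfl

instance isΓIso_toHull (X : (Over (Spec (CommRingCat.of R)))) : IsΓIso (toHull X) :=
  ⟨by rw [toHull_left, Scheme.toSpecΓ_appTop]; exact inferInstanceAs (IsIso (Scheme.ΓSpecIso Γ(X.left, ⊤)).hom)⟩

instance flat_hull (X : Over (Spec (CommRingCat.of R))) [Flat X.hom] : Flat (hull X).hom := by
  show Flat (Spec.map X.hom.appTop ≫ (Spec (CommRingCat.of R)).isoSpec.inv)
  haveI : Flat (Spec.map X.hom.appTop) := (HasRingHomProperty.Spec_iff (P := @Flat)).2 (flat_Γ X.hom)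
  infer_instance

variable (G : Over (Spec (CommRingCat.of R))) [GrpObj G] [Flat G.hom] [QuasiCompact G.hom] [QuasiSeparated G.hom]

instance isΓIso_two : IsΓIso (toHull G ⊗ₘ toHull G) :=
  isΓIso_tensor _ _

instance isΓIso_three : IsΓIso ((toHull G ⊗ₘ toHull G) ⊗ₘ toHull G) :=
  isΓIso_tensor _ _

instance isΓIso_left : IsΓIso (𝟙 (𝟙_ (Over (Spec (CommRingCat.of R)))) ⊗ₘ toHull G) :=
  isΓIso_tensor _ _

instance isΓIso_right : IsΓIso (toHull G ⊗ₘ 𝟙 (𝟙_ (Over (Spec (CommRingCat.of R))))) :=
  isΓIso_tensor _ _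

/-- The multiplication of the affinization. -/
def hullMul : hull G ⊗ hull G ⟶ hull G := desc (toHull G ⊗ₘ toHull G) (μ[G] ≫ toHull G)

/-- The inverse of the affinization. -/
def hullInv : hull G ⟶ hull G := desc (toHull G) (GrpObj.inv ≫ toHull G)

instance grpObjHull : GrpObj (hull G) where
  one := η[G] ≫ toHull G
  mul := hullMul G
  one_mul := by
    apply hom_ext (𝟙 (𝟙_ (Over (Spec (CommRingCat.of R)))) ⊗ₘ toHull G)
    rw [← tensorHom_id, tensorHom_comp_tensorHom_assoc, Category.id_comp, Category.comp_id,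
      show (η[G] ≫ toHull G) ⊗ₘ toHull G = (η[G] ▷ G) ≫ (toHull G ⊗ₘ toHull G) by
        rw [← tensorHom_id, tensorHom_comp_tensorHom, Category.id_comp],
      Category.assoc, hullMul, fac, MonObj.one_mul_assoc, id_tensorHom, MonoidalCategory.leftUnitor_naturality]
  mul_one := by
    apply hom_ext (toHull G ⊗ₘ 𝟙 (𝟙_ (Over (Spec (CommRingCat.of R)))))
    rw [← id_tensorHom, tensorHom_comp_tensorHom_assoc, Category.id_comp, Category.comp_id,
      show toHull G ⊗ₘ (η[G] ≫ toHull G) = (G ◁ η[G]) ≫ (toHull G ⊗ₘ toHull G) by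
        rw [← id_tensorHom, tensorHom_comp_tensorHom, Category.id_comp],
      Category.assoc, hullMul, fac, MonObj.mul_one_assoc, tensorHom_id, MonoidalCategory.rightUnitor_naturality]
  mul_assoc := by
    apply hom_ext ((toHull G ⊗ₘ toHull G) ⊗ₘ toHull G)
    rw [← tensorHom_id, tensorHom_comp_tensorHom_assoc, Category.comp_id, hullMul, fac,
      show (μ[G] ≫ toHull G) ⊗ₘ toHull G = (μ[G] ▷ G) ≫ (toHull G ⊗ₘ toHull G) by
        rw [← tensorHom_id, tensorHom_comp_tensorHom, Category.id_comp],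
      Category.assoc, fac, MonoidalCategory.associator_naturality_assoc, ← id_tensorHom,
      tensorHom_comp_tensorHom_assoc, Category.comp_id, fac,
      show toHull G ⊗ₘ (μ[G] ≫ toHull G) = (G ◁ μ[G]) ≫ (toHull G ⊗ₘ toHull G) by
        rw [← id_tensorHom, tensorHom_comp_tensorHom, Category.id_comp],
      Category.assoc, fac, MonObj.mul_assoc_assoc]
  inv := hullInv G
  left_inv := by
    apply hom_ext (toHull G)
    rw [← Category.assoc, comp_lift, hullInv, fac, Category.comp_id,
      show lift (GrpObj.inv ≫ toHull G) (toHull G) =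
          lift (GrpObj.inv (X := G)) (𝟙 G) ≫ (toHull G ⊗ₘ toHull G) by rw [lift_map, Category.id_comp],
      Category.assoc, hullMul, fac, GrpObj.left_inv_assoc, ← Category.assoc (toHull G)]
    rw [toUnit_unique (toHull G ≫ toUnit _) (toUnit G)]
  right_inv := by
    apply hom_ext (toHull G)
    rw [← Category.assoc, comp_lift, hullInv, fac, Category.comp_id,
      show lift (toHull G) (GrpObj.inv ≫ toHull G) =
          lift (𝟙 G) (GrpObj.inv (X := G)) ≫ (toHull G ⊗ₘ toHull G) by rw [lift_map, Category.id_comp],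
      Category.assoc, hullMul, fac, GrpObj.right_inv_assoc, ← Category.assoc (toHull G)]
    rw [toUnit_unique (toHull G ≫ toUnit _) (toUnit G)]

instance isMonHom_toHull : IsMonHom (toHull G) where
  one_hom := rfl
  mul_hom := (fac (toHull G ⊗ₘ toHull G) (μ[G] ≫ toHull G)).symm


end SubSpecLib.Hull
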