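import Groth.Agent.SubSpecLib.HullDim
import Groth.Agent.SubSpecLib.Fibre
import Groth.Agent.PureAssoLib.Basic
import Groth.Agent.GrpHomLib.Artin
import Groth.Agent.AlgSpLib.RelDim

/-! Affineness of the special fibre of a flat group with affine generic fibre over a discrete valuation ring. -/

set_option autoImplicit false
set_option linter.style.haveILetI false
set_option backward.isDefEq.respectTransparency false
set_option maxHeartbeats 1000000

universe u

open CategoryTheory CategoryTheory.Limits MonoidalCategory CartesianMonoidalCategory AlgebraicGeometry TopologicalSpace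
open scoped MonObj
open Groth.Agent.HomogDense Groth.Agent.GrpField

noncomputable section

namespace SubSpecLib

variable {R : Type u} [CommRing R] [IsDomain R] [IsDiscreteValuationRing R] {K : Type u} [Field K] [Algebra R K]
  [IsFractionRing R K] {k : Type u} [Field k] (φ : R →+* k)

/-- In a flat family the special fibre is at most as big as the generic one. -/
theorem dim_special_le (hφ : Function.Surjective φ) {G : Scheme.{u}} (f : G ⟶ Spec (CommRingCat.of R)) [Flat f]
    [LocallyOfFiniteType f] :
    topologicalKrullDim ↥(pullback f (Spec.map (CommRingCat.ofHom φ))) ≤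
      topologicalKrullDim ↥(pullback f (Spec.map (CommRingCat.ofHom (algebraMap R K)))) := by
  let p := Spec.map (CommRingCat.ofHom φ)
  let g := Spec.map (CommRingCat.ofHom (algebraMap R K))
  haveI : IsClosedImmersion p := IsClosedImmersion.spec_of_surjective _ hφ
  haveI : IsPreimmersion g := IsPreimmersion.of_isLocalization (nonZeroDivisors R)
  refine PureAssoLib.topologicalKrullDim_le_of_components fun Z hZ => ?_
  have hzc := hZ.1.isGenericPoint_genericPoint_closure
  let z := hZ.1.genericPoint
  have hzZ : closure {z} = Z := by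
    rw [hzc.def, (isClosed_of_mem_irreducibleComponents Z hZ).closure_eq]
  let z' : G := pullback.fst f p z
  have hfz : f z' = IsLocalRing.closedPoint R :=
    (fibreHomeo f p _ (sp_closedPoint φ hφ) z).2
  obtain ⟨ξ, hξ, hξz⟩ := exists_isMax_specializes z'
  have hfξ : f ξ = (⟨⊥, Ideal.isPrime_bot⟩ : PrimeSpectrum R) := by
    obtain ⟨ζ, hζ, hζη⟩ := Flat.generalizingMap f
      ((PrimeSpectrum.le_iff_specializes (⟨⊥, Ideal.isPrime_bot⟩ : PrimeSpectrum R) (f ξ)).1 bot_le)
    rw [← hξ ζ hζ, hζη]
  let C : Closeds G := ⟨closure {ξ}, isClosed_closure⟩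
  let X := (Scheme.IdealSheafData.vanishingIdeal C).subscheme
  let ιX : X ⟶ G := (Scheme.IdealSheafData.vanishingIdeal C).subschemeι
  have hrange : Set.range ιX = closure {ξ} := by
    rw [Scheme.IdealSheafData.range_subschemeι, Scheme.IdealSheafData.coe_support_vanishingIdeal]
    rfl
  haveI : IrreducibleSpace ↥X := by
    haveI : IrreducibleSpace ↥(Set.range ιX) :=
      isIrreducible_iff_irreducibleSpace.1 (hrange ▸ isIrreducible_singleton.closure)
    exact ιX.isEmbedding.toHomeomorph.irreducibleSpace_iff.2 inferInstance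
  let fX := ιX ≫ f
  haveI : Surjective fX := ⟨fun s => by
    by_cases hs : s.asIdeal = ⊥
    · obtain ⟨x, hx⟩ : ξ ∈ Set.range ιX := hrange ▸ subset_closure rfl
      exact ⟨x, by rw [Scheme.Hom.comp_apply, hx, hfξ]; exact PrimeSpectrum.ext hs.symm⟩
    · obtain ⟨x, hx⟩ : z' ∈ Set.range ιX := hrange ▸ hξz.mem_closure
      refine ⟨x, ?_⟩
      rw [Scheme.Hom.comp_apply, hx, hfz]
      exact PrimeSpectrum.ext (IsLocalRing.eq_maximalIdeal (Ideal.IsPrime.isMaximal s.isPrime hs)).symm⟩
  let a : pullback fX p ⟶ pullback f p := pullback.map _ _ _ _ ιX (𝟙 _) (𝟙 _) (Category.comp_id _) rfl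
  let b : pullback fX g ⟶ pullback f g := pullback.map _ _ _ _ ιX (𝟙 _) (𝟙 _) (Category.comp_id _) rfl
  have hemb : ∀ {F : Type u} [Field F] (q : Spec (CommRingCat.of F) ⟶ Spec (CommRingCat.of R)) [IsPreimmersion q],
      Topology.IsEmbedding (pullback.map fX q f q ιX (𝟙 _) (𝟙 _) (Category.comp_id _) rfl).base := by
    intro F _ q _
    refine Topology.IsEmbedding.of_comp (pullback.map fX q f q ιX (𝟙 _) (𝟙 _) (Category.comp_id _) rfl).continuous
      (pullback.fst f q).continuous ?_
    have h : (pullback.fst f q).base ∘ (pullback.map fX q f q ιX (𝟙 _) (𝟙 _) (Category.comp_id _) rfl).base =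
        ιX.base ∘ (pullback.fst fX q).base := funext fun z => by
      simp only [Function.comp_apply, ← Scheme.Hom.comp_apply]
      rw [pullback.lift_fst]
    exact h ▸ ιX.isEmbedding.comp (pullback.fst fX q).isEmbedding
  have hra : Set.range a = pullback.fst f p ⁻¹' closure {ξ} := by
    rw [Scheme.Pullback.range_map, hrange]
    simp
  obtain ⟨z₀, hz₀⟩ : z ∈ Set.range a := hra.ge hξz.mem_closure
  obtain ⟨Z', hZ', hzZ'⟩ := exists_mem_irreducibleComponents_subset_of_isIrreducible (closure {z₀})
    isIrreducible_singleton.closure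
  have haemb := hemb p
  have himg : a '' Z' = Z := by
    have hirr : IsIrreducible (a '' Z') := hZ'.1.image a a.continuous.continuousOn
    have hcl : IsClosed (a '' Z') := by
      have : Topology.IsClosedEmbedding a :=
        ⟨haemb, hra ▸ isClosed_closure.preimage (pullback.fst f p).continuous⟩
      exact this.isClosedMap _ (isClosed_of_mem_irreducibleComponents Z' hZ')
    have hsub : Z ⊆ a '' Z' := hzZ ▸
      closure_minimal (Set.singleton_subset_iff.2 ⟨z₀, hzZ' (subset_closure rfl), hz₀⟩) hcl
    exact (hZ.2 hirr hsub).antisymm hsub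
  let e : ↥Z' ≃ₜ ↥Z := (haemb.homeomorphImage Z').trans (Homeomorph.setCongr himg)
  rw [← e.isHomeomorph.topologicalKrullDim_eq, dim_special_component (K := K) φ hφ fX Z' hZ']
  exact (hemb g).isInducing.topologicalKrullDim_le

/-- Over a discrete valuation ring the special fibre of a flat group with affine generic fibre is finite over its
affinization. -/
theorem isFinite_special (G : Over (Spec (CommRingCat.of R))) [GrpObj G] [Flat G.hom] [LocallyOfFiniteType G.hom]
    [QuasiCompact G.hom] [QuasiSeparated G.hom]
    [IsAffine (Red.bc (Spec.map (CommRingCat.ofHom (algebraMap R K))) G).left] (hφ : Function.Surjective φ) :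
    IsFinite (Hull.fibreHull G (Spec.map (CommRingCat.ofHom φ))).left := by
  let p := Spec.map (CommRingCat.ofHom φ)
  let Gk := Red.bc p G
  let Hk := Red.bc p (Hull.hull G)
  let u : Gk ⟶ Hk := Hull.fibreHull G p
  haveI : IsMonHom u := inferInstanceAs (IsMonHom ((Over.pullback p).map (Hull.toHull G)))
  obtain ⟨hfl, hsur, hlft⟩ := Hull.special G φ hφ
  haveI : Flat u.left := hfl
  haveI : LocallyOfFiniteType Hk.hom := hlft
  haveI : LocallyOfFiniteType Gk.hom := MorphismProperty.pullback_snd (P := @LocallyOfFiniteType) _ _ ‹_›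
  haveI : QuasiCompact Gk.hom := MorphismProperty.pullback_snd (P := @QuasiCompact) _ _ ‹_›
  haveI : LocallyOfFiniteType u.left := by
    haveI : LocallyOfFiniteType (u.left ≫ Hk.hom) := by rw [Over.w]; infer_instance
    exact locallyOfFiniteType_of_comp u.left Hk.hom
  haveI : QuasiCompact u.left := by
    haveI : CompactSpace Gk.left := QuasiCompact.compactSpace_of_compactSpace Gk.hom
    exact quasiCompact_of_compactSpace _
  have hle : topologicalKrullDim ↥Gk.left ≤ topologicalKrullDim ↥Hk.left :=
    (dim_special_le (K := K) φ hφ G.hom).trans (Hull.dim_generic_le_special (K := K) G φ hφ)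
  let x := unitPt Gk
  have hux : u.left x = unitPt Hk := by
    show u.left (η[Gk].left _) = η[Hk].left _
    rw [← Scheme.Hom.comp_apply, ← Over.comp_left, IsMonHom.one_hom]
  have hadd := FibDimLib.localDim_eq_add_fibreDimAt Hk.hom u.left x
  rw [show u.left.base x = unitPt Hk from hux, FibDimLib.localDim_eq_stalk_of_isClosed Gk.hom (isClosed_unitPt Gk),
    FibDimLib.localDim_eq_stalk_of_isClosed Hk.hom (isClosed_unitPt Hk)] at hadd
  rw [dim_eq_stalk_unit, dim_eq_stalk_unit] at hle
  have h0 : FlatMor.fibreDimAt u.left x = 0 := by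
    haveI : IsLocallyNoetherian Hk.left := LocallyOfFiniteType.isLocallyNoetherian Hk.hom
    have hb : ringKrullDim (Hk.left.presheaf.stalk (unitPt Hk)) ≠ ⊥ := ringKrullDim_ne_bot
    have ht : ringKrullDim (Hk.left.presheaf.stalk (unitPt Hk)) ≠ ⊤ := ringKrullDim_ne_top
    have h1 : 0 ≤ FlatMor.fibreDimAt u.left x := FibDimLib.localDim_nonneg _
    rw [hadd] at hle
    revert hle h1 hb ht
    generalize ringKrullDim (Hk.left.presheaf.stalk (unitPt Hk)) = d
    generalize FlatMor.fibreDimAt u.left x = f
    intro hle hb ht h1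
    cases d with
    | bot => exact absurd rfl hb
    | coe d =>
      cases f with
      | bot => simp at h1
      | coe f =>
        rw [← WithBot.coe_add, WithBot.coe_le_coe] at hle
        have hdt : d ≠ ⊤ := fun h => ht (by rw [h]; rfl)
        have : f ≤ 0 := by
          exact (WithTop.add_le_add_iff_left hdt).1 (hle.trans_eq (add_zero d).symm)
        exact_mod_cast le_antisymm this zero_le
  haveI : LocallyQuasiFinite u.left := Groth.Agent.GrpHom.lqf_of_quasiFiniteAt u x
    (Scheme.Hom.quasiFiniteAt_iff_isOpen_singleton_asFiber.2 ((AlgSpLib.fibreDimAt_eq_zero_iff _ _).1 h0))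
  exact Groth.Agent.GrpHom.isFinite_of_lqf u

/-- The special fibre of a flat group with affine generic fibre is affine. -/
theorem isAffine_special (G : Over (Spec (CommRingCat.of R))) [GrpObj G] [Flat G.hom] [LocallyOfFiniteType G.hom]
    [QuasiCompact G.hom] [QuasiSeparated G.hom]
    [IsAffine (Red.bc (Spec.map (CommRingCat.ofHom (algebraMap R K))) G).left] (hφ : Function.Surjective φ) :
    IsAffine (Red.bc (Spec.map (CommRingCat.ofHom φ)) G).left := by
  haveI := isFinite_special φ (K := K) G hφ
  exact isAffine_of_isAffineHom (Hull.fibreHull G (Spec.map (CommRingCat.ofHom φ))).left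

end SubSpecLib
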