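import Groth.Agent.SubSpecLib.Unip
import Groth.Agent.SubSpecLib.Affine

/-! Torsion points, subtori and functions killed by differences. -/

set_option autoImplicit false
set_option linter.style.haveILetI false
set_option linter.unusedSectionVars false
set_option backward.isDefEq.respectTransparency false
set_option maxHeartbeats 1000000
set_option synthInstance.maxHeartbeats 400000

universe u

open CategoryTheory CategoryTheory.Limits MonoidalCategory CartesianMonoidalCategory AlgebraicGeometry WithConv
open scoped MonObj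
open CoactBr (sp)

noncomputable section

attribute [-instance] CategoryTheory.Hom.commGroup

namespace SubSpecLib.Unip

open Groth.Agent Groth.Agent.BorelLib
attribute [local instance] pTop pTopTensor

/-- Rational points of finite order prime to the characteristic. -/
def torSet {k : Type u} [Field k] (B : Over (Spec (CommRingCat.of k))) [GrpObj B] :
    Set (𝟙_ (Over (Spec (CommRingCat.of k))) ⟶ B) := {y | ∃ n : ℕ, (n : k) ≠ 0 ∧ y ^ n = 1}

theorem isUnit_natCast_unit {k : Type u} [Field k] {n : ℕ} (hn : (n : k) ≠ 0) :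
    IsUnit (n : Γ((𝟙_ (Over (Spec (CommRingCat.of k)))).left, ⊤)) := by
  have h := (IsUnit.mk0 _ hn).map (Scheme.ΓSpecIso (CommRingCat.of k)).inv.hom
  rwa [map_natCast] at h

theorem exists_isUnit_natCast {k : Type u} [Field k] {R : Type u} [CommRing R] (ψ : k →+* R) {n : ℕ}
    (hn : (n : k) ≠ 0) : IsUnit (n : R) := by
  have h := (IsUnit.mk0 _ hn).map ψ
  rwa [map_natCast] at h

/-- Finitely many torsion points prime to the characteristic exclude subtori. -/
theorem hasNoSubtorus_of_finite {k : Type u} [Field k] [IsAlgClosed k] (B : Over (Spec (CommRingCat.of k))) [GrpObj B]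
    [IsAffine B.left] [Smooth B.hom] (hfin : (torSet B).Finite) : Red.HasNoSubtorus k B := by
  obtain ⟨A, _, _, v, hv, hA, -⟩ := exists_setup B
  haveI := hv
  haveI := hA
  intro T _ j _ _ hT
  haveI := isClosedImmersion_of_torus v j hT
  haveI : LocallyOfFiniteType T.hom := by rw [← Over.w j]; infer_instance
  haveI : Smooth T.hom := (AlbLib.smooth_connected_of_isTorus hT).1
  have ht := isTor_ptsSub v j hT
  refine ptsSub_eq_bot v (i := j) ?_
  have hPT : {x : Pt k A | IsPT x}.Finite := by
    refine (hfin.preimage ((ptEquiv v).injective.injOn)).subset fun x hx => ?_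
    obtain ⟨n, hn, hxn⟩ := hx
    exact ⟨n, hn, by rw [← map_pow, hxn, map_one]⟩
  have hsing : ∀ x : Pt k A, IsClosed ({x} : Set (Pt k A)) := fun x => isClosed_iff.2 fun y hy => by
    refine Set.mem_singleton_iff.2 (WithConv.ext (AlgHom.ext fun a => ?_))
    have h := hy (a - algebraMap k A (x.ofConv a)) fun z hz => by
      rw [Set.mem_singleton_iff.1 hz, map_sub, AlgHom.commutes, Algebra.algebraMap_self, RingHom.id_apply, sub_self]
    rwa [map_sub, AlgHom.commutes, Algebra.algebraMap_self, RingHom.id_apply, sub_eq_zero] at h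
  let F : Set (Pt k A) := {x | x ∈ ptsSub v j ∧ IsPT x}
  have hF : F.Finite := hPT.subset fun x hx => hx.2
  have hFc : IsClosed F := by
    rw [← Set.biUnion_of_singleton F]
    exact hF.isClosed_biUnion fun x _ => hsing x
  have hTF : (ptsSub v j : Set (Pt k A)) ⊆ F := fun x hx => hFc.closure_eq ▸ ht.dense hx
  refine le_bot_iff.1 fun x hx => Subgroup.mem_bot.2 ?_
  by_contra hne
  obtain ⟨z, -, hz1, hz2⟩ := isPreconnected_closed_iff.1 ht.conn {1} (F \ {1}) (hsing 1)
    (by rw [← Set.biUnion_of_singleton (F \ {1})]; exact (hF.subset Set.diff_subset).isClosed_biUnion fun x _ => hsing x)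
    (fun y hy => (Classical.em (y = 1)).imp id fun h => ⟨hTF hy, h⟩) ⟨1, one_mem _, rfl⟩ ⟨x, hx, hTF hx, hne⟩
  exact hz2.2 hz1

/-- On an affine group whose functions are killed by differences torsion points are trivial. -/
theorem eq_one_of_isUnipGrp {S : Scheme.{u}} {H : Over S} [GrpObj H] [IsAffine H.left] (hH : IsUnipGrp H) {T : Over S}
    (x : T ⟶ H) {n : ℕ} (hn : IsUnit (n : Γ(T.left, ⊤))) (hx : x ^ n = 1) : x = 1 :=
  Over.OverMorphism.ext (ext_of_isAffine (CommRingCat.hom_ext (RingHom.ext fun f =>
    appTop_eq_of_torsion (hH f) x hn hx)))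

theorem torSet_finite_of_isUnipGrp {k : Type u} [Field k] (B : Over (Spec (CommRingCat.of k))) [GrpObj B]
    [IsAffine B.left] (hB : IsUnipGrp B) : (torSet B).Finite :=
  (Set.finite_singleton (1 : 𝟙_ (Over (Spec (CommRingCat.of k))) ⟶ B)).subset fun y ⟨n, hn, hy⟩ =>
    eq_one_of_isUnipGrp hB y (isUnit_natCast_unit hn) hy

theorem torSet_finite_of_injective {k : Type u} [Field k] {B C : Over (Spec (CommRingCat.of k))} [GrpObj B]
    [GrpObj C] (w : B ⟶ C) [IsMonHom w] [Mono w] (hC : (torSet C).Finite) : (torSet B).Finite :=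
  (hC.preimage (f := fun y => y ≫ w) (fun _ _ _ _ h => (cancel_mono w).1 h)).subset fun y ⟨n, hn, hy⟩ =>
    ⟨n, hn, by rw [← MonObj.pow_comp, hy, MonObj.one_comp]⟩

/-- Base change of rational points. -/
def bcPt {k K : Type u} [Field k] [Field K] (q : Spec (CommRingCat.of K) ⟶ Spec (CommRingCat.of k))
    (B : Over (Spec (CommRingCat.of k))) [GrpObj B] :
    (𝟙_ (Over (Spec (CommRingCat.of k))) ⟶ B) →* (𝟙_ (Over (Spec (CommRingCat.of K))) ⟶ Red.bc q B) where
  toFun y := Functor.LaxMonoidal.ε (Over.pullback q) ≫ (Over.pullback q).map y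
  map_one' := by rw [Functor.map_one, MonObj.comp_one]
  map_mul' x y := by rw [Functor.map_mul, MonObj.comp_mul]

theorem bcPt_injective {k K : Type u} [Field k] [Field K] (q : Spec (CommRingCat.of K) ⟶ Spec (CommRingCat.of k))
    (B : Over (Spec (CommRingCat.of k))) [GrpObj B] [LocallyOfFiniteType B.hom] : Function.Injective (bcPt q B) := by
  intro x y h
  have h' : (Over.pullback q).map x = (Over.pullback q).map y := (cancel_epi (Functor.LaxMonoidal.ε (Over.pullback q))).1 h
  refine Over.OverMorphism.ext ?_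
  have h1 := congrArg (fun m => m.left ≫ pullback.fst B.hom q) h'
  simp only [ActBC.pullback_map_left_fst] at h1
  haveI : IsSeparated B.hom := Groth.Agent.GrpField.isSeparated_grp (G := B)
  haveI : IsSchemeTheoreticallyDominant q := by
    rw [← Spec.map_preimage q]
    exact TorsExtLib.isSchemeTheoreticallyDominant_SpecMap (Spec.preimage q).hom (RingHom.injective _)
  haveI : QuasiCompact q := inferInstance
  haveI : Flat (𝟙_ (Over (Spec (CommRingCat.of k)))).hom := inferInstanceAs (Flat (𝟙 _))
  haveI : IsSchemeTheoreticallyDominant (pullback.fst (𝟙_ (Over (Spec (CommRingCat.of k)))).hom q) :=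
    IsSchemeTheoreticallyDominant.of_isPullback
      (IsPullback.of_hasPullback (𝟙_ (Over (Spec (CommRingCat.of k)))).hom q).flip
  exact MiscFlat6.ext_of_isSchemeTheoreticallyDominant (pullback.fst _ q) B.hom x.left y.left
    ((Over.w x).trans (Over.w y).symm) h1

theorem torSet_finite_of_bc {k K : Type u} [Field k] [Field K] (q : Spec (CommRingCat.of K) ⟶ Spec (CommRingCat.of k))
    (B : Over (Spec (CommRingCat.of k))) [GrpObj B] [LocallyOfFiniteType B.hom]
    (h : (torSet (Red.bc q B)).Finite) : (torSet B).Finite :=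
  (h.preimage (bcPt_injective q B).injOn).subset fun y ⟨n, hn, hy⟩ =>
    ⟨n, fun h0 => hn ((Spec.preimage q).hom.injective (by
      show (Spec.preimage q).hom (n : k) = (Spec.preimage q).hom 0
      rw [map_natCast, map_zero]; exact h0)), by rw [← map_pow, hy, map_one]⟩

/-- Functions killed by differences make a finite kernel of the affinization absorb the torsion points. -/
theorem torSet_finite_of_finite {Ω : Type u} [Field Ω] [IsAlgClosed Ω] {X Y : Over (Spec (CommRingCat.of Ω))}
    [GrpObj X] [GrpObj Y] (u : X ⟶ Y) [IsFinite u.left] [LocallyOfFiniteType X.hom]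
    (h : ∀ y ∈ torSet X, y ≫ u = 1) : (torSet X).Finite := by
  let c : PrimeSpectrum Ω := IsLocalRing.closedPoint Ω
  let e : Y.left := (1 : 𝟙_ (Over (Spec (CommRingCat.of Ω))) ⟶ Y).left c
  have hfin : (u.left ⁻¹' {e}).Finite := u.left.finite_preimage_singleton e
  refine Set.Finite.of_finite_image (f := fun y => y.left c) (hfin.subset ?_) ?_
  · rintro _ ⟨y, hy, rfl⟩
    show u.left (y.left c) = e
    rw [← Scheme.Hom.comp_apply, ← Over.comp_left, h y hy]
  · intro x _ y _ hxy
    exact Over.OverMorphism.ext (congrArg Subtype.val ((pointEquivClosedPoint X.hom).injective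
      (a₁ := ⟨x.left, Over.w x⟩) (a₂ := ⟨y.left, Over.w y⟩) (Subtype.ext hxy)))

end SubSpecLib.Unip
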