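import Groth.Agent.SubSpecLib.Hull

/-! The fibres of the canonical morphism to the spectrum of global functions over a valuation ring. -/

set_option autoImplicit false
set_option linter.style.haveILetI false
set_option backward.isDefEq.respectTransparency false
set_option maxHeartbeats 1000000

universe u

open CategoryTheory CategoryTheory.Limits MonoidalCategory CartesianMonoidalCategory AlgebraicGeometry TopologicalSpace Opposite

noncomputable section

namespace SubSpecLib.Hull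

variable {R : Type u} [CommRing R] [IsDomain R] [ValuationRing R]

theorem exists_dvd_all {I : Ideal R} {ι : Type*} (s : Finset ι) (c : ι → R) (hc : ∀ i ∈ s, c i ∈ I) :
    ∃ c₀ ∈ I, ∀ i ∈ s, c₀ ∣ c i := by
  classical
  induction s using Finset.induction with
  | empty => exact ⟨0, I.zero_mem, by simp⟩
  | insert j s hj ih =>
    obtain ⟨c₀, h₀, hd⟩ := ih fun i hi => hc i (Finset.mem_insert_of_mem hi)
    rcases ValuationRing.dvd_total (c j) c₀ with h | h
    · refine ⟨c j, hc j (Finset.mem_insert_self _ _), fun i hi => ?_⟩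
      rcases Finset.mem_insert.1 hi with rfl | hi
      · exact dvd_rfl
      · exact h.trans (hd i hi)
    · refine ⟨c₀, h₀, fun i hi => ?_⟩
      rcases Finset.mem_insert.1 hi with rfl | hi
      · exact h
      · exact hd i hi

theorem exists_smul_of_mem_map {B : Type u} [CommRing B] [Algebra R B] {I : Ideal R} {b : B}
    (hb : b ∈ I.map (algebraMap R B)) : ∃ c ∈ I, ∃ b' : B, b = c • b' := by
  induction hb using Submodule.span_induction with
  | mem x hx =>
    obtain ⟨c, hc, rfl⟩ := hx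
    exact ⟨c, hc, 1, (Algebra.algebraMap_eq_smul_one c)⟩
  | zero => exact ⟨0, I.zero_mem, 0, by simp⟩
  | add x y _ _ ihx ihy =>
    obtain ⟨c, hc, x', rfl⟩ := ihx
    obtain ⟨d, hd, y', rfl⟩ := ihy
    rcases ValuationRing.dvd_total c d with ⟨e, rfl⟩ | ⟨e, rfl⟩
    · exact ⟨c, hc, x' + e • y', by rw [smul_add, mul_smul]⟩
    · exact ⟨d, hd, e • x' + y', by rw [smul_add, mul_smul]⟩
  | smul r x _ ih =>
    obtain ⟨c, hc, x', rfl⟩ := ih
    exact ⟨c, hc, r * x', by rw [smul_eq_mul, mul_smul_comm]⟩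

variable {X : Scheme.{u}} (f : X ⟶ Spec (CommRingCat.of R))

/-- The scalar as a function on an open. -/
def sc (U : X.Opens) : R →+* Γ(X, U) :=
  ((Scheme.ΓSpecIso (CommRingCat.of R)).inv ≫ f.appTop ≫ X.presheaf.map (homOfLE (le_top : U ≤ ⊤)).op).hom

theorem map_sc {U V : X.Opens} (h : V ≤ U) (r : R) : X.presheaf.map (homOfLE h).op (sc f U r) = sc f V r := by
  show (((Scheme.ΓSpecIso (CommRingCat.of R)).inv ≫ f.appTop ≫ X.presheaf.map (homOfLE (le_top : U ≤ ⊤)).op) ≫
    X.presheaf.map (homOfLE h).op).hom r = _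
  simp only [sc, Category.assoc, ← Functor.map_comp]
  rfl

theorem exists_mul_local {F : Type u} [Field F] (φ : R →+* F) (hφ : Function.Surjective φ) (a : Γ(X, ⊤))
    (ha : (pullback.fst f (Spec.map (CommRingCat.ofHom φ))).appTop a = 0) (W : X.Opens) (hW : IsAffineOpen W) :
    ∃ c ∈ RingHom.ker φ, ∃ b : Γ(X, W), X.presheaf.map (homOfLE (le_top : W ≤ ⊤)).op a = sc f W c * b := by
  letI : Algebra R Γ(X, W) := (sc f W).toAlgebra
  have hfs : hW.fromSpec.appTop = X.presheaf.map (homOfLE (le_top : W ≤ ⊤)).op ≫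
      (Scheme.ΓSpecIso Γ(X, W)).inv := by
    show hW.fromSpec.app ⊤ = _
    rw [hW.fromSpec_app_of_le ⊤ le_top]
    exact congrArg (_ ≫ ·) (by
      rw [show (homOfLE (le_top : hW.fromSpec ⁻¹ᵁ ⊤ ≤ ⊤)).op = 𝟙 _ from Subsingleton.elim _ _]
      simp only [CategoryTheory.Functor.map_id, Category.comp_id])
  have hι : hW.fromSpec ≫ f = Spec.map (CommRingCat.ofHom (sc f W)) := by
    refine ext_of_isAffine ?_
    rw [Scheme.Hom.comp_appTop, hfs, ← cancel_epi (Scheme.ΓSpecIso (CommRingCat.of R)).inv,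
      ← Scheme.ΓSpecIso_inv_naturality]
    simp only [sc, CommRingCat.ofHom_hom, Category.assoc]
    rfl
  let I : Ideal Γ(X, W) := (RingHom.ker φ).map (algebraMap R Γ(X, W))
  suffices h : X.presheaf.map (homOfLE (le_top : W ≤ ⊤)).op a ∈ I by
    obtain ⟨c, hc, b, hb⟩ := exists_smul_of_mem_map h
    exact ⟨c, hc, b, by rw [hb, Algebra.smul_def]; rfl⟩
  let π : Γ(X, W) →+* Γ(X, W) ⧸ I := Ideal.Quotient.mk I
  have hker : RingHom.ker φ ≤ RingHom.ker (π.comp (sc f W)) := fun r hr => by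
    rw [RingHom.mem_ker, RingHom.comp_apply, Ideal.Quotient.eq_zero_iff_mem]
    exact Ideal.mem_map_of_mem _ hr
  let ψ : F →+* Γ(X, W) ⧸ I := φ.liftOfSurjective hφ ⟨π.comp (sc f W), hker⟩
  have hψ : ψ.comp φ = π.comp (sc f W) := φ.liftOfRightInverse_comp _ _ _
  let t : Spec (CommRingCat.of (Γ(X, W) ⧸ I)) ⟶ pullback f (Spec.map (CommRingCat.ofHom φ)) :=
    pullback.lift (Spec.map (CommRingCat.ofHom π) ≫ hW.fromSpec) (Spec.map (CommRingCat.ofHom ψ)) (by
      refine (Category.assoc _ _ _).trans ((congrArg (Spec.map (CommRingCat.ofHom π) ≫ ·) hι).trans ?_)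
      refine (Spec.map_comp _ _).symm.trans (Eq.trans ?_ (Spec.map_comp _ _))
      exact congrArg (fun r => Spec.map (CommRingCat.ofHom r)) hψ.symm)
  have h0 : (Spec.map (CommRingCat.ofHom π) ≫ hW.fromSpec).appTop a = 0 := by
    rw [← (show t ≫ pullback.fst f (Spec.map (CommRingCat.ofHom φ)) = Spec.map (CommRingCat.ofHom π) ≫ hW.fromSpec
        from pullback.lift_fst _ _ _), Scheme.Hom.comp_appTop, CommRingCat.comp_apply, ha, map_zero]
  rw [Scheme.Hom.comp_appTop, hfs, Category.assoc, ← Scheme.ΓSpecIso_inv_naturality, CommRingCat.comp_apply,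
    CommRingCat.comp_apply] at h0
  exact Ideal.Quotient.eq_zero_iff_mem.1 ((map_eq_zero_iff _
    (ConcreteCategory.bijective_of_isIso (Scheme.ΓSpecIso (CommRingCat.of (Γ(X, W) ⧸ I))).inv).1).1 h0)

/-- A global function vanishing on the special fibre is divisible by a scalar from the kernel. -/
theorem exists_mul_global [Flat f] [QuasiCompact f] {F : Type u} [Field F] (φ : R →+* F) (hφ : Function.Surjective φ)
    (a : Γ(X, ⊤)) (ha : (pullback.fst f (Spec.map (CommRingCat.ofHom φ))).appTop a = 0) :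
    ∃ c ∈ RingHom.ker φ, ∃ b : Γ(X, ⊤), a = sc f ⊤ c * b := by
  haveI : CompactSpace X := QuasiCompact.compactSpace_of_compactSpace f
  choose c hc b hb using fun W : X.affineOpens => exists_mul_local f φ hφ a ha W.1 W.2
  obtain ⟨t, ht⟩ := isCompact_univ.elim_finite_subcover (fun W : X.affineOpens => ((W : X.Opens) : Set X))
    (fun W => W.1.isOpen) (fun x _ => by
      obtain ⟨U, hU, hx, -⟩ := exists_isAffineOpen_mem_and_subset (x := x) (U := ⊤) trivial
      exact Set.mem_iUnion.2 ⟨⟨U, hU⟩, hx⟩)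
  obtain ⟨c₀, hc₀, hd⟩ := exists_dvd_all t c (fun W _ => hc W)
  refine ⟨c₀, hc₀, ?_⟩
  choose e he using fun W : {W // W ∈ t} => hd W.1 W.2
  let U : {W // W ∈ t} → X.Opens := fun W => W.1.1
  let g : (W : {W // W ∈ t}) → Γ(X, U W) := fun W => sc f (U W) (e W) * b W.1
  have hg : ∀ W, X.presheaf.map (homOfLE (le_top : U W ≤ ⊤)).op a = sc f (U W) c₀ * g W := fun W => by
    rw [show X.presheaf.map (homOfLE (le_top : U W ≤ ⊤)).op a = _ from hb W.1]
    simp only [g, U]
    rw [← mul_assoc, ← map_mul, ← he W]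
  by_cases h0 : c₀ = 0
  · refine ⟨0, ?_⟩
    rw [mul_zero]
    have hcov : ⊤ ≤ iSup U := fun x _ => by
      obtain ⟨W, hW, hx⟩ := Set.mem_iUnion₂.1 (ht (Set.mem_univ x))
      exact Opens.mem_iSup.2 ⟨⟨W, hW⟩, hx⟩
    refine X.sheaf.eq_of_locally_eq' U ⊤ (fun W => homOfLE le_top) hcov a 0 fun W => ?_
    rw [map_zero]
    exact (hg W).trans (by rw [h0, map_zero, zero_mul])
  have hcov : ⊤ ≤ iSup U := fun x _ => by
    obtain ⟨W, hW, hx⟩ := Set.mem_iUnion₂.1 (ht (Set.mem_univ x))
    exact Opens.mem_iSup.2 ⟨⟨W, hW⟩, hx⟩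
  have hcompat : TopCat.Presheaf.IsCompatible X.presheaf U g := fun i j => by
    apply mul_left_injective_of_flat f h0 (U i ⊓ U j)
    show sc f _ c₀ * X.presheaf.map (homOfLE (inf_le_left : U i ⊓ U j ≤ U i)).op (g i) =
      sc f _ c₀ * X.presheaf.map (homOfLE (inf_le_right : U i ⊓ U j ≤ U j)).op (g j)
    rw [← map_sc f (inf_le_left : U i ⊓ U j ≤ U i), ← map_mul, ← hg i,
      map_sc f (inf_le_left : U i ⊓ U j ≤ U i), ← map_sc f (inf_le_right : U i ⊓ U j ≤ U j), ← map_mul, ← hg j,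
      ← CommRingCat.comp_apply, ← CommRingCat.comp_apply, ← Functor.map_comp, ← Functor.map_comp]
    rfl
  obtain ⟨b₀, hb₀, -⟩ := X.sheaf.existsUnique_gluing' U ⊤ (fun W => homOfLE le_top) hcov g hcompat
  refine ⟨b₀, X.sheaf.eq_of_locally_eq' U ⊤ (fun W => homOfLE le_top) hcov _ _ fun W => ?_⟩
  show X.presheaf.map _ a = X.presheaf.map _ _
  rw [map_mul, map_sc, hg W]
  exact congrArg (sc f (U W) c₀ * ·) (hb₀ W).symm

omit [IsDomain R] [ValuationRing R] in
theorem ker_eq_bot_of_injective {Z W : Scheme.{u}} [IsAffine W] (m : Z ⟶ W) [QuasiCompact m]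
    (h : Function.Injective m.appTop) : m.ker = ⊥ := by
  refine Scheme.IdealSheafData.ext_of_isAffine ?_
  rw [Scheme.Hom.ker_apply, Scheme.IdealSheafData.ideal_bot, Pi.bot_apply, ← RingHom.injective_iff_ker_eq_bot]
  exact h

/-- On the special fibre, the canonical morphism is injective on global functions. -/
theorem injective_special [Flat f] [QuasiCompact f] (g : Spec Γ(X, ⊤) ⟶ Spec (CommRingCat.of R)) (hg : X.toSpecΓ ≫ g = f)
    {F : Type u} [Field F] (φ : R →+* F) (hφ : Function.Surjective φ) :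
    Function.Injective (pullback.map f (Spec.map (CommRingCat.ofHom φ)) g (Spec.map (CommRingCat.ofHom φ))
      X.toSpecΓ (𝟙 _) (𝟙 _) ((Category.comp_id f).trans hg.symm)
      ((Category.comp_id _).trans (Category.id_comp _).symm)).appTop := by
  let j := Spec.map (CommRingCat.ofHom φ)
  let m := pullback.map f j g j X.toSpecΓ (𝟙 _) (𝟙 _) ((Category.comp_id f).trans hg.symm)
      ((Category.comp_id _).trans (Category.id_comp _).symm)
  haveI : IsClosedImmersion j := IsClosedImmersion.spec_of_surjective _ hφ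
  change Function.Injective m.appTop
  rw [injective_iff_map_eq_zero]
  intro y hy
  obtain ⟨a', rfl⟩ := (pullback.fst g j).app_surjective ⊤ (isAffineOpen_top _) y
  have ha : (pullback.fst f j).appTop (X.toSpecΓ.appTop a') = 0 := by
    rw [← CommRingCat.comp_apply, ← Scheme.Hom.comp_appTop,
      ← (show m ≫ pullback.fst g j = pullback.fst f j ≫ X.toSpecΓ from pullback.lift_fst _ _ _),
      Scheme.Hom.comp_appTop, CommRingCat.comp_apply]
    exact hy
  obtain ⟨c, hc, b, hb⟩ := exists_mul_global f φ hφ _ ha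
  haveI : IsIso X.toSpecΓ.appTop := by rw [Scheme.toSpecΓ_appTop]; infer_instance
  obtain ⟨b', rfl⟩ := (ConcreteCategory.bijective_of_isIso X.toSpecΓ.appTop).2 b
  have hsc : sc f ⊤ c = X.toSpecΓ.appTop (sc g ⊤ c) := by
    have e : ∀ {Y : Scheme.{u}} (h : Y ⟶ Spec (CommRingCat.of R)),
        sc h ⊤ c = h.appTop ((Scheme.ΓSpecIso (CommRingCat.of R)).inv c) := fun h => by
      show ((Scheme.ΓSpecIso (CommRingCat.of R)).inv ≫ h.appTop ≫ _).hom c = _
      rw [show (homOfLE (le_top : (⊤ : Scheme.Opens _) ≤ ⊤)).op = 𝟙 _ from Subsingleton.elim _ _,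
        CategoryTheory.Functor.map_id, Category.comp_id]
      rfl
    rw [e f, e g, ← CommRingCat.comp_apply, ← CommRingCat.comp_apply, ← Scheme.Hom.comp_appTop, hg]
    rfl
  rw [hsc, ← map_mul] at hb
  rw [(ConcreteCategory.bijective_of_isIso X.toSpecΓ.appTop).1 hb, map_mul]
  suffices h0 : (pullback.fst g j).appTop (sc g ⊤ c) = 0 by
    show (pullback.fst g j).appTop (sc g ⊤ c) * _ = 0
    rw [h0, zero_mul]
  have e2 : sc g ⊤ c = g.appTop ((Scheme.ΓSpecIso (CommRingCat.of R)).inv c) := by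
    show ((Scheme.ΓSpecIso (CommRingCat.of R)).inv ≫ g.appTop ≫ _).hom c = _
    rw [show (homOfLE (le_top : (⊤ : Scheme.Opens _) ≤ ⊤)).op = 𝟙 _ from Subsingleton.elim _ _,
      CategoryTheory.Functor.map_id, Category.comp_id]
    rfl
  rw [e2, ← CommRingCat.comp_apply, ← CommRingCat.comp_apply, ← Scheme.Hom.comp_appTop, pullback.condition,
    Scheme.Hom.comp_appTop, ← Category.assoc, ← Scheme.ΓSpecIso_inv_naturality, Category.assoc,
    CommRingCat.comp_apply]
  rw [show (CommRingCat.ofHom φ) c = 0 from hc, map_zero]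

end SubSpecLib.Hull
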