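import Groth.Agent.SubSpecLib.Special
import Groth.Agent.SubSpecLib.Closure

/-! Specialization of smooth connected closed subgroups over a valuation ring. -/

set_option autoImplicit false
set_option linter.style.haveILetI false
set_option backward.isDefEq.respectTransparency false
set_option maxHeartbeats 1000000

universe u

open CategoryTheory CategoryTheory.Limits MonoidalCategory CartesianMonoidalCategory AlgebraicGeometry TopologicalSpace
open scoped MonObj
open Groth.Agent.HomogDense Groth.Agent.GrpField

noncomputable section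

attribute [-instance] CategoryTheory.Hom.commGroup

namespace SubSpecLib

/-- A flat subgroup over a valuation ring extending a given subgroup of the generic fibre, with the
reduced identity component of its special fibre. -/
structure Spec' {V : Type u} [CommRing V] {K : Type u} [Field K] [Algebra V K] {k : Type u} [Field k] (φ : V →+* k)
    (G : Over (Spec (CommRingCat.of V))) [GrpObj G] (HK : Over (Spec (CommRingCat.of K))) [GrpObj HK]
    (i : HK ⟶ Red.bc (Spec.map (CommRingCat.ofHom (algebraMap V K))) G) where
  H : Over (Spec (CommRingCat.of V))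
  [grpH : GrpObj H]
  j : H ⟶ G
  φH : HK.left ⟶ H.left
  hom_j : IsMonHom j
  closed_j : IsClosedImmersion j.left
  flat : Flat H.hom
  pullback_gen : IsPullback φH HK.hom H.hom (Spec.map (CommRingCat.ofHom (algebraMap V K)))
  fac : φH ≫ j.left = i.left ≫ pullback.fst G.hom (Spec.map (CommRingCat.ofHom (algebraMap V K)))
  B : Over (Spec (CommRingCat.of k))
  [grpB : GrpObj B]
  r : B ⟶ Red.bc (Spec.map (CommRingCat.ofHom φ)) H
  hom_r : IsMonHom r
  closed_r : IsClosedImmersion r.left
  smooth : Smooth B.hom
  connected : ConnectedSpace ↥B.left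
  qc : QuasiCompact B.hom
  dim_eq : topologicalKrullDim ↥B.left = topologicalKrullDim ↥HK.left

attribute [instance] Spec'.grpH Spec'.grpB

variable {V : Type u} [CommRing V] [IsDomain V] [ValuationRing V] {K : Type u} [Field K] [Algebra V K]
  [IsFractionRing V K] {k : Type u} [Field k] [IsAlgClosed k] {φ : V →+* k}

theorem nonempty_spec' (hφ : Function.Surjective φ) (G : Over (Spec (CommRingCat.of V))) [GrpObj G]
    [LocallyOfFiniteType G.hom] [QuasiCompact G.hom] (HK : Over (Spec (CommRingCat.of K))) [GrpObj HK] [Smooth HK.hom]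
    [ConnectedSpace ↥HK.left] (i : HK ⟶ Red.bc (Spec.map (CommRingCat.ofHom (algebraMap V K))) G) [IsMonHom i]
    [IsClosedImmersion i.left] : Nonempty (Spec' φ G HK i) := by
  let g := Spec.map (CommRingCat.ofHom (algebraMap V K))
  let p := Spec.map (CommRingCat.ofHom φ)
  haveI : IsClosedImmersion p := IsClosedImmersion.spec_of_surjective _ hφ
  obtain ⟨H, hH, j, φH, hj, hjc, hfl, hpb, hfac, hker⟩ := exists_closure (K := K) (G := G) (HK := HK) i
  haveI := hj
  haveI := hjc
  haveI : LocallyOfFiniteType H.hom := by rw [← Over.w j]; infer_instance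
  haveI : QuasiCompact H.hom := by rw [← Over.w j]; infer_instance
  haveI : QuasiCompact φH := MorphismProperty.of_isPullback hpb.flip (inferInstance : QuasiCompact g)
  haveI : IrreducibleSpace ↥HK.left := by
    obtain ⟨z, -, -, h⟩ := exists_Z0_gen HK
    rw [irreducibleSpace_def, Set.top_eq_univ, ← Z0_eq_univ (G := HK), h]
    exact isIrreducible_singleton.closure
  haveI : IsSchemeTheoreticallyDominant φH := ⟨hker⟩
  haveI : IrreducibleSpace ↥H.left := by
    have h := ((IrreducibleSpace.isIrreducible_univ ↥HK.left).image φH φH.continuous.continuousOn).closure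
    rw [Set.image_univ, φH.denseRange.closure_eq] at h
    exact (irreducibleSpace_def _).2 h
  haveI : Surjective H.hom := ⟨fun s => ⟨η[H].left s, hom_unit_apply H s⟩⟩
  let Hs := Red.bc p H
  haveI : LocallyOfFiniteType Hs.hom := MorphismProperty.pullback_snd (P := @LocallyOfFiniteType) _ _ ‹_›
  obtain ⟨B, hB, r, hr, hrc, hsm, hirr, hqc, hrange⟩ := exists_red_identity Hs
  refine ⟨⟨H, j, φH, hj, hjc, hfl, hpb, hfac, B, r, hr, hrc, hsm, inferInstance, hqc, ?_⟩⟩
  have hZ : Z0 Hs ∈ irreducibleComponents ↥Hs.left := by
    obtain ⟨z, hz, -, h⟩ := exists_Z0_gen Hs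
    exact h ▸ closure_mem_irreducibleComponents hz
  have h := dim_special_component (K := K) φ hφ H.hom (Z0 Hs) hZ
  rw [hpb.isoPullback.hom.homeomorph.isHomeomorph.topologicalKrullDim_eq, ← h,
    (r.left.isEmbedding.toHomeomorph.trans (Homeomorph.setCongr hrange)).isHomeomorph.topologicalKrullDim_eq]

variable {G : Over (Spec (CommRingCat.of V))} [GrpObj G] {HK : Over (Spec (CommRingCat.of K))} [GrpObj HK]
  {i : HK ⟶ Red.bc (Spec.map (CommRingCat.ofHom (algebraMap V K))) G} [IsMonHom i]
  [LocallyOfFiniteType G.hom] [QuasiCompact G.hom] (hφ : Function.Surjective φ) (D : Spec' φ G HK i)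

/-- The specialised subgroup inside the special fibre of `G`. -/
def Spec'.sub : D.B ⟶ Red.bc (Spec.map (CommRingCat.ofHom φ)) G :=
  D.r ≫ (Over.pullback (Spec.map (CommRingCat.ofHom φ))).map D.j

theorem Spec'.isMonHom_sub : IsMonHom D.sub := by
  haveI := D.hom_r
  haveI := D.hom_j
  unfold Spec'.sub
  infer_instance

theorem Spec'.isClosedImmersion_sub : IsClosedImmersion D.sub.left := by
  haveI := D.closed_r
  haveI : IsClosedImmersion ((Over.pullback (Spec.map (CommRingCat.ofHom φ))).map D.j).left :=
    MorphismProperty.baseChange_map (P := @IsClosedImmersion) _ D.j D.closed_j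
  unfold Spec'.sub
  rw [Over.comp_left]
  infer_instance

include hφ in
theorem Spec'.solvable (h : Red.IsSolvableGrp HK) : Red.IsSolvableGrp D.B := by
  haveI := D.hom_j; haveI := D.closed_j; haveI := D.flat; haveI := D.hom_r; haveI := D.closed_r
  haveI := D.smooth; haveI := D.connected
  haveI : Mono D.j := (Over.forget _).mono_of_mono_map (show Mono D.j.left from inferInstance)
  haveI : Mono D.r := (Over.forget _).mono_of_mono_map (show Mono D.r.left from inferInstance)
  haveI : LocallyOfFiniteType D.H.hom := by rw [← Over.w D.j]; infer_instance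
  haveI : QuasiCompact D.H.hom := by rw [← Over.w D.j]; infer_instance
  exact solvable_special D.j i D.φH D.pullback_gen D.fac hφ D.r h

include hφ in
theorem Spec'.nilpotent (h : AGF.IsNilpotentGrp HK) : AGF.IsNilpotentGrp D.B := by
  haveI := D.hom_j; haveI := D.closed_j; haveI := D.flat; haveI := D.hom_r; haveI := D.closed_r
  haveI := D.smooth; haveI := D.connected
  haveI : Mono D.j := (Over.forget _).mono_of_mono_map (show Mono D.j.left from inferInstance)
  haveI : Mono D.r := (Over.forget _).mono_of_mono_map (show Mono D.r.left from inferInstance)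
  haveI : LocallyOfFiniteType D.H.hom := by rw [← Over.w D.j]; infer_instance
  haveI : QuasiCompact D.H.hom := by rw [← Over.w D.j]; infer_instance
  exact nilpotent_special D.j i D.φH D.pullback_gen D.fac hφ D.r h

include hφ in
theorem Spec'.comm (h : IsCommMonObj HK) : IsCommMonObj D.B := by
  haveI := D.hom_j; haveI := D.closed_j; haveI := D.flat; haveI := D.hom_r; haveI := D.closed_r
  haveI := D.smooth; haveI := D.connected
  haveI : Mono D.j := (Over.forget _).mono_of_mono_map (show Mono D.j.left from inferInstance)
  haveI : Mono D.r := (Over.forget _).mono_of_mono_map (show Mono D.r.left from inferInstance)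
  haveI : LocallyOfFiniteType D.H.hom := by rw [← Over.w D.j]; infer_instance
  haveI : QuasiCompact D.H.hom := by rw [← Over.w D.j]; infer_instance
  exact comm_special D.j i D.φH D.pullback_gen D.fac hφ D.r h

end SubSpecLib
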