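import Groth.Agent.SubSpecLib.Regular
import Groth.Agent.SubSpecLib.Main
import Groth.Agent.S0429
import Groth.Agent.S10830
import Groth.Agent.GrpLimLib.Group
import Groth.Agent.ConsLib.General
import Groth.Agent.DvrDom.Basic
import Groth.Agent.FFDescLib.Affine
import Groth.Agent.DimFieldBCLib.Basic
import Groth.Agent.S18027
import Groth.Agent.AlgSpLib.ReducedSmooth

/-! The special fibre of a flat group over a valuation ring with affine generic fibre. -/

set_option autoImplicit false
set_option linter.style.haveILetI false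
set_option backward.isDefEq.respectTransparency false
set_option maxHeartbeats 1000000

universe u

open CategoryTheory CategoryTheory.Limits MonoidalCategory CartesianMonoidalCategory AlgebraicGeometry TopologicalSpace
open scoped MonObj
open Groth.Agent.HomogDense Groth.Agent.GrpField

noncomputable section

attribute [-instance] CategoryTheory.Hom.commGroup
attribute [local instance] ConsLib.zAlgebra

namespace SubSpecLib

/-- A closed subgroup of full dimension contains the identity component. -/
theorem Z0_subset_range {k : Type u} [Field k] {C N : Over (Spec (CommRingCat.of k))} [GrpObj C] [GrpObj N]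
    [LocallyOfFiniteType N.hom] (u : C ⟶ N) [IsMonHom u] [IsClosedImmersion u.left]
    (hdim : topologicalKrullDim ↥N.left ≤ topologicalKrullDim ↥C.left) : Z0 N ⊆ Set.range u.left := by
  haveI : LocallyOfFiniteType C.hom := by rw [← Over.w u]; infer_instance
  have he : u.left (unitPt C) = unitPt N := congr($(IsMonHom.one_hom u).left (IsLocalRing.closedPoint k))
  have hsub : u.left '' Z0 C ⊆ Z0 N := by
    rw [← connectedComponent_unit, ← connectedComponent_unit, ← he]
    exact u.left.continuous.image_connectedComponent_subset _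
  have hfin : topologicalKrullDim ↥(Z0 N) ≠ ⊤ := by
    obtain ⟨z, -, -, hz⟩ := exists_Z0_gen N
    obtain ⟨n, hn, -⟩ := WeilLib.pdim_eq_trdeg N z
    rw [hz, hn]
    exact WithBot.coe_injective.ne (ENat.coe_ne_top n)
  haveI : IrreducibleSpace (Z0 N) := Subtype.irreducibleSpace (isIrreducible_Z0 N)
  let Y : Set (Z0 N) := Subtype.val ⁻¹' (u.left '' Z0 C)
  have hY : IsClosed Y :=
    (u.left.isClosedEmbedding.isClosedMap _ (isClosed_Z0 C)).preimage continuous_subtype_val
  have hle : topologicalKrullDim (Z0 C) ≤ topologicalKrullDim Y :=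
    ((u.left.isClosedEmbedding.isInducing.comp Topology.IsInducing.subtypeVal).codRestrict
      (fun z : Z0 C => hsub ⟨z.1, z.2, rfl⟩)).codRestrict (s := Y) (fun z => ⟨z.1, z.2, rfl⟩) |>.topologicalKrullDim_le
  have hd : topologicalKrullDim (Z0 N) ≤ topologicalKrullDim (Z0 C) := by
    rw [Groth.Agent.NeutralSch.dim_component_eq (Z0_mem_components N),
      Groth.Agent.NeutralSch.dim_component_eq (Z0_mem_components C)]
    exact hdim
  intro x hx
  by_contra hne
  have hlt := MiscFlat6.dim_lt_of_ssubset hfin hY (fun h => by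
    obtain ⟨c, -, hc⟩ : (⟨x, hx⟩ : Z0 N) ∈ Y := h.symm ▸ Set.mem_univ _
    exact hne ⟨c, hc⟩)
  exact absurd ((hd.trans hle).trans_lt hlt) (lt_irrefl _)

theorem unitPt_mem_range {k : Type u} [Field k] {C N : Over (Spec (CommRingCat.of k))} [GrpObj C] [GrpObj N]
    (u : C ⟶ N) [IsMonHom u] : unitPt N ∈ Set.range u.left :=
  ⟨unitPt C, congr($(IsMonHom.one_hom u).left (IsLocalRing.closedPoint k))⟩

/-- A reduced closed subgroup is affine as soon as it is set theoretically inside an affine one. -/
theorem isAffine_of_range_subset {X Y N : Scheme.{u}} (r : X ⟶ N) (u : Y ⟶ N) [IsClosedImmersion r]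
    [IsClosedImmersion u] [IsReduced X] [IsAffine Y] (h : Set.range r ⊆ Set.range u) : IsAffine X := by
  haveI : Surjective (pullback.fst r u) := ⟨fun x => by
    obtain ⟨y, hy⟩ := h ⟨x, rfl⟩
    obtain ⟨z, hz, -⟩ := Scheme.Pullback.exists_preimage_pullback x y hy.symm
    exact ⟨z, hz⟩⟩
  haveI : IsClosedImmersion (pullback.fst r u) := MorphismProperty.pullback_fst (P := @IsClosedImmersion) _ _ ‹_›
  haveI := isIso_of_isClosedImmersion_of_surjective (pullback.fst r u)
  haveI : IsClosedImmersion (pullback.snd r u) := MorphismProperty.pullback_snd (P := @IsClosedImmersion) _ _ ‹_›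
  exact isAffine_of_isAffineHom (inv (pullback.fst r u) ≫ pullback.snd r u)

theorem exists_common_extension {P κ k : Type u} [Field P] [Field κ] [Field k] (a₀ : P →+* κ) (b₀ : P →+* k) :
    ∃ (Ω : Type u) (_ : Field Ω) (a : κ →+* Ω) (b : k →+* Ω), a.comp a₀ = b.comp b₀ := by
  letI := a₀.toAlgebra
  letI := b₀.toAlgebra
  let T := TensorProduct P κ k
  obtain ⟨M, hM⟩ := Ideal.exists_maximal T
  letI : Field (T ⧸ M) := Ideal.Quotient.field M
  refine ⟨T ⧸ M, inferInstance, (Ideal.Quotient.mk M).comp Algebra.TensorProduct.includeLeftRingHom,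
    (Ideal.Quotient.mk M).comp (Algebra.TensorProduct.includeRight :
      k →ₐ[P] T).toRingHom, RingHom.ext fun x => congrArg (Ideal.Quotient.mk M) ?_⟩
  show (algebraMap P κ x) ⊗ₜ[P] (1 : k) = (1 : κ) ⊗ₜ algebraMap P k x
  rw [Algebra.algebraMap_eq_smul_one, TensorProduct.smul_tmul, ← Algebra.algebraMap_eq_smul_one]

/-- A smooth connected closed subgroup is affine when some affine closed subgroup has full dimension. -/
theorem isAffine_of_subgroups {Ω : Type u} [Field Ω] {X Y N : Over (Spec (CommRingCat.of Ω))} [GrpObj X] [GrpObj Y]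
    [GrpObj N] (hN : LocallyOfFiniteType N.hom) (r : X ⟶ N) (u : Y ⟶ N) (hr : IsMonHom r) (hu : IsMonHom u)
    (hrc : IsClosedImmersion r.left) (huc : IsClosedImmersion u.left) [Smooth X.hom] [ConnectedSpace ↥X.left]
    (hY : IsAffine Y.left) (hdim : topologicalKrullDim ↥N.left ≤ topologicalKrullDim ↥Y.left) :
    IsAffine X.left := by
  haveI := hN
  haveI := hr
  haveI := hu
  haveI := hrc
  haveI := huc
  haveI := hY
  haveI : IsReduced X.left := AlgSpLib.isReduced_of_smooth X.hom
  have hB : Set.range r.left ⊆ Z0 N := by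
    rw [← connectedComponent_unit]
    exact (isConnected_range r.left.continuous).isPreconnected.subset_connectedComponent (unitPt_mem_range r)
  exact isAffine_of_range_subset r.left u.left (hB.trans (Z0_subset_range u hdim))

theorem isAffine_of_overIso {S : Scheme.{u}} {X Y : Over S} (e : X ≅ Y) [IsAffine X.left] : IsAffine Y.left := by
  haveI : IsIso e.inv.left := inferInstanceAs (IsIso ((Over.forget _).map e.inv))
  exact IsAffine.of_isIso e.inv.left

theorem isClosedImmersion_comp_iso {S : Scheme.{u}} {W X Y : Over S} (u : W ⟶ X) (e : X ≅ Y)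
    [IsClosedImmersion u.left] : IsClosedImmersion (u ≫ e.hom).left := by
  haveI : IsIso e.hom.left := inferInstanceAs (IsIso ((Over.forget _).map e.hom))
  rw [Over.comp_left]
  infer_instance

theorem dim_eq_of_overIso {S : Scheme.{u}} {X Y : Over S} (e : X ≅ Y) :
    topologicalKrullDim ↥X.left = topologicalKrullDim ↥Y.left :=
  ((Over.forget _).mapIso e).hom.homeomorph.isHomeomorph.topologicalKrullDim_eq

theorem isClosedImmersion_map {S S' : Scheme.{u}} (p : S' ⟶ S) {X Y : Over S} (u : X ⟶ Y)
    [IsClosedImmersion u.left] : IsClosedImmersion ((Over.pullback p).map u).left :=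
  MorphismProperty.baseChange_map (P := @IsClosedImmersion) p u ‹_›

theorem isAffine_of_bc {F E : Type u} [Field F] [Field E] (X : Over (Spec (CommRingCat.of F))) [QuasiCompact X.hom]
    [QuasiSeparated X.hom] (q : Spec (CommRingCat.of E) ⟶ Spec (CommRingCat.of F)) (h : IsAffine (Red.bc q X).left) :
    IsAffine X.left := by
  haveI : IsAffine (pullback X.hom q) := h
  haveI : IsAffineHom (pullback.snd X.hom q) := isAffineHom_of_isAffine _
  haveI := FFDescLib.isAffineHom_of_pullback X.hom q
  exact isAffine_of_isAffineHom X.hom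

/-- Comparison of two subgroups inside a common base change. -/
theorem isAffine_of_common {κ k Ω : Type u} [Field κ] [Field k] [IsAlgClosed k] [Field Ω]
    {Ga : Over (Spec (CommRingCat.of κ))} [GrpObj Ga] [LocallyOfFiniteType Ga.hom]
    {Gb : Over (Spec (CommRingCat.of k))} [GrpObj Gb] [LocallyOfFiniteType Gb.hom] [QuasiCompact Gb.hom]
    {N : Over (Spec (CommRingCat.of Ω))} [GrpObj N]
    (da : Spec (CommRingCat.of Ω) ⟶ Spec (CommRingCat.of κ)) (db : Spec (CommRingCat.of Ω) ⟶ Spec (CommRingCat.of k))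
    (ea : Red.bc da Ga ≅ N) (eb : Red.bc db Gb ≅ N) [IsMonHom ea.hom] [IsMonHom eb.hom]
    (C : Over (Spec (CommRingCat.of κ))) [GrpObj C] [IsAffine C.left] (u : C ⟶ Ga) [IsMonHom u]
    [IsClosedImmersion u.left] (B : Over (Spec (CommRingCat.of k))) [GrpObj B] [Smooth B.hom]
    [ConnectedSpace ↥B.left] (r : B ⟶ Gb) [IsMonHom r] [IsClosedImmersion r.left]
    (hdim : topologicalKrullDim ↥Gb.left ≤ topologicalKrullDim ↥C.left) : IsAffine B.left := by
  haveI iGb : LocallyOfFiniteType (Red.bc db Gb).hom := MorphismProperty.pullback_snd (P := @LocallyOfFiniteType) _ _ ‹_›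
  haveI iN : LocallyOfFiniteType N.hom := by
    haveI : IsIso eb.inv.left := inferInstanceAs (IsIso ((Over.forget _).map eb.inv))
    rw [← Over.w eb.inv]
    infer_instance
  haveI : LocallyOfFiniteType C.hom := by rw [← Over.w u]; infer_instance
  haveI iC : IsAffine (Red.bc da C).left := inferInstanceAs (IsAffine (pullback C.hom da))
  haveI := isClosedImmersion_map da u
  haveI := isClosedImmersion_map db r
  haveI iCc := isClosedImmersion_comp_iso ((Over.pullback da).map u) ea
  haveI iBc := isClosedImmersion_comp_iso ((Over.pullback db).map r) eb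
  haveI : GeometricallyConnected B.hom := SweepSix.GeomConn.gc_of_isAlgClosed B.hom
  haveI : GeometricallyConnected (Red.bc db B).hom := inferInstanceAs (GeometricallyConnected (pullback.snd B.hom db))
  haveI : ConnectedSpace ↥(Red.bc db B).left :=
    GeometricallyConnected.connectedSpace_of_subsingleton (Red.bc db B).hom
  haveI : Smooth (Red.bc db B).hom := MorphismProperty.pullback_snd (P := @Smooth) _ _ ‹_›
  have hN : topologicalKrullDim ↥N.left ≤ topologicalKrullDim ↥(Red.bc da C).left := by
    rw [← dim_eq_of_overIso eb,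
      show topologicalKrullDim ↥(Red.bc db Gb).left = _ from Groth.Agent.DimFieldBCLib.dim_pullback Gb.hom db,
      show topologicalKrullDim ↥(Red.bc da C).left = _ from Groth.Agent.DimFieldBCLib.dim_pullback C.hom da]
    exact hdim
  have haff : IsAffine (Red.bc db B).left := isAffine_of_subgroups iN ((Over.pullback db).map r ≫ eb.hom)
    ((Over.pullback da).map u ≫ ea.hom) inferInstance inferInstance iBc iCc iC hN
  haveI : QuasiCompact B.hom := by rw [← Over.w r]; infer_instance
  haveI : IsSeparated B.hom := Groth.Agent.GrpField.isSeparated_grp (G := B)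
  exact isAffine_of_bc B db haff

section model

variable {R0 : Type u} [CommRing R0] [IsDomain R0] (G0 : Over (Spec (CommRingCat.of R0))) [GrpObj G0]

/-- A discrete valuation ring gives an affine subgroup of full dimension over a point. -/
theorem exists_affine_of_dvr [IsNoetherianRing R0] [LocallyOfFiniteType G0.hom] [QuasiCompact G0.hom]
    [QuasiSeparated G0.hom] (F : Type u) [Field F] [Algebra R0 F] [IsFractionRing R0 F]
    [IsAffine (Red.bc (Spec.map (CommRingCat.ofHom (algebraMap R0 F))) G0).left] (P : Ideal R0) [P.IsPrime]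
    (hP : P ≠ ⊥) :
    ∃ (κ : Type u) (_ : Field κ) (a₀ : P.ResidueField →+* κ) (C : Over (Spec (CommRingCat.of κ))) (_ : GrpObj C)
      (u : C ⟶ Red.bc (Spec.map (CommRingCat.ofHom (a₀.comp (algebraMap R0 P.ResidueField)))) G0),
      IsMonHom u ∧ IsClosedImmersion u.left ∧ IsAffine C.left ∧
        topologicalKrullDim ↥(Red.bc (Spec.map (CommRingCat.ofHom (algebraMap R0 F))) G0).left ≤
          topologicalKrullDim ↥C.left := by
  obtain ⟨a, ha, ha0⟩ : ∃ a ∈ P, a ≠ 0 := by
    by_contra hc
    push Not at hc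
    exact hP (eq_bot_iff.2 fun x hx => hc x hx)
  obtain ⟨s, hs⟩ := DvrDomLib.exists_closure_eq_top_of_fg (A := R0) (K := F) (L := F)
    ⟨∅, by rw [Finset.coe_empty, IntermediateField.adjoin_empty]; exact Subsingleton.elim _ _⟩
  obtain ⟨D, hD, hmem, hval⟩ := DvrDomLib.exists_dvr_dominating (L := F) P
    (by rw [(RingHom.injective_iff_ker_eq_bot _).1 (IsFractionRing.injective R0 F)]; exact bot_le)
    ⟨a, ha, (map_ne_zero_iff _ (IsFractionRing.injective R0 F)).2 ha0⟩ s hs
  haveI := hD
  let ψ : R0 →+* D := (algebraMap R0 F).codRestrict D.toSubring hmem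
  let πD : Spec (CommRingCat.of D) ⟶ Spec (CommRingCat.of R0) := Spec.map (CommRingCat.ofHom ψ)
  let GD := Red.bc πD G0
  haveI : LocallyOfFiniteType GD.hom := MorphismProperty.pullback_snd (P := @LocallyOfFiniteType) _ _ ‹_›
  haveI : QuasiCompact GD.hom := MorphismProperty.pullback_snd (P := @QuasiCompact) _ _ ‹_›
  haveI : QuasiSeparated GD.hom := MorphismProperty.pullback_snd (P := @QuasiSeparated) _ _ ‹_›
  have hgD : gp D F ≫ πD = Spec.map (CommRingCat.ofHom (algebraMap R0 F)) := by
    rw [← Spec.map_comp, ← CommRingCat.ofHom_comp]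
    rfl
  obtain ⟨H', hH', j', φH', hj', hjc', hfl', hpb', -, -⟩ :=
    exists_closure (K := F) (G := GD) (HK := Red.bc (gp D F) GD) (𝟙 _)
  haveI := hj'
  haveI := hjc'
  haveI := hfl'
  haveI : LocallyOfFiniteType H'.hom := by rw [← Over.w j']; infer_instance
  haveI : QuasiCompact H'.hom := by rw [← Over.w j']; infer_instance
  haveI : QuasiSeparated H'.hom := by rw [← Over.w j']; infer_instance
  haveI := isAffine_of_overIso (ActBC.bcCompIso (gp D F) πD G0 hgD).symm
  haveI : IsAffine (Red.bc (Spec.map (CommRingCat.ofHom (algebraMap D F))) H').left :=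
    IsAffine.of_isIso hpb'.isoPullback.inv
  have hκ := dim_special_eq (K := F) (IsLocalRing.residue D) IsLocalRing.residue_surjective H'
  haveI haff := isAffine_special (K := F) (IsLocalRing.residue D) H' IsLocalRing.residue_surjective
  have hker : RingHom.ker ((IsLocalRing.residue D).comp ψ) = P := by
    ext x
    rw [← hval x, RingHom.mem_ker, RingHom.comp_apply, IsLocalRing.residue_eq_zero_iff]
    exact ValuationSubring.valuation_lt_one_iff D (ψ x)
  have hunit : P.primeCompl ≤ (IsUnit.submonoid (IsLocalRing.ResidueField D)).comap ((IsLocalRing.residue D).comp ψ) :=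
    fun x hx => IsUnit.mk0 _ (fun h0 => hx (hker ▸ RingHom.mem_ker.2 h0))
  let a₀ : P.ResidueField →+* IsLocalRing.ResidueField D :=
    Ideal.ResidueField.lift P ((IsLocalRing.residue D).comp ψ) (le_of_eq hker.symm) hunit
  have e1 : a₀.comp (algebraMap R0 P.ResidueField) = (IsLocalRing.residue D).comp ψ :=
    RingHom.ext fun x => Ideal.ResidueField.lift_algebraMap _ _ _ hunit x
  have hcomp : Spec.map (CommRingCat.ofHom (IsLocalRing.residue D)) ≫ πD =
      Spec.map (CommRingCat.ofHom (a₀.comp (algebraMap R0 P.ResidueField))) := by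
    rw [e1, ← Spec.map_comp, ← CommRingCat.ofHom_comp]
  haveI := isClosedImmersion_map (Spec.map (CommRingCat.ofHom (IsLocalRing.residue D))) j'
  refine ⟨IsLocalRing.ResidueField D, inferInstance, a₀, _, inferInstance,
    (Over.pullback _).map j' ≫ (ActBC.bcCompIso _ _ G0 hcomp).hom, inferInstance,
    isClosedImmersion_comp_iso _ _, haff, le_of_eq ?_⟩
  rw [hκ, ← dim_eq_of_overIso (ActBC.bcCompIso (gp D F) πD G0 hgD)]
  exact hpb'.isoPullback.hom.homeomorph.isHomeomorph.topologicalKrullDim_eq

/-- Two subgroups over fields above one point, compared over a common extension. -/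
theorem isAffine_of_compare {P : Ideal R0} [P.IsPrime] [LocallyOfFiniteType G0.hom] [QuasiCompact G0.hom]
    {k : Type u} [Field k] [IsAlgClosed k] (b₀ : P.ResidueField →+* k) {κ : Type u} [Field κ]
    (a₀ : P.ResidueField →+* κ) (C : Over (Spec (CommRingCat.of κ))) [GrpObj C] [IsAffine C.left]
    (u : C ⟶ Red.bc (Spec.map (CommRingCat.ofHom (a₀.comp (algebraMap R0 P.ResidueField)))) G0) [IsMonHom u]
    [IsClosedImmersion u.left] (B : Over (Spec (CommRingCat.of k))) [GrpObj B] [Smooth B.hom]
    [ConnectedSpace ↥B.left] {dk : Spec (CommRingCat.of k) ⟶ Spec (CommRingCat.of R0)}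
    (hdk : dk = Spec.map (CommRingCat.ofHom (b₀.comp (algebraMap R0 P.ResidueField))))
    (r : B ⟶ Red.bc dk G0) [IsMonHom r] [IsClosedImmersion r.left]
    (hdim : topologicalKrullDim ↥(Red.bc dk G0).left ≤ topologicalKrullDim ↥C.left) : IsAffine B.left := by
  subst hdk
  obtain ⟨Ω, hΩ, a, b, hab⟩ := exists_common_extension a₀ b₀
  letI := hΩ
  let da := Spec.map (CommRingCat.ofHom a)
  let db := Spec.map (CommRingCat.ofHom b)
  let qa := Spec.map (CommRingCat.ofHom (a₀.comp (algebraMap R0 P.ResidueField)))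
  let qb := Spec.map (CommRingCat.ofHom (b₀.comp (algebraMap R0 P.ResidueField)))
  have hcomm : da ≫ qa = db ≫ qb := by
    simp only [da, db, qa, qb, ← Spec.map_comp, ← CommRingCat.ofHom_comp]
    congr 2
    rw [← RingHom.comp_assoc, ← RingHom.comp_assoc, hab]
  haveI iB : LocallyOfFiniteType (Red.bc qb G0).hom :=
    MorphismProperty.pullback_snd (P := @LocallyOfFiniteType) _ _ ‹_›
  haveI iQ : QuasiCompact (Red.bc qb G0).hom := MorphismProperty.pullback_snd (P := @QuasiCompact) _ _ ‹_›
  haveI iA : LocallyOfFiniteType (Red.bc qa G0).hom :=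
    MorphismProperty.pullback_snd (P := @LocallyOfFiniteType) _ _ ‹_›
  exact isAffine_of_common (Ga := Red.bc qa G0) (Gb := Red.bc qb G0) (N := Red.bc (db ≫ qb) G0) da db
    (ActBC.bcCompIso da qa G0 hcomm) (ActBC.bcCompIso db qb G0 rfl) C u B r hdim

/-- The special point of a model of a group with affine generic fibre. -/
theorem isAffine_of_model [IsNoetherianRing R0] [LocallyOfFiniteType G0.hom] [QuasiCompact G0.hom]
    [QuasiSeparated G0.hom] {K : Type u} [Field K] {ν : R0 →+* K} (hν : Function.Injective ν)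
    (hK : IsAffine (Red.bc (Spec.map (CommRingCat.ofHom ν)) G0).left)
    {k : Type u} [Field k] [IsAlgClosed k] (χ : R0 →+* k)
    (hdim : topologicalKrullDim ↥(Red.bc (Spec.map (CommRingCat.ofHom χ)) G0).left ≤
      topologicalKrullDim ↥(Red.bc (Spec.map (CommRingCat.ofHom ν)) G0).left)
    (B : Over (Spec (CommRingCat.of k))) [GrpObj B] [Smooth B.hom] [ConnectedSpace ↥B.left]
    (r : B ⟶ Red.bc (Spec.map (CommRingCat.ofHom χ)) G0) [IsMonHom r] [IsClosedImmersion r.left] :
    IsAffine B.left := by
  let F := FractionRing R0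
  let σ : F →+* K := IsFractionRing.lift hν
  let gF := Spec.map (CommRingCat.ofHom (algebraMap R0 F))
  let sK := Spec.map (CommRingCat.ofHom σ)
  have hgK : sK ≫ gF = Spec.map (CommRingCat.ofHom ν) := by
    rw [← Spec.map_comp, ← CommRingCat.ofHom_comp]
    congr 2
    exact RingHom.ext fun a => IsFractionRing.lift_algebraMap hν a
  let GF := Red.bc gF G0
  haveI : LocallyOfFiniteType GF.hom := MorphismProperty.pullback_snd (P := @LocallyOfFiniteType) _ _ ‹_›
  haveI : QuasiCompact GF.hom := MorphismProperty.pullback_snd (P := @QuasiCompact) _ _ ‹_›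
  haveI : QuasiSeparated GF.hom := MorphismProperty.pullback_snd (P := @QuasiSeparated) _ _ ‹_›
  haveI hGF : IsAffine GF.left := by
    haveI := hK
    exact isAffine_of_bc GF sK (isAffine_of_overIso (ActBC.bcCompIso sK gF G0 hgK).symm)
  by_cases hP : RingHom.ker χ = ⊥
  · let τ : F →+* k := IsFractionRing.lift ((RingHom.injective_iff_ker_eq_bot χ).2 hP)
    have hgk : Spec.map (CommRingCat.ofHom τ) ≫ gF = Spec.map (CommRingCat.ofHom χ) := by
      rw [← Spec.map_comp, ← CommRingCat.ofHom_comp]
      congr 2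
      exact RingHom.ext fun a => IsFractionRing.lift_algebraMap ((RingHom.injective_iff_ker_eq_bot χ).2 hP) a
    haveI : IsAffine (Red.bc (Spec.map (CommRingCat.ofHom τ)) GF).left := inferInstanceAs (IsAffine (pullback GF.hom _))
    haveI := isAffine_of_overIso (ActBC.bcCompIso _ gF G0 hgk)
    exact isAffine_of_isAffineHom r.left
  haveI : (RingHom.ker χ).IsPrime := RingHom.ker_isPrime χ
  obtain ⟨κ, hκ, a₀, C, hC, u, hu, huc, hCa, hCd⟩ := exists_affine_of_dvr G0 F (RingHom.ker χ) hP
  haveI := hu; haveI := huc; haveI := hCa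
  have hunit : (RingHom.ker χ).primeCompl ≤ (IsUnit.submonoid k).comap χ :=
    fun x hx => IsUnit.mk0 _ (fun h0 => hx (RingHom.mem_ker.2 h0))
  let b₀ : (RingHom.ker χ).ResidueField →+* k := Ideal.ResidueField.lift _ χ le_rfl hunit
  have e2 : b₀.comp (algebraMap R0 (RingHom.ker χ).ResidueField) = χ :=
    RingHom.ext fun x => Ideal.ResidueField.lift_algebraMap _ _ _ hunit x
  refine isAffine_of_compare G0 b₀ a₀ C u B (congrArg (fun f => Spec.map (CommRingCat.ofHom f)) e2.symm) r
    (le_trans ?_ hCd)
  refine hdim.trans (le_of_eq ?_)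
  rw [← dim_eq_of_overIso (ActBC.bcCompIso sK gF G0 hgK)]
  exact Groth.Agent.DimFieldBCLib.dim_pullback GF.hom sK

end model

variable {V : Type u} [CommRing V] [IsDomain V] [ValuationRing V] {K : Type u} [Field K] [Algebra V K]
  [IsFractionRing V K] {k : Type u} [Field k] [IsAlgClosed k] {φ : V →+* k}

theorem dim_special_le_of_irreducible (hφ : Function.Surjective φ) (H : Over (Spec (CommRingCat.of V))) [GrpObj H]
    [Flat H.hom] [LocallyOfFiniteType H.hom]
    [IrreducibleSpace ↥(Red.bc (Spec.map (CommRingCat.ofHom (algebraMap V K))) H).left] :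
    topologicalKrullDim ↥(Red.bc (Spec.map (CommRingCat.ofHom φ)) H).left ≤
      topologicalKrullDim ↥(Red.bc (Spec.map (CommRingCat.ofHom (algebraMap V K))) H).left := by
  let g := Spec.map (CommRingCat.ofHom (algebraMap V K))
  haveI : IrreducibleSpace ↥H.left := by
    refine (irreducibleSpace_def _).2 ?_
    have h1 := ((IrreducibleSpace.isIrreducible_univ ↥(Red.bc g H).left).image (pullback.fst H.hom g)
      (pullback.fst H.hom g).continuous.continuousOn).closure
    suffices h2 : closure (pullback.fst H.hom g '' Set.univ) = Set.univ by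
      rw [h2] at h1
      exact h1
    refine Set.eq_univ_iff_forall.2 fun x => ?_
    obtain ⟨ξ, hξ, hξη⟩ := Flat.generalizingMap H.hom
      ((PrimeSpectrum.le_iff_specializes (⟨⊥, Ideal.isPrime_bot⟩ : PrimeSpectrum V) (H.hom x)).1 bot_le)
    obtain ⟨z, hz, -⟩ := Scheme.Pullback.exists_preimage_pullback ξ (IsLocalRing.closedPoint K)
      (f := H.hom) (g := g) (hξη.trans (gp_closedPoint V K).symm)
    exact hξ.mem_closed isClosed_closure (subset_closure ⟨z, trivial, hz⟩)
  haveI : Surjective H.hom := ⟨fun s => ⟨η[H].left s, hom_unit_apply H s⟩⟩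
  exact PureAssoLib.topologicalKrullDim_le_of_components fun Z hZ =>
    (dim_special_component (K := K) φ hφ H.hom Z hZ).le

theorem isMonHom_trans {S : Scheme.{u}} {X Y Z : Over S} [GrpObj X] [GrpObj Y] [GrpObj Z] (u : X ⟶ Y) (v : Y ⟶ Z)
    (hu : IsMonHom u) (hv : IsMonHom v) : IsMonHom (u ≫ v) := by
  haveI := hu
  haveI := hv
  infer_instance

theorem isMonHom_bcMap {S S' : Scheme.{u}} (p : S' ⟶ S) {X Y : Over S} [GrpObj X] [GrpObj Y] (u : X ⟶ Y)
    [IsMonHom u] : IsMonHom (show Red.bc p X ⟶ Red.bc p Y from (Over.pullback p).map u) :=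
  inferInstanceAs (IsMonHom ((Over.pullback p).map u))

/-- The base change of an isomorphism followed by the comparison of a tower. -/
def towerIso {S T U : Scheme.{u}} (a : U ⟶ T) (b : T ⟶ S) (c : U ⟶ S) (h : a ≫ b = c) {H : Over T} {G0 : Over S}
    (e : H ≅ Red.bc b G0) : Red.bc a H ≅ Red.bc c G0 :=
  (Over.pullback a).mapIso e ≪≫ ActBC.bcCompIso a b G0 h

theorem isMonHom_towerIso {S T U : Scheme.{u}} (a : U ⟶ T) (b : T ⟶ S) (c : U ⟶ S) (h : a ≫ b = c) {H : Over T}
    {G0 : Over S} [GrpObj H] [GrpObj G0] (e : H ≅ Red.bc b G0) [IsMonHom e.hom] :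
    IsMonHom (towerIso a b c h e).hom :=
  isMonHom_trans (X := Red.bc a H) (Y := Red.bc a (Red.bc b G0)) (Z := Red.bc c G0) ((Over.pullback a).map e.hom)
    (ActBC.bcCompIso a b G0 h).hom (isMonHom_bcMap a e.hom) (ActBC.bcCompIso_isMonHom (h := h))

theorem isAffine_sub_of_model {R0 : Type u} [CommRing R0] [IsDomain R0] [IsNoetherianRing R0] (ι₀ : R0 →+* V)
    (hι : Function.Injective ι₀) (hφ : Function.Surjective φ) (G0 : Over (Spec (CommRingCat.of R0))) [GrpObj G0]
    [LocallyOfFiniteType G0.hom] [QuasiCompact G0.hom] [QuasiSeparated G0.hom]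
    (H : Over (Spec (CommRingCat.of V))) [GrpObj H] [Flat H.hom] [LocallyOfFiniteType H.hom]
    (e : H ≅ Red.bc (Spec.map (CommRingCat.ofHom ι₀)) G0) [IsMonHom e.hom]
    (hK : IsAffine (Red.bc (Spec.map (CommRingCat.ofHom (algebraMap V K))) H).left)
    [IrreducibleSpace ↥(Red.bc (Spec.map (CommRingCat.ofHom (algebraMap V K))) H).left]
    (B : Over (Spec (CommRingCat.of k))) [GrpObj B] [Smooth B.hom] [ConnectedSpace ↥B.left]
    (r : B ⟶ Red.bc (Spec.map (CommRingCat.ofHom φ)) H) [IsMonHom r] [IsClosedImmersion r.left] :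
    IsAffine B.left := by
  let g := Spec.map (CommRingCat.ofHom (algebraMap V K))
  let p := Spec.map (CommRingCat.ofHom φ)
  have hg : g ≫ Spec.map (CommRingCat.ofHom ι₀) = Spec.map (CommRingCat.ofHom ((algebraMap V K).comp ι₀)) := by
    rw [← Spec.map_comp, ← CommRingCat.ofHom_comp]
  have hp : p ≫ Spec.map (CommRingCat.ofHom ι₀) = Spec.map (CommRingCat.ofHom (φ.comp ι₀)) := by
    rw [← Spec.map_comp, ← CommRingCat.ofHom_comp]
  let eK := towerIso g _ _ hg e
  let ek := towerIso p _ _ hp e
  have iek : IsMonHom ek.hom := isMonHom_towerIso p _ _ hp e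
  haveI := hK
  haveI irc : IsClosedImmersion (r ≫ ek.hom).left := isClosedImmersion_comp_iso r ek
  haveI irm : IsMonHom (r ≫ ek.hom) := isMonHom_trans r ek.hom inferInstance iek
  refine isAffine_of_model G0 (ν := (algebraMap V K).comp ι₀) ((IsFractionRing.injective V K).comp hι)
    (isAffine_of_overIso eK) (φ.comp ι₀) ?_ B (r ≫ ek.hom)
  rw [← dim_eq_of_overIso eK, ← dim_eq_of_overIso ek]
  exact dim_special_le_of_irreducible hφ H

theorem isAffine_sub_of_valuation (hφ : Function.Surjective φ) (H : Over (Spec (CommRingCat.of V))) [GrpObj H]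
    [Flat H.hom] [LocallyOfFiniteType H.hom] [QuasiCompact H.hom] [QuasiSeparated H.hom]
    (hK : IsAffine (Red.bc (Spec.map (CommRingCat.ofHom (algebraMap V K))) H).left)
    [IrreducibleSpace ↥(Red.bc (Spec.map (CommRingCat.ofHom (algebraMap V K))) H).left]
    (B : Over (Spec (CommRingCat.of k))) [GrpObj B] [Smooth B.hom] [ConnectedSpace ↥B.left]
    (r : B ⟶ Red.bc (Spec.map (CommRingCat.ofHom φ)) H) [IsMonHom r] [IsClosedImmersion r.left] :
    IsAffine B.left := by
  haveI : LocallyOfFinitePresentation H.hom := Groth.Agent.S0429.result H.hom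
  let A := ConsLib.zSys V
  haveI : ∀ i i' (f : i ⟶ i'), IsAffineHom (A.D.map f) := fun _ _ f => A.affine_map f
  haveI : ∀ i, IsNoetherian (A.D.obj i) := fun i => ConsLib.zSys_obj _ i
  haveI : ∀ i, CompactSpace (A.D.obj i) := fun i => inferInstance
  haveI : ∀ i, QuasiSeparatedSpace (A.D.obj i) := fun i => inferInstance
  obtain ⟨j, Gj, inst, e, hemon, lfp, qc, qs⟩ := GrpLimLib.exists_grp (c := A.c) A.hc (show Over A.c.pt from H)
  haveI hR : IsNoetherianRing j.unop.1 := by
    haveI : IsNoetherianRing (ULift.{u} ℤ) := isNoetherianRing_of_ringEquiv ℤ ULift.ringEquiv.symm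
    haveI : Algebra.FiniteType (ULift.{u} ℤ) j.unop.1 := ⟨(Subalgebra.fg_top _).mpr j.unop.2⟩
    exact Algebra.FiniteType.isNoetherianRing (ULift.{u} ℤ) j.unop.1
  exact @isAffine_sub_of_model V _ _ _ K _ _ _ k _ _ φ j.unop.1 _ _ hR j.unop.1.val.toRingHom
    Subtype.val_injective hφ Gj inst (by haveI := lfp; exact (inferInstance : LocallyOfFiniteType Gj.hom)) qc qs
    H _ _ _ e hemon hK _ B _ _ _ r _ _

end SubSpecLib
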