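import Groth.Agent.SubSpecLib.PlaceSch
import Groth.Agent.SubSpecLib.AffineVal

/-! Specialization of affine smooth connected subgroups. -/

set_option autoImplicit false
set_option linter.style.haveILetI false
set_option backward.isDefEq.respectTransparency false
set_option maxHeartbeats 1000000

universe u

open CategoryTheory CategoryTheory.Limits MonoidalCategory CartesianMonoidalCategory AlgebraicGeometry
open scoped MonObj
open Groth.Agent.HomogDense Groth.Agent.GrpField

noncomputable section

attribute [-instance] CategoryTheory.Hom.commGroup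

namespace SubSpecLib

variable {V : Type u} [CommRing V] [IsDomain V] [ValuationRing V] {K : Type u} [Field K] [Algebra V K]
  [IsFractionRing V K] {k : Type u} [Field k] [IsAlgClosed k] {φ : V →+* k}
  {G : Over (Spec (CommRingCat.of V))} [GrpObj G] {HK : Over (Spec (CommRingCat.of K))} [GrpObj HK]
  {i : HK ⟶ Red.bc (Spec.map (CommRingCat.ofHom (algebraMap V K))) G} [IsMonHom i]
  [LocallyOfFiniteType G.hom] [QuasiCompact G.hom] [QuasiSeparated G.hom] [Smooth HK.hom] [ConnectedSpace ↥HK.left]

theorem Spec'.affine (hφ : Function.Surjective φ) (D : Spec' φ G HK i) (h : IsAffine HK.left) : IsAffine D.B.left := by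
  haveI := D.hom_j; haveI := D.closed_j; haveI := D.flat; haveI := D.hom_r; haveI := D.closed_r
  haveI := D.smooth; haveI := D.connected
  haveI : LocallyOfFiniteType D.H.hom := by rw [← Over.w D.j]; infer_instance
  haveI : QuasiCompact D.H.hom := by rw [← Over.w D.j]; infer_instance
  haveI : QuasiSeparated D.H.hom := by rw [← Over.w D.j]; infer_instance
  haveI := h
  haveI : IrreducibleSpace ↥HK.left := by
    obtain ⟨z, -, -, hz⟩ := exists_Z0_gen HK
    rw [irreducibleSpace_def, Set.top_eq_univ, ← Z0_eq_univ (G := HK), hz]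
    exact isIrreducible_singleton.closure
  have hK : IsAffine (Red.bc (Spec.map (CommRingCat.ofHom (algebraMap V K))) D.H).left :=
    IsAffine.of_isIso D.pullback_gen.isoPullback.inv
  haveI : IrreducibleSpace ↥(Red.bc (Spec.map (CommRingCat.ofHom (algebraMap V K))) D.H).left :=
    D.pullback_gen.isoPullback.hom.homeomorph.irreducibleSpace_iff.1 ‹_›
  exact isAffine_sub_of_valuation hφ D.H hK D.B D.r

/-- Specialization of smooth connected closed subgroups of geometric fibres. -/
theorem exists_affine_sub_of_specializes {S : Scheme.{u}} {s s' : S} (h : s ⤳ s') (G : Over S) [GrpObj G]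
    [LocallyOfFiniteType G.hom] [QuasiCompact G.hom] [QuasiSeparated G.hom]
    (H : Over (Spec (CommRingCat.of (AlgebraicClosure (S.residueField s))))) [GrpObj H]
    (i : H ⟶ Red.geomFibre s G) [IsMonHom i] [IsClosedImmersion i.left] [Smooth H.hom] [ConnectedSpace ↥H.left] :
    ∃ (B : Over (Spec (CommRingCat.of (AlgebraicClosure (S.residueField s'))))) (_ : GrpObj B)
      (r : B ⟶ Red.geomFibre s' G), IsMonHom r ∧ IsClosedImmersion r.left ∧ Smooth B.hom ∧
      ConnectedSpace ↥B.left ∧ topologicalKrullDim ↥B.left = topologicalKrullDim ↥H.left ∧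
      (Red.IsSolvableGrp H → Red.IsSolvableGrp B) ∧ (AGF.IsNilpotentGrp H → AGF.IsNilpotentGrp B) ∧
      (IsCommMonObj H → IsCommMonObj B) ∧ (IsAffine H.left → IsAffine B.left) := by
  obtain ⟨V, φ, q, hφ, hg, hp⟩ := exists_valuation_of_specializes h
  let G' : Over (Spec (CommRingCat.of V)) := Red.bc q G
  haveI : LocallyOfFiniteType G'.hom := MorphismProperty.pullback_snd (P := @LocallyOfFiniteType) _ _ ‹_›
  haveI : QuasiCompact G'.hom := MorphismProperty.pullback_snd (P := @QuasiCompact) _ _ ‹_›
  haveI : QuasiSeparated G'.hom := MorphismProperty.pullback_snd (P := @QuasiSeparated) _ _ ‹_›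
  let e := ActBC.bcCompIso _ q G hg
  let i' := i ≫ e.inv
  haveI : IsIso e.inv.left := (Over.forget _).map_isIso e.inv
  haveI : IsClosedImmersion i'.left := by
    show IsClosedImmersion (i.left ≫ e.inv.left)
    infer_instance
  obtain ⟨D⟩ := nonempty_spec' hφ G' H i'
  let e' := ActBC.bcCompIso _ q G hp
  haveI := D.isMonHom_sub
  haveI := D.isClosedImmersion_sub
  haveI : IsIso e'.hom.left := (Over.forget _).map_isIso e'.hom
  refine ⟨D.B, inferInstance, D.sub ≫ e'.hom, inferInstance, ?_, D.smooth, D.connected, D.dim_eq,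
    D.solvable hφ, D.nilpotent hφ, D.comm hφ, D.affine hφ⟩
  rw [Over.comp_left]
  infer_instance

end SubSpecLib
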