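import Groth.Agent.SubSpecLib.UnipVal
import Groth.Agent.SubSpecLib.AffineSub
import Groth.Agent.SubSpecLib.FieldExt

/-! Specialization of subgroups without subtori. -/

set_option autoImplicit false
set_option linter.style.haveILetI false
set_option linter.unusedSectionVars false
set_option backward.isDefEq.respectTransparency false
set_option maxHeartbeats 1000000

universe u

open CategoryTheory CategoryTheory.Limits MonoidalCategory CartesianMonoidalCategory AlgebraicGeometry
open scoped MonObj
open Groth.Agent.HomogDense Groth.Agent.GrpField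

noncomputable section

attribute [-instance] CategoryTheory.Hom.commGroup
attribute [local instance] ConsLib.zAlgebra

namespace SubSpecLib.Unip

section

variable {V : Type u} [CommRing V] [IsDomain V] [ValuationRing V] {K : Type u} [Field K] [Algebra V K]
  [IsFractionRing V K] {k : Type u} [Field k] [IsAlgClosed k] {φ : V →+* k}

theorem torSet_finite_sub_of_valuation (hφ : Function.Surjective φ) (H : Over (Spec (CommRingCat.of V))) [GrpObj H]
    [Flat H.hom] [LocallyOfFiniteType H.hom] [QuasiCompact H.hom] [QuasiSeparated H.hom]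
    (hK : IsAffine (Red.bc (Spec.map (CommRingCat.ofHom (algebraMap V K))) H).left)
    (hU : IsUnipGrp (Red.bc (Spec.map (CommRingCat.ofHom (algebraMap V K))) H))
    [IrreducibleSpace ↥(Red.bc (Spec.map (CommRingCat.ofHom (algebraMap V K))) H).left]
    (B : Over (Spec (CommRingCat.of k))) [GrpObj B] [Smooth B.hom] [ConnectedSpace ↥B.left]
    (r : B ⟶ Red.bc (Spec.map (CommRingCat.ofHom φ)) H) [IsMonHom r] [IsClosedImmersion r.left] :
    (torSet B).Finite := by
  haveI : LocallyOfFinitePresentation H.hom := Groth.Agent.S0429.result H.hom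
  let A := ConsLib.zSys V
  haveI : ∀ i i' (f : i ⟶ i'), IsAffineHom (A.D.map f) := fun _ _ f => A.affine_map f
  haveI : ∀ i, IsNoetherian (A.D.obj i) := fun i => ConsLib.zSys_obj _ i
  haveI : ∀ i, CompactSpace (A.D.obj i) := fun i => inferInstance
  haveI : ∀ i, QuasiSeparatedSpace (A.D.obj i) := fun i => inferInstance
  obtain ⟨j, Gj, inst, e, hemon, lfp, qc, qs⟩ := GrpLimLib.exists_grp (c := A.c) A.hc (show Over A.c.pt from H)
  haveI hR : IsNoetherianRing j.unop.1 := by
    haveI : IsNoetherianRing (ULift.{u} ℤ) := isNoetherianRing_of_ringEquiv ℤ ULift.ringEquiv.symm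
    haveI : Algebra.FiniteType (ULift.{u} ℤ) j.unop.1 := ⟨(Subalgebra.fg_top _).mpr j.unop.2⟩
    exact Algebra.FiniteType.isNoetherianRing (ULift.{u} ℤ) j.unop.1
  exact @torSet_finite_sub_of_model V _ _ _ K _ _ _ k _ _ φ j.unop.1 _ _ hR j.unop.1.val.toRingHom
    Subtype.val_injective hφ Gj inst (by haveI := lfp; exact (inferInstance : LocallyOfFiniteType Gj.hom)) qc qs
    H _ _ _ e hemon hK hU _ B _ _ _ r _ _

variable [IsAlgClosed K] {G : Over (Spec (CommRingCat.of V))} [GrpObj G] {HK : Over (Spec (CommRingCat.of K))} [GrpObj HK]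
  {i : HK ⟶ Red.bc (Spec.map (CommRingCat.ofHom (algebraMap V K))) G} [IsMonHom i] [IsClosedImmersion i.left]
  [LocallyOfFiniteType G.hom] [QuasiCompact G.hom] [QuasiSeparated G.hom] [Smooth HK.hom] [ConnectedSpace ↥HK.left]

/-- The specialised subgroup of a subgroup without subtorus has none. -/
theorem noSubtorus_spec (hφ : Function.Surjective φ) (D : Spec' φ G HK i) (h : IsAffine HK.left)
    (hno : Red.HasNoSubtorus K HK) : IsAffine D.B.left ∧ Red.HasNoSubtorus k D.B := by
  have haff := Spec'.affine hφ D h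
  refine ⟨haff, ?_⟩
  haveI := D.hom_j; haveI := D.closed_j; haveI := D.flat; haveI := D.hom_r; haveI := D.closed_r
  haveI := D.smooth; haveI := D.connected
  haveI : LocallyOfFiniteType D.H.hom := by rw [← Over.w D.j]; infer_instance
  haveI : QuasiCompact D.H.hom := by rw [← Over.w D.j]; infer_instance
  haveI : QuasiSeparated D.H.hom := by rw [← Over.w D.j]; infer_instance
  haveI := h
  haveI := haff
  haveI : IrreducibleSpace ↥HK.left := by
    obtain ⟨z, -, -, hz⟩ := exists_Z0_gen HK
    rw [irreducibleSpace_def, Set.top_eq_univ, ← Z0_eq_univ (G := HK), hz]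
    exact isIrreducible_singleton.closure
  let g := Spec.map (CommRingCat.ofHom (algebraMap V K))
  have hK : IsAffine (Red.bc g D.H).left := IsAffine.of_isIso D.pullback_gen.isoPullback.inv
  haveI : IrreducibleSpace ↥(Red.bc g D.H).left :=
    D.pullback_gen.isoPullback.hom.homeomorph.irreducibleSpace_iff.1 ‹_›
  refine hasNoSubtorus_of_finite D.B (torSet_finite_sub_of_valuation hφ D.H hK ?_ D.B D.r)
  haveI : Mono i := (Over.forget _).mono_of_mono_map (show Mono i.left from inferInstance)
  let e : HK ≅ Red.bc g D.H := Over.isoMk D.pullback_gen.isoPullback D.pullback_gen.isoPullback_hom_snd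
  let m := (Over.pullback g).map D.j
  haveI : IsMonHom m := inferInstanceAs (IsMonHom ((Over.pullback g).map D.j))
  haveI : Mono m := by
    haveI := isClosedImmersion_map g D.j
    exact (Over.forget _).mono_of_mono_map (show Mono m.left from inferInstance)
  have he : e.hom ≫ m = i := by
    refine Over.OverMorphism.ext (pullback.hom_ext ?_ ?_)
    · simp only [Over.comp_left, Category.assoc, m, ActBC.pullback_map_left_fst]
      rw [← D.fac]
      show D.pullback_gen.isoPullback.hom ≫ pullback.fst D.H.hom g ≫ D.j.left = _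
      rw [D.pullback_gen.isoPullback_hom_fst_assoc]
    · exact (Over.w (e.hom ≫ m)).trans (Over.w i).symm
  haveI : IsMonHom e.hom :=
    { one_hom := (cancel_mono m).1 (by rw [Category.assoc, he, IsMonHom.one_hom, IsMonHom.one_hom])
      mul_hom := (cancel_mono m).1 (by
        rw [Category.assoc, he, Category.assoc, IsMonHom.mul_hom, IsMonHom.mul_hom (f := m), ← Category.assoc,
          tensorHom_comp_tensorHom, he]) }
  exact isUnipGrp_of_iso e (isUnipGrp_of_hasNoSubtorus HK hno)

end

variable {S : Scheme.{u}}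

/-- Specialization of smooth connected closed subgroups of geometric fibres. -/
theorem exists_noSubtorus_sub_of_specializes {S : Scheme.{u}} {s s' : S} (h : s ⤳ s') (G : Over S) [GrpObj G]
    [LocallyOfFiniteType G.hom] [QuasiCompact G.hom] [QuasiSeparated G.hom]
    (H : Over (Spec (CommRingCat.of (AlgebraicClosure (S.residueField s))))) [GrpObj H]
    (i : H ⟶ Red.geomFibre s G) [IsMonHom i] [IsClosedImmersion i.left] [Smooth H.hom] [ConnectedSpace ↥H.left] :
    ∃ (B : Over (Spec (CommRingCat.of (AlgebraicClosure (S.residueField s'))))) (_ : GrpObj B)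
      (r : B ⟶ Red.geomFibre s' G), IsMonHom r ∧ IsClosedImmersion r.left ∧ Smooth B.hom ∧
      ConnectedSpace ↥B.left ∧ topologicalKrullDim ↥B.left = topologicalKrullDim ↥H.left ∧
      (Red.IsSolvableGrp H → Red.IsSolvableGrp B) ∧ (AGF.IsNilpotentGrp H → AGF.IsNilpotentGrp B) ∧
      (IsCommMonObj H → IsCommMonObj B) ∧ (IsAffine H.left → Red.HasNoSubtorus _ H → IsAffine B.left ∧ Red.HasNoSubtorus _ B) := by
  obtain ⟨V, φ, q, hφ, hg, hp⟩ := exists_valuation_of_specializes h
  let G' : Over (Spec (CommRingCat.of V)) := Red.bc q G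
  haveI : LocallyOfFiniteType G'.hom := MorphismProperty.pullback_snd (P := @LocallyOfFiniteType) _ _ ‹_›
  haveI : QuasiCompact G'.hom := MorphismProperty.pullback_snd (P := @QuasiCompact) _ _ ‹_›
  haveI : QuasiSeparated G'.hom := MorphismProperty.pullback_snd (P := @QuasiSeparated) _ _ ‹_›
  let e := ActBC.bcCompIso _ q G hg
  let i' := i ≫ e.inv
  haveI : IsIso e.inv.left := (Over.forget _).map_isIso e.inv
  haveI : IsClosedImmersion i'.left := by
    show IsClosedImmersion (i.left ≫ e.inv.left)
    infer_instance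
  obtain ⟨D⟩ := nonempty_spec' hφ G' H i'
  let e' := ActBC.bcCompIso _ q G hp
  haveI := D.isMonHom_sub
  haveI := D.isClosedImmersion_sub
  haveI : IsIso e'.hom.left := (Over.forget _).map_isIso e'.hom
  refine ⟨D.B, inferInstance, D.sub ≫ e'.hom, inferInstance, ?_, D.smooth, D.connected, D.dim_eq,
    D.solvable hφ, D.nilpotent hφ, D.comm hφ, noSubtorus_spec hφ D⟩
  rw [Over.comp_left]
  infer_instance


/-- Specialization along a morphism from a valuation ring. -/
theorem exists_noSubtorus_sub_of_valuation {T : Scheme.{u}} {V : Type u} [CommRing V] [IsDomain V] [ValuationRing V]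
    {K : Type u} [Field K] [IsAlgClosed K] [Algebra V K] [IsFractionRing V K] {κ : Type u} [Field κ] [IsAlgClosed κ] {φ : V →+* κ}
    (hφ : Function.Surjective φ) (q : Spec (CommRingCat.of V) ⟶ T) {d : Spec (CommRingCat.of K) ⟶ T}
    {d' : Spec (CommRingCat.of κ) ⟶ T} (hg : Spec.map (CommRingCat.ofHom (algebraMap V K)) ≫ q = d)
    (hp : Spec.map (CommRingCat.ofHom φ) ≫ q = d') (G : Over T) [GrpObj G] [LocallyOfFiniteType G.hom]
    [QuasiCompact G.hom] [QuasiSeparated G.hom] (H : Over (Spec (CommRingCat.of K))) [GrpObj H] (i : H ⟶ Red.bc d G) [IsMonHom i]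
    [IsClosedImmersion i.left] [Smooth H.hom] [ConnectedSpace ↥H.left] :
    ∃ (B : Over (Spec (CommRingCat.of κ))) (_ : GrpObj B) (r : B ⟶ Red.bc d' G), IsMonHom r ∧
      IsClosedImmersion r.left ∧ Smooth B.hom ∧ ConnectedSpace ↥B.left ∧
      topologicalKrullDim ↥B.left = topologicalKrullDim ↥H.left ∧
      (IsAffine H.left → Red.HasNoSubtorus K H → IsAffine B.left ∧ Red.HasNoSubtorus κ B) := by
  let G' := Red.bc q G
  haveI : LocallyOfFiniteType G'.hom := MorphismProperty.pullback_snd (P := @LocallyOfFiniteType) _ _ ‹_›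
  haveI : QuasiCompact G'.hom := MorphismProperty.pullback_snd (P := @QuasiCompact) _ _ ‹_›
  haveI : QuasiSeparated G'.hom := MorphismProperty.pullback_snd (P := @QuasiSeparated) _ _ ‹_›
  let e := ActBC.bcCompIso _ q G hg
  let i' := i ≫ e.inv
  haveI : IsIso e.inv.left := (Over.forget _).map_isIso e.inv
  haveI : IsClosedImmersion i'.left := by
    show IsClosedImmersion (i.left ≫ e.inv.left)
    infer_instance
  obtain ⟨D⟩ := nonempty_spec' hφ G' H i'
  let e' := ActBC.bcCompIso _ q G hp
  haveI := D.isMonHom_sub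
  haveI := D.isClosedImmersion_sub
  haveI : IsIso e'.hom.left := (Over.forget _).map_isIso e'.hom
  refine ⟨D.B, inferInstance, D.sub ≫ e'.hom, inferInstance, ?_, D.smooth, D.connected, D.dim_eq,
    noSubtorus_spec hφ D⟩
  rw [Over.comp_left]
  infer_instance

variable {k : Type u} [Field k] [IsAlgClosed k] {F : Type u} [Field F] [IsAlgClosed F] [Algebra k F]

theorem exists_noSubtorus_sub_of_extension (G : Over (Spec (CommRingCat.of k))) [GrpObj G] [LocallyOfFiniteType G.hom]
    [QuasiCompact G.hom] (H : Over (Spec (CommRingCat.of F))) [GrpObj H]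
    (i : H ⟶ Red.bc (Spec.map (CommRingCat.ofHom (algebraMap k F))) G) [IsMonHom i] [IsClosedImmersion i.left]
    [Smooth H.hom] [ConnectedSpace ↥H.left] :
    ∃ (B : Over (Spec (CommRingCat.of k))) (_ : GrpObj B) (r : B ⟶ G), IsMonHom r ∧ IsClosedImmersion r.left ∧
      Smooth B.hom ∧ ConnectedSpace ↥B.left ∧ topologicalKrullDim ↥B.left = topologicalKrullDim ↥H.left ∧
      (IsAffine H.left → Red.HasNoSubtorus F H → IsAffine B.left ∧ Red.HasNoSubtorus k B) := by
  obtain ⟨V, φ, σ, hφ, hσ, hφσ⟩ := exists_place (algebraMap k F) (RingHom.id k)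
    (fun x hx => (map_eq_zero _).1 hx)
    (fun c => ⟨Polynomial.X - Polynomial.C c, by simp [Polynomial.X_sub_C_ne_zero], by simp⟩)
  let q := Spec.map (CommRingCat.ofHom σ)
  have hg : Spec.map (CommRingCat.ofHom (algebraMap V F)) ≫ q = Spec.map (CommRingCat.ofHom (algebraMap k F)) := by
    rw [← Spec.map_comp, ← CommRingCat.ofHom_comp,
      show (algebraMap V F).comp σ = algebraMap k F from RingHom.ext hσ]
  have hp : Spec.map (CommRingCat.ofHom φ) ≫ q = 𝟙 _ := by
    rw [← Spec.map_comp, ← CommRingCat.ofHom_comp, show φ.comp σ = RingHom.id k from RingHom.ext hφσ]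
    exact Spec.map_id _
  haveI : QuasiSeparated G.hom := by
    haveI : IsSeparated G.hom := Groth.Agent.GrpField.isSeparated_grp (G := G)
    infer_instance
  obtain ⟨B, hB, r, hr, hrc, hBs, hBc, hdim, hsolv⟩ := exists_noSubtorus_sub_of_valuation hφ q hg hp G H i
  haveI : IsIso (bcId G).hom.left := (Over.forget _).map_isIso (bcId G).hom
  refine ⟨B, hB, r ≫ (bcId G).hom, inferInstance, ?_, hBs, hBc, hdim, hsolv⟩
  rw [Over.comp_left]
  infer_instance

end SubSpecLib.Unip
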