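import Groth.Agent.SubSpecLib.Regular
import Groth.Agent.S0429
import Groth.Agent.DimFieldBCLib.Basic

/-! Induction on the dimension of a regular local ring. -/

set_option autoImplicit false
set_option linter.style.haveILetI false
set_option backward.isDefEq.respectTransparency false
set_option maxHeartbeats 1000000

universe u

open CategoryTheory CategoryTheory.Limits MonoidalCategory CartesianMonoidalCategory AlgebraicGeometry
open scoped MonObj

noncomputable section

attribute [-instance] CategoryTheory.Hom.commGroup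

namespace SubSpecLib

/-- The statement that `G` has a closed subgroup of dimension `d` with the property `P`. -/
def HasSub (P : ∀ (F : Type u) [Field F] (H N : Over (Spec (CommRingCat.of F))) [GrpObj H] [GrpObj N], (H ⟶ N) → Prop)
    (d : ℕ) (F : Type u) [Field F] (N : Over (Spec (CommRingCat.of F))) [GrpObj N] : Prop :=
  ∃ (H : Over (Spec (CommRingCat.of F))) (_ : GrpObj H) (i : H ⟶ N),
    IsMonHom i ∧ IsClosedImmersion i.left ∧ P F H N i ∧ topologicalKrullDim ↥H.left = (d : WithBot ℕ∞)

variable {P : ∀ (F : Type u) [Field F] (H N : Over (Spec (CommRingCat.of F))) [GrpObj H] [GrpObj N], (H ⟶ N) → Prop}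
  {d : ℕ}
  (hiso : ∀ (F : Type u) [Field F] (H N N' : Over (Spec (CommRingCat.of F))) [GrpObj H] [GrpObj N] [GrpObj N']
    (i : H ⟶ N) [IsMonHom i] (e : N ≅ N') [IsMonHom e.hom], P F H N i → P F H N' (i ≫ e.hom))
  (hbc : ∀ (F F' : Type u) [Field F] [Field F'] (σ : F →+* F') (H N : Over (Spec (CommRingCat.of F))) [GrpObj H]
    [GrpObj N] (i : H ⟶ N) [IsMonHom i], P F H N i →
      P F' (Red.bc (Spec.map (CommRingCat.ofHom σ)) H) (Red.bc (Spec.map (CommRingCat.ofHom σ)) N)
        ((Over.pullback (Spec.map (CommRingCat.ofHom σ))).map i))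

include hiso in
theorem HasSub.iso {F : Type u} [Field F] {N N' : Over (Spec (CommRingCat.of F))} [GrpObj N] [GrpObj N']
    (e : N ≅ N') [IsMonHom e.hom] (h : HasSub P d F N) : HasSub P d F N' := by
  obtain ⟨H, hH, i, hi, hic, hP, hd⟩ := h
  haveI := hi
  haveI := hic
  haveI : IsIso e.hom.left := (Over.forget _).map_isIso e.hom
  refine ⟨H, hH, i ≫ e.hom, inferInstance, ?_, hiso F H N N' i e hP, hd⟩
  rw [Over.comp_left]
  infer_instance

include hiso in
theorem HasSub.isoSymm {F : Type u} [Field F] {N N' : Over (Spec (CommRingCat.of F))} [GrpObj N] [GrpObj N']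
    (e : N' ≅ N) [IsMonHom e.hom] (h : HasSub P d F N) : HasSub P d F N' := by
  haveI : IsMonHom e.symm.hom := inferInstanceAs (IsMonHom e.inv)
  exact h.iso hiso e.symm

include hbc in
theorem HasSub.bc {F F' : Type u} [Field F] [Field F'] (σ : F →+* F') {N : Over (Spec (CommRingCat.of F))} [GrpObj N]
    [LocallyOfFiniteType N.hom] (h : HasSub P d F N) :
    HasSub P d F' (Red.bc (Spec.map (CommRingCat.ofHom σ)) N) := by
  obtain ⟨H, hH, i, hi, hic, hP, hd⟩ := h
  haveI := hi
  haveI := hic
  haveI : LocallyOfFiniteType H.hom := by rw [← Over.w i]; infer_instance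
  algebraize [σ]
  refine ⟨_, inferInstance, _, inferInstance, MorphismProperty.baseChange_map (P := @IsClosedImmersion) _ i hic,
    hbc F F' σ H N i hP, ?_⟩
  rw [← hd]
  exact Groth.Agent.DimFieldBCLib.dim_pullback H.hom (Spec.map (CommRingCat.ofHom (algebraMap F F')))

variable {Q : MorphismProperty Scheme.{u}} [Q.IsStableUnderBaseChange]
  (hstep : ∀ (R : Type u) [CommRing R] [IsDomain R] [IsDiscreteValuationRing R] (K : Type u) [Field K] [Algebra R K]
    [IsFractionRing R K] (k : Type u) [Field k] (φ : R →+* k), Function.Surjective φ →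
    ∀ (G : Over (Spec (CommRingCat.of R))) [GrpObj G] [Flat G.hom] [LocallyOfFiniteType G.hom] [QuasiCompact G.hom],
      Q G.hom → ∀ (H : Over (Spec (CommRingCat.of R))) [GrpObj H] [Flat H.hom] [LocallyOfFinitePresentation H.hom]
        [QuasiCompact H.hom] (j : H ⟶ G) [IsMonHom j] [IsClosedImmersion j.left] (HK : Over (Spec (CommRingCat.of K)))
        [GrpObj HK] (i : HK ⟶ Red.bc (gp R K) G) [IsMonHom i] [IsClosedImmersion i.left] (φH : HK.left ⟶ H.left),
        IsPullback φH HK.hom H.hom (gp R K) → φH ≫ j.left = u₀ G HK i → φH.ker = ⊥ → P K HK (Red.bc (gp R K) G) i →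
        P k (Red.bc (Spec.map (CommRingCat.ofHom φ)) H) (Red.bc (Spec.map (CommRingCat.ofHom φ)) G)
          ((Over.pullback (Spec.map (CommRingCat.ofHom φ))).map j))

include hstep in
theorem hasSub_dvr (R : Type u) [CommRing R] [IsDomain R] [IsDiscreteValuationRing R] (K : Type u) [Field K]
    [Algebra R K] [IsFractionRing R K] {k : Type u} [Field k] (φ : R →+* k) (hφ : Function.Surjective φ)
    (G : Over (Spec (CommRingCat.of R))) [GrpObj G] [Flat G.hom] [LocallyOfFiniteType G.hom] [QuasiCompact G.hom]
    (hQ : Q G.hom) (h : HasSub P d K (Red.bc (gp R K) G)) :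
    HasSub P d k (Red.bc (Spec.map (CommRingCat.ofHom φ)) G) := by
  obtain ⟨HK, hHK, i, hi, hic, hP, hd⟩ := h
  haveI := hi
  haveI := hic
  obtain ⟨H, hH, j, φH, hj, hjc, hfl, hpb, hfac, hker⟩ := exists_closure (K := K) (G := G) (HK := HK) i
  haveI := hj
  haveI := hjc
  haveI : LocallyOfFiniteType H.hom := by rw [← Over.w j]; infer_instance
  haveI : IsLocallyNoetherian H.left := LocallyOfFiniteType.isLocallyNoetherian H.hom
  haveI : QuasiCompact H.hom := by rw [← Over.w j]; infer_instance
  haveI : LocallyOfFinitePresentation H.hom := Groth.Agent.S0429.result H.hom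
  refine ⟨_, inferInstance, _, inferInstance, MorphismProperty.baseChange_map (P := @IsClosedImmersion) _ j hjc,
    hstep R K k φ hφ G hQ H j HK i φH hpb hfac hker hP, ?_⟩
  rw [dim_special_eq (K := K) φ hφ H, ← hd]
  exact hpb.isoPullback.hom.homeomorph.symm.isHomeomorph.topologicalKrullDim_eq

include hiso hbc hstep in
theorem hasSub_regular (n : ℕ) : ∀ (A : Type u) [CommRing A] [IsDomain A] [IsRegularLocalRing A],
    (IsLocalRing.maximalIdeal A).spanFinrank = n → ∀ (K : Type u) [Field K] [Algebra A K] [IsFractionRing A K]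
    (k : Type u) [Field k] (φ : A →+* k), Function.Surjective φ →
    ∀ (G : Over (Spec (CommRingCat.of A))) [GrpObj G] [Flat G.hom] [LocallyOfFiniteType G.hom] [QuasiCompact G.hom],
      Q G.hom → HasSub P d K (Red.bc (Spec.map (CommRingCat.ofHom (algebraMap A K))) G) →
      HasSub P d k (Red.bc (Spec.map (CommRingCat.ofHom φ)) G) := by
  induction n with
  | zero =>
    intro A _ _ _ hn K _ _ _ k _ φ hφ G _ _ _ _ _ h
    have hf : IsField A := IsLocalRing.isField_iff_maximalIdeal_eq.2
      ((Submodule.spanFinrank_eq_zero_iff_eq_bot (IsNoetherian.noetherian _)).1 hn)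
    have hinj : Function.Injective φ := by
      letI := hf.toField
      exact φ.injective
    let σ : K →+* k := IsFractionRing.lift hinj
    haveI : LocallyOfFiniteType (Red.bc (Spec.map (CommRingCat.ofHom (algebraMap A K))) G).hom :=
      MorphismProperty.pullback_snd (P := @LocallyOfFiniteType) _ _ ‹_›
    refine (h.bc hbc σ).iso hiso (ActBC.bcCompIso _ _ G ?_)
    rw [← Spec.map_comp, ← CommRingCat.ofHom_comp]
    congr 2
    exact RingHom.ext fun a => IsFractionRing.lift_algebraMap hinj a
  | succ n ih =>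
    intro A _ _ _ hn K _ _ _ k _ φ hφ G _ _ _ _ hQ h
    have hm : IsLocalRing.maximalIdeal A ≠ ⊥ := fun e => by
      rw [e, Submodule.spanFinrank_bot] at hn; omega
    obtain ⟨x, hx, hx2, -⟩ := CommAlgDim.exists_mem_notMem_sq (R := A) Set.finite_empty
      (fun P hP => hP.elim) (fun P hP => hP.elim) hm
    let p := Ideal.span {x}
    haveI : Nontrivial (A ⧸ p) := Ideal.Quotient.nontrivial_iff.2 fun e => by
      have : p ≤ IsLocalRing.maximalIdeal A := (Ideal.span_singleton_le_iff_mem _).2 hx
      exact (IsLocalRing.maximalIdeal.isMaximal A).ne_top (top_le_iff.1 (e ▸ this))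
    haveI := CommAlgDim.isRegularLocalRing_quotient_singleton hx hx2
    haveI : IsDomain (A ⧸ p) := CommAlgDim.isDomain_of_isRegularLocalRing _
    haveI : p.IsPrime := (Ideal.Quotient.isDomain_iff_prime _).1 inferInstance
    have hx0 : x ≠ 0 := fun e => hx2 (e ▸ Submodule.zero_mem _)
    let R := Localization.AtPrime p
    haveI : IsNoetherianRing R := IsLocalization.isNoetherianRing p.primeCompl R inferInstance
    haveI : IsDiscreteValuationRing R := by
      have hmax : IsLocalRing.maximalIdeal R = Ideal.span {algebraMap A R x} := by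
        rw [← Localization.AtPrime.map_eq_maximalIdeal, Ideal.map_span, Set.image_singleton]
      have hne : algebraMap A R x ≠ 0 := (map_ne_zero_iff _
        (IsLocalization.injective R p.primeCompl_le_nonZeroDivisors)).2 hx0
      have hnf : ¬ IsField R := fun hf => hne (Ideal.span_singleton_eq_bot.1
        (hmax ▸ IsLocalRing.isField_iff_maximalIdeal_eq.1 hf))
      exact ((IsDiscreteValuationRing.TFAE R hnf).out 0 4 : IsDiscreteValuationRing R ↔ (IsLocalRing.maximalIdeal R).IsPrincipal).2 ⟨⟨_, hmax⟩⟩
    have hunit : ∀ y : p.primeCompl, IsUnit (algebraMap A K y) := fun y =>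
      IsUnit.mk0 _ ((map_ne_zero_iff _ (IsFractionRing.injective A K)).2
        (nonZeroDivisors.ne_zero (p.primeCompl_le_nonZeroDivisors y.2)))
    letI : Algebra R K := (IsLocalization.lift (S := R) hunit).toAlgebra
    haveI : IsScalarTower A R K := IsScalarTower.of_algebraMap_eq fun a => (IsLocalization.lift_eq hunit a).symm
    haveI : IsFractionRing R K :=
      IsFractionRing.isFractionRing_of_isDomain_of_isLocalization p.primeCompl R K
    let ιA := Spec.map (CommRingCat.ofHom (algebraMap A R))
    let GR := Red.bc ιA G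
    haveI : Flat GR.hom := MorphismProperty.pullback_snd (P := @Flat) _ _ ‹_›
    haveI : LocallyOfFiniteType GR.hom := MorphismProperty.pullback_snd (P := @LocallyOfFiniteType) _ _ ‹_›
    haveI : QuasiCompact GR.hom := MorphismProperty.pullback_snd (P := @QuasiCompact) _ _ ‹_›
    have eK : gp R K ≫ ιA = Spec.map (CommRingCat.ofHom (algebraMap A K)) := by
      rw [← Spec.map_comp, ← CommRingCat.ofHom_comp, ← IsScalarTower.algebraMap_eq]
    have h1 := hasSub_dvr hstep R K (IsLocalRing.residue R) IsLocalRing.residue_surjective GR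
      (MorphismProperty.pullback_snd _ _ hQ) (h.isoSymm hiso (ActBC.bcCompIso _ _ G eK))
    let Aq := A ⧸ p
    let Gq := Red.bc (Spec.map (CommRingCat.ofHom (Ideal.Quotient.mk p))) G
    haveI : Flat Gq.hom := MorphismProperty.pullback_snd (P := @Flat) _ _ ‹_›
    haveI : LocallyOfFiniteType Gq.hom := MorphismProperty.pullback_snd (P := @LocallyOfFiniteType) _ _ ‹_›
    haveI : QuasiCompact Gq.hom := MorphismProperty.pullback_snd (P := @QuasiCompact) _ _ ‹_›
    have h2 : HasSub P d p.ResidueField (Red.bc (Spec.map (CommRingCat.ofHom (algebraMap Aq p.ResidueField))) Gq) := by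
      have h3 := h1.iso hiso (ActBC.bcCompIso _ _ G (rfl : _ = Spec.map (CommRingCat.ofHom (IsLocalRing.residue R)) ≫ ιA))
      refine h3.isoSymm hiso (ActBC.bcCompIso _ _ G ?_)
      rw [← Spec.map_comp, ← Spec.map_comp, ← CommRingCat.ofHom_comp, ← CommRingCat.ofHom_comp]
      rfl
    have hle : ∀ a ∈ p, φ a = 0 := fun a ha => by
      by_contra hne
      obtain ⟨b, hb⟩ := Ideal.mem_span_singleton'.1 ha
      have hk : RingHom.ker φ = IsLocalRing.maximalIdeal A :=
        IsLocalRing.eq_maximalIdeal (RingHom.ker_isMaximal_of_surjective φ hφ)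
      exact hne (RingHom.mem_ker.1 (hk ▸ (Ideal.mul_mem_left _ b hx) |> fun h => hb ▸ h))
    let ψ := Ideal.Quotient.lift p φ hle
    have hψ : Function.Surjective ψ := Ideal.Quotient.lift_surjective_of_surjective p hle hφ
    have hn' : (IsLocalRing.maximalIdeal Aq).spanFinrank = n := by
      have := CommAlgDim.spanFinrank_maximalIdeal_quotient_singleton hx hx2
      exact Nat.add_right_cancel (this.trans hn)
    refine (ih Aq hn' p.ResidueField k ψ hψ Gq (MorphismProperty.pullback_snd _ _ hQ) h2).iso hiso
      (ActBC.bcCompIso _ _ G ?_)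
    rw [← Spec.map_comp, ← CommRingCat.ofHom_comp]
    rfl

end SubSpecLib
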