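import Mathlib

/-! Extension of a specialization of geometric points to a place of an algebraically closed field. -/

set_option autoImplicit false

universe u v w

open Polynomial IsLocalRing

namespace SubSpecLib

variable {O : Type u} [CommRing O] {L : Type v} [Field L] {k : Type w} [Field k]

/-- A subring of `L × k` is the graph of a partially defined homomorphism. -/
def Functional (G : Subring (L × k)) : Prop := ∀ c : k, ((0 : L), c) ∈ G → c = 0

theorem Functional.eq {G : Subring (L × k)} (hG : Functional G) {a : L} {b c : k}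
    (hb : (a, b) ∈ G) (hc : (a, c) ∈ G) : b = c := by
  have h := sub_mem hb hc
  rw [Prod.mk_sub_mk, sub_self] at h
  exact sub_eq_zero.1 (hG _ h)

theorem exists_max_functional (G₀ : Subring (L × k)) (h₀ : Functional G₀) :
    ∃ G : Subring (L × k), G₀ ≤ G ∧ Maximal Functional G := by
  refine zorn_le_nonempty₀ {G : Subring (L × k) | Functional G} ?_ G₀ h₀
  intro c hc hchain y hy
  haveI : Nonempty c := ⟨⟨y, hy⟩⟩
  have hdir : Directed (· ≤ ·) (fun i : c => (i : Subring (L × k))) := hchain.directed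
  refine ⟨⨆ i : c, (i : Subring (L × k)), ?_, fun z hz => le_iSup (fun i : c => (i : Subring (L × k))) ⟨z, hz⟩⟩
  intro x hx
  obtain ⟨i, hi⟩ := (Subring.mem_iSup_of_directed hdir).1 hx
  exact hc i.2 x hi

variable {G : Subring (L × k)}

theorem inv_mem_of_maximal (hG : Maximal Functional G) {a : L} {b : k} (hab : (a, b) ∈ G) (hb : b ≠ 0) :
    (a⁻¹, b⁻¹) ∈ G := by
  have ha : a ≠ 0 := fun h => hb (hG.1 b (h ▸ hab))
  let G' : Subring (L × k) :=
    { carrier := {x | ∃ n : ℕ, x * (a, b) ^ n ∈ G}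
      mul_mem' := by
        rintro x y ⟨n, hn⟩ ⟨m, hm⟩
        exact ⟨n + m, by rw [pow_add, mul_mul_mul_comm]; exact mul_mem hn hm⟩
      one_mem' := ⟨0, by simp⟩
      zero_mem' := ⟨0, by simp⟩
      add_mem' := by
        rintro x y ⟨n, hn⟩ ⟨m, hm⟩
        refine ⟨n + m, ?_⟩
        have e : (x + y) * (a, b) ^ (n + m) = x * (a, b) ^ n * (a, b) ^ m + y * (a, b) ^ m * (a, b) ^ n := by
          ring
        rw [e]
        exact add_mem (mul_mem hn (pow_mem hab m)) (mul_mem hm (pow_mem hab n))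
      neg_mem' := by
        rintro x ⟨n, hn⟩
        exact ⟨n, by rw [neg_mul]; exact neg_mem hn⟩ }
  have hle : G ≤ G' := fun x hx => ⟨0, by simpa using hx⟩
  have hf : Functional G' := by
    rintro c ⟨n, hn⟩
    have h : ((0 : L), c * b ^ n) ∈ G := by simpa using hn
    exact (mul_eq_zero.1 (hG.1 _ h)).resolve_right (pow_ne_zero _ hb)
  have he : G' ≤ G := hG.2 hf hle
  refine he ⟨1, ?_⟩
  have e : (a⁻¹, b⁻¹) * (a, b) ^ 1 = (1 : L × k) := by
    rw [pow_one, Prod.mk_mul_mk, inv_mul_cancel₀ ha, inv_mul_cancel₀ hb]; rfl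
  rw [e]; exact one_mem G

theorem exists_place [IsAlgClosed L] [IsAlgClosed k] (ρ : O →+* L) (χ : O →+* k)
    (hker : ∀ x, ρ x = 0 → χ x = 0)
    (halg : ∀ c : k, ∃ p : O[X], p.map χ ≠ 0 ∧ p.eval₂ χ c = 0) :
    ∃ (V : ValuationSubring L) (φ : V →+* k) (σ : O →+* V),
      Function.Surjective φ ∧ (∀ x, (σ x : L) = ρ x) ∧ ∀ x, φ (σ x) = χ x := by
  have h₀ : Functional (ρ.prod χ).range := by
    rintro c ⟨x, hx⟩
    simp only [RingHom.prod_apply, Prod.mk.injEq] at hx
    rw [← hx.2]
    exact hker x hx.1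
  obtain ⟨G, hle, hG⟩ := exists_max_functional _ h₀
  let A : Subring L := G.map (RingHom.fst L k)
  have hmemA : ∀ {a : L}, a ∈ A → ∃ b : k, (a, b) ∈ G := by
    rintro a ⟨⟨a', b⟩, h, rfl⟩
    exact ⟨b, h⟩
  let f : A → k := fun a => (hmemA a.2).choose
  have hf : ∀ a : A, ((a : L), f a) ∈ G := fun a => (hmemA a.2).choose_spec
  let ψ : A →+* k :=
    { toFun := f
      map_one' := hG.1.eq (hf 1) (show ((1 : L), (1 : k)) ∈ G from one_mem G)
      map_mul' := fun x y => hG.1.eq (hf (x * y)) (mul_mem (hf x) (hf y))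
      map_zero' := hG.1.eq (hf 0) (show ((0 : L), (0 : k)) ∈ G from zero_mem G)
      map_add' := fun x y => hG.1.eq (hf (x + y)) (add_mem (hf x) (hf y)) }
  have hψ : ∀ {a : L} {b : k} (h : (a, b) ∈ G), ψ ⟨a, ⟨(a, b), h, rfl⟩⟩ = b :=
    fun h => hG.1.eq (hf _) h
  -- `A` is local
  have hunit : ∀ a : A, ψ a ≠ 0 → IsUnit a := by
    intro a ha
    have h := inv_mem_of_maximal hG (hf a) ha
    have ha0 : (a : L) ≠ 0 := fun h0 => ha (hG.1 _ (h0 ▸ hf a))
    exact IsUnit.of_mul_eq_one (b := ⟨(a : L)⁻¹, ⟨_, h, rfl⟩⟩) (Subtype.ext (mul_inv_cancel₀ ha0))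
  haveI : IsLocalRing A := IsLocalRing.of_isUnit_or_isUnit_one_sub_self fun a => by
    by_cases h : ψ a = 0
    · exact Or.inr (hunit _ (by simp [h]))
    · exact Or.inl (hunit _ h)
  obtain ⟨B, hAB, hloc⟩ := LocalSubring.exists_le_valuationSubring (⟨A⟩ : LocalSubring L)
  let incl : A →+* B := Subring.inclusion hAB
  have hm : ∀ a : A, residue B (incl a) = 0 → ψ a = 0 := by
    intro a ha
    by_contra h
    exact ((residue_eq_zero_iff _).1 ha) ((hunit a h).map incl)
  -- `A = B`
  have hBA : ∀ x : B, (x : L) ∈ A := by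
    intro x
    let K₀ := ResidueField A
    haveI : IsLocalHom incl := hloc
    haveI : IsLocalHom ψ := ⟨fun a ha => hunit a ha.ne_zero⟩
    let j : K₀ →+* ResidueField B := ResidueField.map incl
    let ψ₀ : K₀ →+* k := IsLocalRing.ResidueField.lift ψ
    letI : Algebra K₀ (ResidueField B) := j.toAlgebra
    obtain ⟨c, hc⟩ : ∃ c : k, ∀ Q : K₀[X], Q.eval₂ j (residue B x) = 0 → Q.eval₂ ψ₀ c = 0 := by
      by_cases halg' : IsIntegral K₀ (residue B x)
      · obtain ⟨c, hc⟩ := IsAlgClosed.exists_root ((minpoly K₀ (residue B x)).map ψ₀)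
          (by rw [degree_map]; exact ne_of_gt (minpoly.degree_pos halg'))
        refine ⟨c, fun Q hQ => ?_⟩
        have hd : minpoly K₀ (residue B x) ∣ Q := minpoly.dvd _ _ (by rwa [aeval_def])
        obtain ⟨R, rfl⟩ := hd
        rw [eval₂_mul, eval₂_eq_eval_map ψ₀, hc, zero_mul]
      · refine ⟨0, fun Q hQ => ?_⟩
        have hQ0 : Q = 0 := by
          by_contra hne
          exact halg' (isAlgebraic_iff_isIntegral.1 ⟨Q, hne, by rwa [aeval_def]⟩)
        rw [hQ0, eval₂_zero]
    let θ : A[X] →+* L × k := (eval₂RingHom A.subtype (x : L)).prod (eval₂RingHom ψ c)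
    have hθ : Functional θ.range := by
      rintro d ⟨P, hP⟩
      simp only [θ, RingHom.prod_apply, coe_eval₂RingHom, Prod.mk.injEq] at hP
      rw [← hP.2]
      have h1 : P.eval₂ incl x = 0 := by
        refine Subtype.ext ?_
        have := hom_eval₂ P incl B.subtype x
        rw [show B.subtype (P.eval₂ incl x) = ((P.eval₂ incl x : B) : L) from rfl] at this
        rw [this]
        exact hP.1
      have h2 : (P.map (residue A)).eval₂ j (residue B x) = 0 := by
        rw [eval₂_map]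
        have := hom_eval₂ P incl (residue B) x
        rw [h1, map_zero] at this
        exact this.symm
      have h3 := hc _ h2
      rwa [eval₂_map] at h3
    have hGθ : G ≤ θ.range := by
      rintro ⟨a, b⟩ hab
      refine ⟨C ⟨a, ⟨_, hab, rfl⟩⟩, ?_⟩
      simp [θ, hψ hab]
    have hxmem : θ X ∈ G := hG.2 hθ hGθ ⟨X, rfl⟩
    exact ⟨θ X, hxmem, by simp [θ]⟩
  have hAB' : A = B.toSubring := le_antisymm hAB fun x hx => hBA ⟨x, hx⟩
  let toA : B →+* A := Subring.inclusion (le_of_eq hAB'.symm)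
  let σ : O →+* B := ρ.codRestrict B fun x => hAB (show ρ x ∈ A from ⟨_, hle ⟨x, rfl⟩, rfl⟩)
  refine ⟨B, ψ.comp toA, σ, ?_, fun x => rfl, fun x => hψ (hle ⟨x, rfl⟩)⟩
  -- surjectivity
  have hsurjA : Function.Surjective ψ := by
    intro c
    have hinv : ∀ y ∈ ψ.range, y⁻¹ ∈ ψ.range := by
      rintro _ ⟨a, rfl⟩
      by_cases h : ψ a = 0
      · exact ⟨0, by simp [h]⟩
      · obtain ⟨u, hu⟩ := hunit a h
        refine ⟨((u⁻¹ : Aˣ) : A), eq_inv_of_mul_eq_one_left ?_⟩
        rw [← hu, ← map_mul, Units.inv_mul, map_one]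
    let K₁ : Subfield k := { toSubring := ψ.range, inv_mem' := hinv }
    let ψ₁ : A →+* K₁ := ψ.codRestrict K₁ fun a => (⟨a, rfl⟩ : ψ a ∈ ψ.range)
    have hψ₁ : Function.Surjective ψ₁ := fun ⟨_, a, ha⟩ => ⟨a, Subtype.ext ha⟩
    obtain ⟨p, hp0, hp⟩ := halg c
    let χ₁ : O →+* K₁ := χ.codRestrict K₁ fun x =>
      (⟨⟨ρ x, ⟨(ρ x, χ x), hle ⟨x, rfl⟩, rfl⟩⟩, hψ (hle ⟨x, rfl⟩)⟩ : χ x ∈ ψ.range)
    have hint : IsIntegral K₁ c := by
      refine isAlgebraic_iff_isIntegral.1 ⟨p.map χ₁, ?_, ?_⟩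
      · intro h
        apply hp0
        have := congrArg (Polynomial.map (algebraMap K₁ k)) h
        rw [map_map, Polynomial.map_zero] at this
        exact this
      · rw [aeval_def, eval₂_map]
        exact hp
    have hlifts : minpoly K₁ c ∈ lifts ψ₁ := by
      rw [mem_lifts]
      exact Polynomial.map_surjective _ hψ₁ _
    obtain ⟨q, hq, -, hqm⟩ := lifts_and_degree_eq_and_monic hlifts (minpoly.monic hint)
    -- roots of `q` are in `A`
    have hsplit : (((q.map A.subtype).roots).map (fun r => X - C r)).prod = q.map A.subtype :=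
      (Polynomial.prod_multiset_X_sub_C_of_monic_of_roots_card_eq (hqm.map _)
        (IsAlgClosed.splits (q.map A.subtype)).natDegree_eq_card_roots.symm)
    have hroots : ∀ r ∈ (q.map A.subtype).roots, r ∈ A := by
      intro r hr
      rw [hAB']
      have hr0 : IsRoot (q.map A.subtype) r := isRoot_of_mem_roots hr
      have hint' : IsIntegral B r := ⟨q.map incl, hqm.map _, by
        rw [eval₂_map]
        rw [IsRoot, eval_map] at hr0
        exact hr0⟩
      obtain ⟨y, hy⟩ := IsIntegrallyClosed.isIntegral_iff.1 hint'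
      exact hy ▸ y.2
    let s : Multiset A := (q.map A.subtype).roots.pmap (fun r h => ⟨r, h⟩) hroots
    have hs : (s.map fun r => X - C r).prod = q := by
      apply Polynomial.map_injective A.subtype Subtype.val_injective
      rw [Polynomial.map_multiset_prod, Multiset.map_map]
      simp only [s, Multiset.map_pmap, Function.comp_apply, Polynomial.map_sub, map_X, map_C]
      simpa [Multiset.pmap_eq_map] using hsplit
    have hev : (q.map ψ).eval c = 0 := by
      have h1 : q.map ψ = (minpoly K₁ c).map (algebraMap K₁ k) := by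
        rw [← hq, map_map]; rfl
      rw [h1, eval_map, ← aeval_def]
      exact minpoly.aeval _ _
    rw [← hs, Polynomial.map_multiset_prod, eval_multiset_prod, Multiset.prod_eq_zero_iff,
      Multiset.map_map, Multiset.map_map] at hev
    obtain ⟨r, -, hr⟩ := Multiset.mem_map.1 hev
    simp only [Function.comp_apply, Polynomial.map_sub, map_X, map_C, eval_sub, eval_X, eval_C] at hr
    exact ⟨r, (sub_eq_zero.1 hr).symm⟩
  intro c
  obtain ⟨⟨a, ha⟩, rfl⟩ := hsurjA c
  exact ⟨⟨a, hAB ha⟩, rfl⟩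

end SubSpecLib
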