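import Groth.Agent.SubSpecLib.Main
import Groth.Agent.SubSpecLib.Place
import Groth.Prelude.Def_Red

/-! A specialization of points as a valuation ring with algebraically closed fields. -/

set_option autoImplicit false
set_option linter.style.haveILetI false
set_option backward.isDefEq.respectTransparency false
set_option maxHeartbeats 1000000

universe u

open CategoryTheory CategoryTheory.Limits MonoidalCategory CartesianMonoidalCategory AlgebraicGeometry
open scoped MonObj

noncomputable section

attribute [-instance] CategoryTheory.Hom.commGroup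

namespace SubSpecLib

theorem exists_valuation_of_specializes {S : Scheme.{u}} {s s' : S} (h : s ⤳ s') :
    ∃ (V : ValuationSubring (AlgebraicClosure (S.residueField s))) (φ : V →+* AlgebraicClosure (S.residueField s'))
      (q : Spec (CommRingCat.of V) ⟶ S), Function.Surjective φ ∧
      Spec.map (CommRingCat.ofHom (algebraMap V (AlgebraicClosure (S.residueField s)))) ≫ q = Red.geomPt s ∧
      Spec.map (CommRingCat.ofHom φ) ≫ q = Red.geomPt s' := by
  let a : S.residueField s →+* AlgebraicClosure (S.residueField s) := algebraMap _ _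
  let a' : S.residueField s' →+* AlgebraicClosure (S.residueField s') := algebraMap _ _
  let ρ : S.presheaf.stalk s' →+* AlgebraicClosure (S.residueField s) :=
    a.comp (S.presheaf.stalkSpecializes h ≫ S.residue s).hom
  let χ : S.presheaf.stalk s' →+* AlgebraicClosure (S.residueField s') := a'.comp (S.residue s').hom
  obtain ⟨V, φ, σ, hφ, hσ, hφσ⟩ := exists_place ρ χ (fun x hx => by
    have hx' : S.residue s (S.presheaf.stalkSpecializes h x) = 0 := (map_eq_zero a).1 hx
    have hx2 : ¬ IsUnit x := fun hu => ((IsLocalRing.residue_eq_zero_iff _).1 hx')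
      (hu.map (S.presheaf.stalkSpecializes h).hom)
    show a' (S.residue s' x) = 0
    rw [show S.residue s' x = 0 from (IsLocalRing.residue_eq_zero_iff _).2 hx2, map_zero]) (fun c => by
    obtain ⟨p, hp⟩ := Polynomial.map_surjective (S.residue s').hom IsLocalRing.residue_surjective
      (minpoly (S.residueField s') c)
    refine ⟨p, ?_, ?_⟩
    · rw [← Polynomial.map_map, hp]
      exact Polynomial.map_ne_zero (minpoly.ne_zero (Algebra.IsIntegral.isIntegral c))
    · rw [← Polynomial.eval_map, ← Polynomial.map_map, hp, Polynomial.eval_map, ← Polynomial.aeval_def]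
      exact minpoly.aeval _ _)
  refine ⟨V, φ, Spec.map (CommRingCat.ofHom σ) ≫ S.fromSpecStalk s', hφ, ?_, ?_⟩
  · have e : (algebraMap V (AlgebraicClosure (S.residueField s))).comp σ = ρ := RingHom.ext hσ
    rw [← Spec.map_comp_assoc, ← CommRingCat.ofHom_comp, e]
    show Spec.map (S.presheaf.stalkSpecializes h ≫ S.residue s ≫ CommRingCat.ofHom a) ≫ _ = _
    rw [Spec.map_comp, Spec.map_comp, Category.assoc, Category.assoc,
      Scheme.SpecMap_stalkSpecializes_fromSpecStalk]
    rfl
  · have e : φ.comp σ = χ := RingHom.ext hφσ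
    rw [← Spec.map_comp_assoc, ← CommRingCat.ofHom_comp, e]
    show Spec.map (S.residue s' ≫ CommRingCat.ofHom a') ≫ _ = _
    rw [Spec.map_comp, Category.assoc]
    rfl

/-- Specialization of smooth connected closed subgroups of geometric fibres. -/
theorem exists_sub_of_specializes {S : Scheme.{u}} {s s' : S} (h : s ⤳ s') (G : Over S) [GrpObj G]
    [LocallyOfFiniteType G.hom] [QuasiCompact G.hom]
    (H : Over (Spec (CommRingCat.of (AlgebraicClosure (S.residueField s))))) [GrpObj H]
    (i : H ⟶ Red.geomFibre s G) [IsMonHom i] [IsClosedImmersion i.left] [Smooth H.hom] [ConnectedSpace ↥H.left] :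
    ∃ (B : Over (Spec (CommRingCat.of (AlgebraicClosure (S.residueField s'))))) (_ : GrpObj B)
      (r : B ⟶ Red.geomFibre s' G), IsMonHom r ∧ IsClosedImmersion r.left ∧ Smooth B.hom ∧
      ConnectedSpace ↥B.left ∧ topologicalKrullDim ↥B.left = topologicalKrullDim ↥H.left ∧
      (Red.IsSolvableGrp H → Red.IsSolvableGrp B) ∧ (AGF.IsNilpotentGrp H → AGF.IsNilpotentGrp B) ∧
      (IsCommMonObj H → IsCommMonObj B) := by
  obtain ⟨V, φ, q, hφ, hg, hp⟩ := exists_valuation_of_specializes h
  let G' : Over (Spec (CommRingCat.of V)) := Red.bc q G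
  haveI : LocallyOfFiniteType G'.hom := MorphismProperty.pullback_snd (P := @LocallyOfFiniteType) _ _ ‹_›
  haveI : QuasiCompact G'.hom := MorphismProperty.pullback_snd (P := @QuasiCompact) _ _ ‹_›
  let e := ActBC.bcCompIso _ q G hg
  let i' := i ≫ e.inv
  haveI : IsIso e.inv.left := (Over.forget _).map_isIso e.inv
  haveI : IsClosedImmersion i'.left := by
    show IsClosedImmersion (i.left ≫ e.inv.left)
    infer_instance
  obtain ⟨D⟩ := nonempty_spec' hφ G' H i'
  let e' := ActBC.bcCompIso _ q G hp
  haveI := D.isMonHom_sub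
  haveI := D.isClosedImmersion_sub
  haveI : IsIso e'.hom.left := (Over.forget _).map_isIso e'.hom
  refine ⟨D.B, inferInstance, D.sub ≫ e'.hom, inferInstance, ?_, D.smooth, D.connected, D.dim_eq,
    D.solvable hφ, D.nilpotent hφ, D.comm hφ⟩
  rw [Over.comp_left]
  infer_instance

end SubSpecLib
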