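import Groth.Agent.SubSpecLib.DimVal
import Groth.Agent.SubSpecLib.PlaceSch
import Groth.Agent.S4098
import Groth.Agent.S5322
import Groth.Agent.S3023

/-! Specialization of normal subgroups containing the commutators. -/

set_option autoImplicit false
set_option linter.style.haveILetI false
set_option backward.isDefEq.respectTransparency false
set_option maxHeartbeats 1000000

universe u

open CategoryTheory CategoryTheory.Limits MonoidalCategory CartesianMonoidalCategory AlgebraicGeometry
open scoped MonObj
open Groth.Agent.HomogDense Groth.Agent.GrpField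

noncomputable section

attribute [-instance] CategoryTheory.Hom.commGroup

namespace SubSpecLib.Derived

/-- All commutators factor through the subgroup. -/
def HasComm {S : Scheme.{u}} {N G : Over S} [GrpObj G] (i : N ⟶ G) : Prop :=
  ∀ (T : Over S) (g h : T ⟶ G), ∃ m : T ⟶ N, g * h * g⁻¹ * h⁻¹ = m ≫ i

theorem hasComm_iso {S : Scheme.{u}} {N G G' : Over S} [GrpObj G] [GrpObj G'] (i : N ⟶ G) (e : G ≅ G')
    [IsMonHom e.hom] (hc : HasComm i) : HasComm (i ≫ e.hom) := by
  intro T g h
  obtain ⟨m, hm⟩ := hc T (g ≫ e.inv) (h ≫ e.inv)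
  refine ⟨m, ?_⟩
  have h2 := congrArg (ptsIso e T) hm
  rw [map_mul, map_mul, map_mul, map_inv, map_inv] at h2
  simpa [ptsIso] using h2

theorem hasComm_bc {S S' : Scheme.{u}} (p : S' ⟶ S) {N G : Over S} [GrpObj N] [GrpObj G] (i : N ⟶ G)
    (hc : HasComm i) : HasComm ((Over.pullback p).map i) := by
  intro T g h
  let eG := PowEtCentralLib.adjEquiv (G := G) p T
  let eN := PowEtCentralLib.adjEquiv (G := N) p T
  obtain ⟨m, hm⟩ := hc _ (eG.symm g) (eG.symm h)
  have hnat : eG (m ≫ i) = eN m ≫ (Over.pullback p).map i :=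
    Adjunction.homEquiv_naturality_right (Over.mapPullbackAdj p) m i
  refine ⟨eN m, ?_⟩
  rw [← hnat, ← hm, map_mul, map_mul, map_mul, map_inv, map_inv, eG.apply_symm_apply, eG.apply_symm_apply]

/-- Base change on points, as a homomorphism. -/
def mapHom {S S' : Scheme.{u}} (p : S' ⟶ S) (T G : Over S) [GrpObj G] :
    (T ⟶ G) →* (Red.bc p T ⟶ Red.bc p G) where
  toFun y := (Over.pullback p).map y
  map_one' := Functor.map_one _
  map_mul' _ _ := Functor.map_mul _ _ _

variable {V : Type u} [CommRing V] [IsDomain V] [ValuationRing V] {K : Type u} [Field K] [Algebra V K]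
  [IsFractionRing V K]

section lift

variable {G H : Over (Spec (CommRingCat.of V))} [GrpObj G] [GrpObj H] (j : H ⟶ G) [IsClosedImmersion j.left]
  {HK : Over (Spec (CommRingCat.of K))} [GrpObj HK] (i : HK ⟶ Red.bc (gp V K) G) [IsClosedImmersion i.left]
  (φH : HK.left ⟶ H.left) (hpb : IsPullback φH HK.hom H.hom (gp V K)) (hφj : φH ≫ j.left = u₀ G HK i)

include hpb hφj in
/-- A morphism from a flat scheme factoring generically factors. -/
theorem exists_lift (hker : φH.ker = ⊥) {P : Over (Spec (CommRingCat.of V))} [Flat P.hom] (w : P ⟶ G)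
    (m : Red.bc (gp V K) P ⟶ HK) (hm : m ≫ i = (Over.pullback (gp V K)).map w) : ∃ l : P ⟶ H, l ≫ j = w := by
  haveI : IsSchemeTheoreticallyDominant (gp V K) := dominant_gp V K
  haveI : IsSchemeTheoreticallyDominant (pullback.fst P.hom (gp V K)) :=
    IsSchemeTheoreticallyDominant.of_isPullback (IsPullback.of_hasPullback P.hom (gp V K)).flip
  haveI : IsSchemeTheoreticallyDominant φH := ⟨hker⟩
  haveI : QuasiCompact φH := MorphismProperty.of_isPullback hpb.flip (inferInstance : QuasiCompact (gp V K))
  have h1 : pullback.fst P.hom (gp V K) ≫ w.left = m.left ≫ u₀ G HK i := by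
    have h := congrArg (fun q => q.left ≫ pullback.fst G.hom (gp V K)) hm
    simp only [Over.comp_left, Category.assoc, ActBC.pullback_map_left_fst] at h
    exact h.symm
  have hle : j.left.ker ≤ w.left.ker := by
    have h2 : (m.left ≫ u₀ G HK i).ker = w.left.ker := by rw [← h1, AlgSpRegLib.ker_comp_dominant]
    have h3 : (u₀ G HK i).ker = j.left.ker := by rw [← hφj, AlgSpRegLib.ker_comp_dominant]
    rw [← h2, ← h3]
    exact Scheme.Hom.le_ker_comp _ _
  exact ⟨Over.homMk (IsClosedImmersion.lift j.left w.left hle)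
    (by rw [← Over.w j, ← Category.assoc, IsClosedImmersion.lift_fac, Over.w w]),
    Over.OverMorphism.ext (IsClosedImmersion.lift_fac _ _ _)⟩

include hpb hφj in
theorem exists_generic_iso : ∃ e : HK ≅ Red.bc (gp V K) H, e.hom ≫ (Over.pullback (gp V K)).map j = i := by
  refine ⟨Over.isoMk hpb.isoPullback hpb.isoPullback_hom_snd, ?_⟩
  refine Over.OverMorphism.ext (pullback.hom_ext ?_ ?_)
  · simp only [Over.comp_left, Category.assoc, ActBC.pullback_map_left_fst]
    show hpb.isoPullback.hom ≫ pullback.fst H.hom (gp V K) ≫ j.left = _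
    rw [hpb.isoPullback_hom_fst_assoc, hφj]
  · exact (Over.w (_ ≫ (Over.pullback (gp V K)).map j)).trans (Over.w i).symm

variable [Flat G.hom] [Flat H.hom]

include hpb hφj in
theorem isNormalHom_closure (hker : φH.ker = ⊥) (hn : AlgGrp.IsNormalHom i) : AlgGrp.IsNormalHom j := by
  obtain ⟨e, he⟩ := exists_generic_iso j i φH hpb hφj
  let c : G ⊗ H ⟶ G := fst G H * (snd G H ≫ j) * (fst G H)⁻¹
  obtain ⟨m, hm⟩ := hn _ ((Over.pullback (gp V K)).map (fst G H)) ((Over.pullback (gp V K)).map (snd G H) ≫ e.inv)
  obtain ⟨l, hl⟩ := exists_lift j i φH hpb hφj hker c m (by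
    rw [← hm]
    show _ = mapHom (gp V K) (G ⊗ H) G (fst G H * (snd G H ≫ j) * (fst G H)⁻¹)
    rw [map_mul, map_mul, map_inv]
    congr 2
    show _ = (Over.pullback (gp V K)).map (snd G H ≫ j)
    rw [Functor.map_comp, Category.assoc, ← he, Iso.inv_hom_id_assoc])
  intro T g n
  refine ⟨lift g n ≫ l, ?_⟩
  rw [Category.assoc, hl]
  simp only [c, MonObj.comp_mul, GrpObj.comp_inv, lift_fst, lift_snd_assoc]

include hpb hφj in
theorem hasComm_closure (hker : φH.ker = ⊥) (hc : HasComm i) : HasComm j := by
  let c : G ⊗ G ⟶ G := fst G G * snd G G * (fst G G)⁻¹ * (snd G G)⁻¹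
  obtain ⟨m, hm⟩ := hc _ ((Over.pullback (gp V K)).map (fst G G)) ((Over.pullback (gp V K)).map (snd G G))
  obtain ⟨l, hl⟩ := exists_lift j i φH hpb hφj hker c m (by
    rw [← hm]
    show _ = mapHom (gp V K) (G ⊗ G) G (fst G G * snd G G * (fst G G)⁻¹ * (snd G G)⁻¹)
    rw [map_mul, map_mul, map_mul, map_inv, map_inv]
    rfl)
  intro T g h
  refine ⟨lift g h ≫ l, ?_⟩
  rw [Category.assoc, hl]
  simp only [c, MonObj.comp_mul, GrpObj.comp_inv, lift_fst, lift_snd]

end lift

/-- Specialization over a valuation ring of a normal subgroup containing the commutators. -/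
theorem exists_derived_special {k : Type u} [Field k] {φ : V →+* k} (hφ : Function.Surjective φ)
    (G : Over (Spec (CommRingCat.of V))) [GrpObj G] [Flat G.hom] [LocallyOfFiniteType G.hom] [QuasiCompact G.hom]
    (HK : Over (Spec (CommRingCat.of K))) [GrpObj HK] (i : HK ⟶ Red.bc (gp V K) G) [IsMonHom i]
    [IsClosedImmersion i.left] (hn : AlgGrp.IsNormalHom i) (hc : HasComm i) :
    ∃ (B : Over (Spec (CommRingCat.of k))) (_ : GrpObj B) (r : B ⟶ Red.bc (Spec.map (CommRingCat.ofHom φ)) G),
      IsMonHom r ∧ IsClosedImmersion r.left ∧ AlgGrp.IsNormalHom r ∧ HasComm r ∧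
      topologicalKrullDim ↥B.left ≤ topologicalKrullDim ↥HK.left := by
  obtain ⟨H, hH, j, φH, hj, hjc, hfl, hpb, hfac, hker⟩ := exists_closure (K := K) (G := G) (HK := HK) i
  haveI := hj
  haveI := hjc
  haveI : LocallyOfFiniteType H.hom := by rw [← Over.w j]; infer_instance
  refine ⟨_, inferInstance, (Over.pullback (Spec.map (CommRingCat.ofHom φ))).map j, inferInstance,
    MorphismProperty.baseChange_map (P := @IsClosedImmersion) _ j hjc,
    isNormalHom_bc _ j (isNormalHom_closure j i φH hpb hfac hker hn),
    hasComm_bc _ j (hasComm_closure j i φH hpb hfac hker hc), ?_⟩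
  refine (Val.dim_special_le (K := K) φ hφ H.hom).trans (le_of_eq ?_)
  exact hpb.isoPullback.hom.homeomorph.symm.isHomeomorph.topologicalKrullDim_eq

theorem neutralSet_eq_connectedComponent {F : Type u} [Field F] (G : Over (Spec (CommRingCat.of F))) [GrpObj G] :
    SGA3x.neutralSet G = connectedComponent (unitPt G) := by
  haveI : Subsingleton ↥(𝟙_ (Over (Spec (CommRingCat.of F)))).left := inferInstanceAs (Subsingleton (PrimeSpectrum F))
  haveI : Subsingleton ↥(Spec (CommRingCat.of F)) := inferInstanceAs (Subsingleton (PrimeSpectrum F))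
  have huniv : ∀ t : ↥(Spec (CommRingCat.of F)), G.hom.base ⁻¹' {t} = Set.univ := fun t =>
    Set.eq_univ_of_forall fun x => Subsingleton.elim _ _
  refine (Set.Subset.antisymm ?_ ?_)
  · intro x hx
    obtain ⟨p, hp⟩ := Set.mem_iUnion.1 hx
    rw [huniv, connectedComponentIn_univ, Subsingleton.elim p (IsLocalRing.closedPoint F)] at hp
    exact hp
  · intro x hx
    refine Set.mem_iUnion.2 ⟨IsLocalRing.closedPoint F, ?_⟩
    rw [huniv, connectedComponentIn_univ]
    exact hx

/-- The base change of the neutral open subgroup is a connected open and closed subgroup. -/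
theorem neutral_bc {S : Scheme.{u}} {F : Type u} [Field F] (p : Spec (CommRingCat.of F) ⟶ S) (G : Over S) [GrpObj G]
    {G0 : Over S} [GrpObj G0] (i : G0 ⟶ G) [IsMonHom i] [IsOpenImmersion i.left]
    (hr : Set.range i.left.base = SGA3x.neutralSet G) [LocallyOfFiniteType (Red.bc p G).hom] :
    IsOpenImmersion ((Over.pullback p).map i).left ∧ IsClosedImmersion ((Over.pullback p).map i).left ∧
      ConnectedSpace ↥(Red.bc p G0).left ∧
      Set.range ((Over.pullback p).map i).left = connectedComponent (unitPt (Red.bc p G)) := by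
  haveI ho : IsOpenImmersion ((Over.pullback p).map i).left :=
    MorphismProperty.baseChange_map (P := @IsOpenImmersion) p i inferInstance
  have hrange : Set.range ((Over.pullback p).map i).left = connectedComponent (unitPt (Red.bc p G)) := by
    rw [← neutralSet_eq_connectedComponent, Groth.Agent.S5322.result, ← hr]
    have hfac : ((Over.pullback p).map i).left ≫ pullback.fst G.hom p = pullback.fst G0.hom p ≫ i.left :=
      ActBC.pullback_map_left_fst p i
    ext x
    constructor
    · rintro ⟨y, rfl⟩
      refine ⟨pullback.fst G0.hom p y, ?_⟩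
      exact (congrArg (fun m => m y) hfac).symm
    · rintro ⟨y, hy⟩
      have sq : IsPullback ((Over.pullback p).map i).left (pullback.fst G0.hom p) (pullback.fst G.hom p) i.left := by
        refine IsPullback.of_right (h₁₂ := pullback.snd G.hom p) (v₁₃ := p) (h₂₂ := G.hom) ?_ hfac
          (IsPullback.of_hasPullback G.hom p).flip
        rw [Over.w i, show ((Over.pullback p).map i).left ≫ pullback.snd G.hom p = pullback.snd G0.hom p from
          Over.w ((Over.pullback p).map i)]
        exact (IsPullback.of_hasPullback G0.hom p).flip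
      obtain ⟨z, hz, -⟩ := Scheme.Pullback.exists_preimage_pullback x y hy.symm
      refine ⟨sq.isoPullback.inv z, ?_⟩
      exact (congrArg (fun m => m z) sq.isoPullback_inv_fst).trans hz
  refine ⟨ho, IsClosedImmersion.of_isPreimmersion _ (hrange ▸ isClosed_connectedComponent), ?_, hrange⟩
  haveI : ConnectedSpace ↥(Set.range ((Over.pullback p).map i).left) :=
    isConnected_iff_connectedSpace.1 (hrange ▸ isConnected_connectedComponent)
  let h := ((Over.pullback p).map i).left.isOpenEmbedding.isEmbedding.toHomeomorph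
  exact h.symm.surjective.connectedSpace h.symm.continuous

/-- An open and closed connected subgroup is the base change of the neutral open subgroup. -/
theorem exists_neutral_iso {S : Scheme.{u}} {F : Type u} [Field F] (p : Spec (CommRingCat.of F) ⟶ S) (G : Over S)
    [GrpObj G] {G0 : Over S} [GrpObj G0] (i : G0 ⟶ G) [IsMonHom i] [IsOpenImmersion i.left]
    (hr : Set.range i.left.base = SGA3x.neutralSet G) [LocallyOfFiniteType (Red.bc p G).hom]
    (C : Over (Spec (CommRingCat.of F))) [GrpObj C] (c : C ⟶ Red.bc p G) [IsMonHom c] [IsOpenImmersion c.left]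
    [IsClosedImmersion c.left] [ConnectedSpace ↥C.left] :
    ∃ e : C ≅ Red.bc p G0, IsMonHom e.hom := by
  obtain ⟨ho, -, -, hrange⟩ := neutral_bc p G i hr
  haveI := ho
  let m := (Over.pullback p).map i
  have hc : Set.range c.left = connectedComponent (unitPt (Red.bc p G)) := by
    refine Set.Subset.antisymm ?_ ?_
    · exact (isConnected_range c.left.continuous).isPreconnected.subset_connectedComponent (unitPt_mem_range' c)
    · exact (IsClopen.connectedComponent_subset ⟨c.left.isClosedEmbedding.isClosed_range,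
        c.left.isOpenEmbedding.isOpen_range⟩ (unitPt_mem_range' c))
  let f := IsOpenImmersion.isoOfRangeEq c.left m.left (hc.trans hrange.symm)
  have hf : f.hom ≫ m.left = c.left := IsOpenImmersion.isoOfRangeEq_hom_fac _ _ _
  refine ⟨Over.isoMk f (by rw [← Over.w m, ← Category.assoc, hf, Over.w c]), ?_⟩
  haveI : IsMonHom m := inferInstanceAs (IsMonHom ((Over.pullback p).map i))
  haveI : Mono m := (Over.forget _).mono_of_mono_map (show Mono m.left from inferInstance)
  have he : (Over.isoMk f (by rw [← Over.w m, ← Category.assoc, hf, Over.w c]) : C ≅ Red.bc p G0).hom ≫ m = c :=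
    Over.OverMorphism.ext hf
  exact
    { one_hom := (cancel_mono m).1 (by rw [Category.assoc, he, IsMonHom.one_hom, IsMonHom.one_hom])
      mul_hom := (cancel_mono m).1 (by
        rw [Category.assoc, he, Category.assoc, IsMonHom.mul_hom, IsMonHom.mul_hom (f := m), ← Category.assoc,
          tensorHom_comp_tensorHom, he]) }
where
  unitPt_mem_range' {F : Type u} [Field F] {C N : Over (Spec (CommRingCat.of F))} [GrpObj C] [GrpObj N]
      (u : C ⟶ N) [IsMonHom u] : unitPt N ∈ Set.range u.left :=
    ⟨unitPt C, congr($(IsMonHom.one_hom u).left (IsLocalRing.closedPoint F))⟩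

end SubSpecLib.Derived
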