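import Groth.Agent.SubSpecLib.Regular
import Groth.Agent.DevissLib.ClosedImm

/-! Fibre dimensions of flat schemes over valuation rings. -/

set_option autoImplicit false
set_option linter.style.haveILetI false
set_option backward.isDefEq.respectTransparency false
set_option maxHeartbeats 1000000

universe u

open CategoryTheory CategoryTheory.Limits MonoidalCategory CartesianMonoidalCategory AlgebraicGeometry TopologicalSpace
open scoped MonObj
open Groth.Agent.HomogDense Groth.Agent.GrpField

noncomputable section

attribute [-instance] CategoryTheory.Hom.commGroup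

namespace SubSpecLib.Val

variable {R : Type u} [CommRing R] [IsDomain R] [ValuationRing R] {K : Type u} [Field K] [Algebra R K]
  [IsFractionRing R K] {k : Type u} [Field k] (φ : R →+* k)

include K in
/-- An integral scheme over a valuation ring meeting both extreme fibres surjects. -/
theorem surjective_of_integral {X : Scheme.{u}} [IsIntegral X] (fX : X ⟶ Spec (CommRingCat.of R))
    {a b : X} (ha : fX a = (⟨⊥, Ideal.isPrime_bot⟩ : PrimeSpectrum R)) (hb : fX b = IsLocalRing.closedPoint R) :
    Surjective fX := by
  haveI : IsPreimmersion (gp R K) := IsPreimmersion.of_isLocalization (nonZeroDivisors R)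
  let gam := genericPoint X
  have hgam : fX gam = (⟨⊥, Ideal.isPrime_bot⟩ : PrimeSpectrum R) := by
    have h := ((genericPoint_spec X).specializes (Set.mem_univ a)).map fX.continuous
    rw [ha] at h
    exact PrimeSpectrum.ext (le_bot_iff.1 ((PrimeSpectrum.le_iff_specializes _ _).2 h))
  obtain ⟨w, hw, -⟩ := Scheme.Pullback.exists_preimage_pullback gam (IsLocalRing.closedPoint K)
    (f := fX) (g := gp R K) (hgam.trans (gp_closedPoint R K).symm)
  let h := (pullback fX (gp R K)).fromSpecResidueField w ≫ pullback.fst fX (gp R K)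
  haveI : IsDominant h := ⟨by
    refine Dense.mono ?_ (dense_iff_closure_eq.2 (genericPoint_spec X).def)
    rintro _ rfl
    refine ⟨IsLocalRing.closedPoint _, ?_⟩
    show h _ = gam
    rw [Scheme.Hom.comp_apply, Scheme.fromSpecResidueField_apply, hw]⟩
  haveI : IsSchemeTheoreticallyDominant h := IsSchemeTheoreticallyDominant.of_isDominant h
  haveI : QuasiCompact h := inferInstance
  haveI : Flat fX := flat_of_dominant_gp R K h fX ((pullback fX (gp R K)).fromSpecResidueField w ≫ pullback.snd _ _)
    (by simp only [h, Category.assoc, pullback.condition])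
  refine ⟨fun s => ?_⟩
  have hs : s ⤳ fX b := hb.symm ▸ (PrimeSpectrum.le_iff_specializes s (IsLocalRing.closedPoint R)).1
    (IsLocalRing.le_maximalIdeal s.isPrime.ne_top)
  obtain ⟨x, -, hx⟩ := Flat.generalizingMap fX hs
  exact ⟨x, hx⟩

/-- In a flat family the special fibre is at most as big as the generic one. -/
theorem dim_special_le (hφ : Function.Surjective φ) {G : Scheme.{u}} (f : G ⟶ Spec (CommRingCat.of R)) [Flat f]
    [LocallyOfFiniteType f] :
    topologicalKrullDim ↥(pullback f (Spec.map (CommRingCat.ofHom φ))) ≤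
      topologicalKrullDim ↥(pullback f (Spec.map (CommRingCat.ofHom (algebraMap R K)))) := by
  let p := Spec.map (CommRingCat.ofHom φ)
  let g := Spec.map (CommRingCat.ofHom (algebraMap R K))
  haveI : IsClosedImmersion p := IsClosedImmersion.spec_of_surjective _ hφ
  haveI : IsPreimmersion g := IsPreimmersion.of_isLocalization (nonZeroDivisors R)
  refine PureAssoLib.topologicalKrullDim_le_of_components fun Z hZ => ?_
  have hzc := hZ.1.isGenericPoint_genericPoint_closure
  let z := hZ.1.genericPoint
  have hzZ : closure {z} = Z := by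
    rw [hzc.def, (isClosed_of_mem_irreducibleComponents Z hZ).closure_eq]
  let z' : G := pullback.fst f p z
  have hfz : f z' = IsLocalRing.closedPoint R :=
    (fibreHomeo f p _ (sp_closedPoint φ hφ) z).2
  obtain ⟨ξ, hξ, hξz⟩ := exists_isMax_specializes z'
  have hfξ : f ξ = (⟨⊥, Ideal.isPrime_bot⟩ : PrimeSpectrum R) := by
    obtain ⟨ζ, hζ, hζη⟩ := Flat.generalizingMap f
      ((PrimeSpectrum.le_iff_specializes (⟨⊥, Ideal.isPrime_bot⟩ : PrimeSpectrum R) (f ξ)).1 bot_le)
    rw [← hξ ζ hζ, hζη]
  obtain ⟨X, ιX, hιX, hXint, hrange⟩ :=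
    DevissLib.exists_integral_closed (isClosed_closure (s := {ξ})) (isIrreducible_singleton (x := ξ)).closure
  haveI := hιX
  haveI := hXint
  let fX := ιX ≫ f
  obtain ⟨xa, hxa⟩ : ξ ∈ Set.range ιX := hrange ▸ subset_closure rfl
  obtain ⟨xb, hxb⟩ : z' ∈ Set.range ιX := hrange ▸ (hξz).mem_closure
  haveI : Surjective fX := surjective_of_integral (K := K) fX
    (a := xa) (b := xb) (by rw [Scheme.Hom.comp_apply, hxa, hfξ]) (by rw [Scheme.Hom.comp_apply, hxb, hfz])
  let a : pullback fX p ⟶ pullback f p := pullback.map _ _ _ _ ιX (𝟙 _) (𝟙 _) (Category.comp_id _) rfl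
  let b : pullback fX g ⟶ pullback f g := pullback.map _ _ _ _ ιX (𝟙 _) (𝟙 _) (Category.comp_id _) rfl
  have hemb : ∀ {F : Type u} [Field F] (q : Spec (CommRingCat.of F) ⟶ Spec (CommRingCat.of R)) [IsPreimmersion q],
      Topology.IsEmbedding (pullback.map fX q f q ιX (𝟙 _) (𝟙 _) (Category.comp_id _) rfl).base := by
    intro F _ q _
    refine Topology.IsEmbedding.of_comp (pullback.map fX q f q ιX (𝟙 _) (𝟙 _) (Category.comp_id _) rfl).continuous
      (pullback.fst f q).continuous ?_
    have h : (pullback.fst f q).base ∘ (pullback.map fX q f q ιX (𝟙 _) (𝟙 _) (Category.comp_id _) rfl).base =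
        ιX.base ∘ (pullback.fst fX q).base := funext fun z => by
      simp only [Function.comp_apply, ← Scheme.Hom.comp_apply]
      rw [pullback.lift_fst]
    exact h ▸ ιX.isEmbedding.comp (pullback.fst fX q).isEmbedding
  have hra : Set.range a = pullback.fst f p ⁻¹' closure {ξ} := by
    rw [Scheme.Pullback.range_map, hrange]
    simp
  obtain ⟨z₀, hz₀⟩ : z ∈ Set.range a := hra.ge hξz.mem_closure
  obtain ⟨Z', hZ', hzZ'⟩ := exists_mem_irreducibleComponents_subset_of_isIrreducible (closure {z₀})
    isIrreducible_singleton.closure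
  have haemb := hemb p
  have himg : a '' Z' = Z := by
    have hirr : IsIrreducible (a '' Z') := hZ'.1.image a a.continuous.continuousOn
    have hcl : IsClosed (a '' Z') := by
      have : Topology.IsClosedEmbedding a :=
        ⟨haemb, hra ▸ isClosed_closure.preimage (pullback.fst f p).continuous⟩
      exact this.isClosedMap _ (isClosed_of_mem_irreducibleComponents Z' hZ')
    have hsub : Z ⊆ a '' Z' := hzZ ▸
      closure_minimal (Set.singleton_subset_iff.2 ⟨z₀, hzZ' (subset_closure rfl), hz₀⟩) hcl
    exact (hZ.2 hirr hsub).antisymm hsub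
  let e : ↥Z' ≃ₜ ↥Z := (haemb.homeomorphImage Z').trans (Homeomorph.setCongr himg)
  rw [← e.isHomeomorph.topologicalKrullDim_eq, dim_special_component (K := K) φ hφ fX Z' hZ']
  exact (hemb g).isInducing.topologicalKrullDim_le

theorem dim_special_eq (hφ : Function.Surjective φ) (H : Over (Spec (CommRingCat.of R))) [GrpObj H] [Flat H.hom]
    [LocallyOfFiniteType H.hom] :
    topologicalKrullDim ↥(Red.bc (Spec.map (CommRingCat.ofHom φ)) H).left =
      topologicalKrullDim ↥(Red.bc (Spec.map (CommRingCat.ofHom (algebraMap R K))) H).left := by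
  let p := Spec.map (CommRingCat.ofHom φ)
  let g := Spec.map (CommRingCat.ofHom (algebraMap R K))
  let f := H.hom
  refine le_antisymm (dim_special_le (K := K) φ hφ f) ?_
  haveI : IsClosedImmersion p := IsClosedImmersion.spec_of_surjective _ hφ
  haveI : IsPreimmersion g := IsPreimmersion.of_isLocalization (nonZeroDivisors R)
  let η0 : Spec (CommRingCat.of R) := (⟨⊥, Ideal.isPrime_bot⟩ : PrimeSpectrum R)
  let eK : H.left := η[H].left η0
  let ek : H.left := η[H].left (IsLocalRing.closedPoint R)
  have hfK : f eK = η0 := hom_unit_apply H η0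
  have hfk : f ek = IsLocalRing.closedPoint R := hom_unit_apply H _
  have hsp : eK ⤳ ek :=
    ((PrimeSpectrum.le_iff_specializes η0 (IsLocalRing.closedPoint R)).1 bot_le).map η[H].left.continuous
  obtain ⟨ξ, hξ, hξK⟩ := exists_isMax_specializes eK
  have hfξ : f ξ = η0 := by
    have h := hξK.map f.continuous
    rw [hfK] at h
    exact PrimeSpectrum.ext (le_bot_iff.1 ((PrimeSpectrum.le_iff_specializes _ _).2 h))
  obtain ⟨X, ιX, hιX, hXint, hrange⟩ :=
    DevissLib.exists_integral_closed (isClosed_closure (s := {ξ})) (isIrreducible_singleton (x := ξ)).closure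
  haveI := hιX
  haveI := hXint
  let fX := ιX ≫ f
  obtain ⟨xa, hxa⟩ : ξ ∈ Set.range ιX := hrange ▸ subset_closure rfl
  obtain ⟨xb, hxb⟩ : ek ∈ Set.range ιX := hrange ▸ ((hξK.trans hsp)).mem_closure
  haveI : Surjective fX := surjective_of_integral (K := K) fX
    (a := xa) (b := xb) (by rw [Scheme.Hom.comp_apply, hxa, hfξ]) (by rw [Scheme.Hom.comp_apply, hxb, hfk])
  have hemb : ∀ {F : Type u} [Field F] (q : Spec (CommRingCat.of F) ⟶ Spec (CommRingCat.of R)) [IsPreimmersion q],
      Topology.IsEmbedding (pullback.map fX q f q ιX (𝟙 _) (𝟙 _) (Category.comp_id _) rfl).base := by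
    intro F _ q _
    refine Topology.IsEmbedding.of_comp (pullback.map fX q f q ιX (𝟙 _) (𝟙 _) (Category.comp_id _) rfl).continuous
      (pullback.fst f q).continuous ?_
    have h : (pullback.fst f q).base ∘ (pullback.map fX q f q ιX (𝟙 _) (𝟙 _) (Category.comp_id _) rfl).base =
        ιX.base ∘ (pullback.fst fX q).base := funext fun z => by
      simp only [Function.comp_apply, ← Scheme.Hom.comp_apply]
      rw [pullback.lift_fst]
    exact h ▸ ιX.isEmbedding.comp (pullback.fst fX q).isEmbedding
  -- the special fibre of `X`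
  obtain ⟨x₀, hx₀⟩ : ek ∈ Set.range ιX := hrange ▸ (hξK.trans hsp).mem_closure
  have hmem : IsLocalRing.closedPoint R = p (IsLocalRing.closedPoint k) := (sp_closedPoint φ hφ).symm
  obtain ⟨x', -, -⟩ := Scheme.Pullback.exists_preimage_pullback x₀ (IsLocalRing.closedPoint k)
    (f := fX) (g := p) (by rw [Scheme.Hom.comp_apply, hx₀, hfk, hmem])
  obtain ⟨Z', hZ', -⟩ := exists_mem_irreducibleComponents_subset_of_isIrreducible (closure {x'})
    isIrreducible_singleton.closure
  have h1 : topologicalKrullDim ↥(pullback fX g) ≤ topologicalKrullDim ↥(pullback f p) := by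
    rw [← dim_special_component (K := K) φ hφ fX Z' hZ']
    exact ((hemb p).comp Topology.IsEmbedding.subtypeVal).isInducing.topologicalKrullDim_le
  refine le_trans ?_ h1
  -- the component of the generic fibre
  haveI : LocallyOfFiniteType (Red.bc g H).hom := MorphismProperty.pullback_snd (P := @LocallyOfFiniteType) _ _ ‹_›
  obtain ⟨w, hw, -⟩ := Scheme.Pullback.exists_preimage_pullback ξ (IsLocalRing.closedPoint K)
    (f := f) (g := g) (by rw [hfξ]; exact (gp_closedPoint R K).symm)
  have hmax : ∀ z, z ⤳ w → z = w := fun z hz => (pullback.fst f g).isEmbedding.injective (by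
    rw [hw]
    exact hξ _ (hw ▸ hz.map (pullback.fst f g).continuous))
  have hZ : closure {w} ∈ irreducibleComponents ↥(Red.bc g H).left :=
    FibDimLib.closure_mem_irreducibleComponents_of_max hmax
  rw [← (Groth.Agent.S5341.result K (Red.bc g H)).1 _ hZ]
  have hsub : closure {w} ⊆ Set.range (pullback.map fX g f g ιX (𝟙 _) (𝟙 _) (Category.comp_id _) rfl).base := by
    have hr : Set.range (pullback.map fX g f g ιX (𝟙 _) (𝟙 _) (Category.comp_id _) rfl).base =
        pullback.fst f g ⁻¹' closure {ξ} := by
      rw [Scheme.Pullback.range_map, hrange]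
      simp
    rw [hr]
    exact closure_minimal (Set.singleton_subset_iff.2 (by
      show pullback.fst f g w ∈ closure {ξ}
      rw [hw]; exact subset_closure rfl)) (isClosed_closure.preimage (pullback.fst f g).continuous)
  refine le_trans (Topology.IsEmbedding.inclusion hsub).isInducing.topologicalKrullDim_le ?_
  exact ((hemb g).toHomeomorph.isHomeomorph.topologicalKrullDim_eq).ge

end SubSpecLib.Val
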