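import Groth.Agent.SubSpecLib.UnipSub
import Groth.Agent.SubSpecLib.DimVal
import Groth.Agent.GrpFieldLib.Identity
import Groth.Agent.AVAmpleLib.ReducedSub
import Groth.Agent.BorelLib.RedUnip
import Groth.Agent.AlbLib.AVClass
import Groth.Agent.S5341

/-! The reduced identity component over a perfect field, and specialization of unipotent subgroups along a
discrete valuation ring with perfect residue field. -/

set_option autoImplicit false
set_option linter.style.haveILetI false
set_option linter.unusedSectionVars false
set_option backward.isDefEq.respectTransparency false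
set_option maxHeartbeats 1000000

universe u

open CategoryTheory CategoryTheory.Limits MonoidalCategory CartesianMonoidalCategory AlgebraicGeometry TopologicalSpace
open scoped MonObj
open Groth.Agent.HomogDense Groth.Agent.GrpField

noncomputable section

attribute [-instance] CategoryTheory.Hom.commGroup

namespace SubSpecLib.RedSub

variable {k : Type u} [Field k] [PerfectField k]

/-- The reduction of a group over a perfect field is a smooth subgroup. -/
theorem exists_smooth_reduction (G : Over (Spec (CommRingCat.of k))) [GrpObj G] [LocallyOfFiniteType G.hom] :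
    ∃ (B : Over (Spec (CommRingCat.of k))) (_ : GrpObj B) (j : B ⟶ G), IsMonHom j ∧ IsClosedImmersion j.left ∧
      Smooth B.hom ∧ Function.Surjective j.left := by
  let I := Scheme.IdealSheafData.vanishingIdeal (⊤ : Closeds G.left)
  haveI : IsReduced I.subscheme := DevissLib.isReduced_vanishingIdeal' _
  let B : Over (Spec (CommRingCat.of k)) := Over.mk (I.subschemeι ≫ G.hom)
  let j : B ⟶ G := Over.homMk I.subschemeι rfl
  haveI : IsClosedImmersion j.left := inferInstanceAs (IsClosedImmersion I.subschemeι)
  haveI : IsReduced B.left := inferInstanceAs (IsReduced I.subscheme)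
  haveI : LocallyOfFiniteType B.hom := inferInstanceAs (LocallyOfFiniteType (I.subschemeι ≫ G.hom))
  have hr : Set.range j.left = Set.univ := by
    show Set.range I.subschemeι = Set.univ
    rw [Scheme.IdealSheafData.range_subschemeι, Scheme.IdealSheafData.coe_support_vanishingIdeal]
    rfl
  haveI : GeometricallyReduced B.hom := AVAmpleLib.gr_of_isReduced B.hom
  haveI : IsLocallyNoetherian B.left := LocallyOfFiniteType.isLocallyNoetherian B.hom
  haveI : IsReduced (B ⊗ B).left := inferInstanceAs (IsReduced (pullback B.hom B.hom))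
  haveI : Mono j := Over.mono_of_mono_left j
  have hfac : ∀ (Z : Over (Spec (CommRingCat.of k))) (h : Z ⟶ G), IsReduced Z.left → ∃ l : Z ⟶ B, l ≫ j = h := by
    intro Z h _
    obtain ⟨l, hl⟩ := AVAmpleLib.exists_lift_of_reduced j.left h.left (hr ▸ Set.subset_univ _)
    refine ⟨Over.homMk l ?_, Over.OverMorphism.ext hl⟩
    rw [← Over.w h, ← hl, Category.assoc, Over.w j]
  obtain ⟨_, hj⟩ := Groth.Agent.SubDesc.exists_grpObj_of_mono j (hfac _ _ inferInstance)
    (hfac _ _ (inferInstanceAs (IsReduced (Spec (CommRingCat.of k))))) (hfac _ _ inferInstance)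
  exact ⟨B, inferInstance, j, hj, inferInstance, AlbLib.smooth_grp B, Set.range_eq_univ.1 hr⟩

/-- The reduced identity component: a smooth connected subgroup of full dimension. -/
theorem exists_smooth_connected_sub (H : Over (Spec (CommRingCat.of k))) [GrpObj H] [LocallyOfFiniteType H.hom] :
    ∃ (B : Over (Spec (CommRingCat.of k))) (_ : GrpObj B) (r : B ⟶ H), IsMonHom r ∧ IsClosedImmersion r.left ∧
      Smooth B.hom ∧ ConnectedSpace ↥B.left ∧ topologicalKrullDim ↥B.left = topologicalKrullDim ↥H.left := by
  obtain ⟨G₀, hG₀, i, hi, hic, -, hrange, hgi, hcomp⟩ := exists_identity_component (G := H)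
  haveI := hi; haveI := hic; haveI := hgi
  haveI : LocallyOfFiniteType G₀.hom := by rw [← Over.w i]; infer_instance
  obtain ⟨B, hB, j, hj, hjc, hBs, hsurj⟩ := exists_smooth_reduction G₀
  haveI := hj; haveI := hjc
  haveI : Subsingleton ↥(Spec (CommRingCat.of k)) := inferInstanceAs (Subsingleton (PrimeSpectrum k))
  haveI : IrreducibleSpace ↥G₀.left := GeometricallyIrreducible.irreducibleSpace_of_subsingleton G₀.hom
  let e : ↥B.left ≃ₜ ↥G₀.left :=
    (isHomeomorph_iff_isEmbedding_surjective.2 ⟨j.left.isClosedEmbedding.isEmbedding, hsurj⟩).homeomorph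
  haveI : IrreducibleSpace ↥B.left := e.irreducibleSpace_iff.2 inferInstance
  refine ⟨B, hB, j ≫ i, isMonHom_trans _ _ hj hi, by rw [Over.comp_left]; infer_instance, hBs, inferInstance, ?_⟩
  rw [e.isHomeomorph.topologicalKrullDim_eq, i.left.isClosedEmbedding.isEmbedding.toHomeomorph.isHomeomorph.topologicalKrullDim_eq,
    hrange]
  exact (Groth.Agent.S5341.result k H).1 _ (Z0_mem_components H)

end SubSpecLib.RedSub

namespace SubSpecLib.Unip

/-- The generic fibre of a schematic closure is killed by differences as soon as the group it closes up is. -/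
theorem isUnipGrp_closure {S S' : Scheme.{u}} (g : S' ⟶ S) {G H : Over S} [GrpObj G] [GrpObj H] (j : H ⟶ G)
    [IsMonHom j] [IsClosedImmersion j.left] {U : Over S'} [GrpObj U] (i : U ⟶ Red.bc g G) [IsMonHom i]
    (φ : U.left ⟶ H.left) (hpb : IsPullback φ U.hom H.hom g)
    (hfac : φ ≫ j.left = i.left ≫ pullback.fst G.hom g) (hU : IsUnipGrp U) : IsUnipGrp (Red.bc g H) := by
  let e : U ≅ Red.bc g H := Over.isoMk hpb.isoPullback hpb.isoPullback_hom_snd
  let m := (Over.pullback g).map j
  haveI : IsMonHom m := inferInstanceAs (IsMonHom ((Over.pullback g).map j))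
  haveI : Mono m := by
    haveI := isClosedImmersion_map g j
    exact (Over.forget _).mono_of_mono_map (show Mono m.left from inferInstance)
  have he : e.hom ≫ m = i := by
    refine Over.OverMorphism.ext (pullback.hom_ext ?_ ?_)
    · simp only [Over.comp_left, Category.assoc, m, ActBC.pullback_map_left_fst]
      rw [← hfac]
      show hpb.isoPullback.hom ≫ pullback.fst H.hom g ≫ j.left = _
      rw [hpb.isoPullback_hom_fst_assoc]
    · exact (Over.w (e.hom ≫ m)).trans (Over.w i).symm
  haveI : IsMonHom e.hom :=
    { one_hom := (cancel_mono m).1 (by rw [Category.assoc, he, IsMonHom.one_hom, IsMonHom.one_hom])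
      mul_hom := (cancel_mono m).1 (by
        rw [Category.assoc, he, Category.assoc, IsMonHom.mul_hom, IsMonHom.mul_hom (f := m), ← Category.assoc,
          tensorHom_comp_tensorHom, he]) }
  exact isUnipGrp_of_iso e hU

/-- A geometrically unipotent group is killed by differences over the ground field. -/
theorem isUnipGrp_of_geom {F : Type u} [Field F] (U : Over (Spec (CommRingCat.of F))) [GrpObj U] [IsAffine U.left]
    [Smooth U.hom] [ConnectedSpace ↥U.left]
    (h : Red.HasNoSubtorus (AlgebraicClosure F) (Red.bc (Spec.map (CommRingCat.ofHom (algebraMap F (AlgebraicClosure F)))) U)) :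
    IsUnipGrp U := by
  let q := Spec.map (CommRingCat.ofHom (algebraMap F (AlgebraicClosure F)))
  haveI : Smooth (Red.bc q U).hom := MorphismProperty.pullback_snd (P := @Smooth) _ _ ‹_›
  haveI : IsAffine (Red.bc q U).left := inferInstanceAs (IsAffine (pullback U.hom q))
  haveI : GeometricallyIrreducible U.hom := by
    have h := geometricallyIrreducible_of_range (G := U) (𝟙 U.left)
      (by rw [Z0_eq_univ]; exact Set.range_id')
    rwa [Category.id_comp] at h
  haveI : GeometricallyIrreducible (Red.bc q U).hom :=
    inferInstanceAs (GeometricallyIrreducible (pullback.snd U.hom q))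
  haveI : Subsingleton ↥(Spec (CommRingCat.of (AlgebraicClosure F))) :=
    inferInstanceAs (Subsingleton (PrimeSpectrum (AlgebraicClosure F)))
  haveI : IrreducibleSpace ↥(Red.bc q U).left :=
    GeometricallyIrreducible.irreducibleSpace_of_subsingleton (Red.bc q U).hom
  haveI : IsDominant q := ⟨Function.Surjective.denseRange fun x => ⟨IsLocalRing.closedPoint _, Subsingleton.elim (α := PrimeSpectrum F) _ _⟩⟩
  haveI : IsSchemeTheoreticallyDominant q := IsSchemeTheoreticallyDominant.of_isDominant q
  haveI : Flat U.hom := inferInstance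
  exact isUnipGrp_of_bc_dominant q U (isUnipGrp_of_hasNoSubtorus (Red.bc q U) h)

theorem exists_sub_section {S S' : Scheme.{u}} (p : S ⟶ S') (q : S' ⟶ S) (hp : p ≫ q = 𝟙 S) (G : Over S) [GrpObj G]
    {H : Over S'} [GrpObj H] (j : H ⟶ Red.bc q G) (hj : IsMonHom j) (hjc : IsClosedImmersion j.left)
    {B : Over S} [GrpObj B] (r : B ⟶ Red.bc p H) (hr : IsMonHom r) (hrc : IsClosedImmersion r.left) :
    ∃ r' : B ⟶ G, IsMonHom r' ∧ IsClosedImmersion r'.left := by
  haveI := hjc; haveI := hrc; haveI := hj
  let e' := ActBC.bcCompIso p q G hp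
  have he' : IsMonHom e'.hom := ActBC.bcCompIso_isMonHom (h := hp)
  have hj' : IsClosedImmersion ((Over.pullback p).map j).left := isClosedImmersion_map p j
  haveI : IsIso e'.hom.left := (Over.forget _).map_isIso e'.hom
  haveI : IsIso (bcId G).hom.left := (Over.forget _).map_isIso (bcId G).hom
  refine ⟨r ≫ (Over.pullback p).map j ≫ e'.hom ≫ (bcId G).hom,
    isMonHom_trans _ _ hr (isMonHom_trans _ _ (isMonHom_bcMap p j) (isMonHom_trans _ _ he' (isMonHom_bcId G))), ?_⟩
  haveI := hj'
  simp only [Over.comp_left]
  infer_instance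

/-- Unipotent subgroups specialise along a split discrete valuation ring with perfect residue field. -/
theorem exists_noSubtorus_sub_of_dvr {k : Type u} [Field k] [PerfectField k] {D : Type u} [CommRing D] [IsDomain D]
    [IsDiscreteValuationRing D] {F : Type u} [Field F] [Algebra D F] [IsFractionRing D F]
    (φ : D →+* k) (hφ : Function.Surjective φ) (σ : k →+* D) (hφσ : φ.comp σ = RingHom.id k)
    {d : Spec (CommRingCat.of F) ⟶ Spec (CommRingCat.of k)}
    (hd : Spec.map (CommRingCat.ofHom (algebraMap D F)) ≫ Spec.map (CommRingCat.ofHom σ) = d)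
    (G : Over (Spec (CommRingCat.of k))) [GrpObj G] [LocallyOfFiniteType G.hom] [QuasiCompact G.hom]
    (U : Over (Spec (CommRingCat.of F))) [GrpObj U] (i : U ⟶ Red.bc d G) [IsMonHom i] [IsClosedImmersion i.left]
    [IsAffine U.left] (hU : IsUnipGrp U) :
    ∃ (B : Over (Spec (CommRingCat.of k))) (_ : GrpObj B) (r : B ⟶ G), IsMonHom r ∧ IsClosedImmersion r.left ∧
      Smooth B.hom ∧ IsAffine B.left ∧ ConnectedSpace ↥B.left ∧ Red.HasNoSubtorus k B ∧
      topologicalKrullDim ↥B.left = topologicalKrullDim ↥U.left := by
  let q := Spec.map (CommRingCat.ofHom σ)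
  let p := Spec.map (CommRingCat.ofHom φ)
  let g := Spec.map (CommRingCat.ofHom (algebraMap D F))
  have hp : p ≫ q = 𝟙 _ := by
    rw [← Spec.map_comp, ← CommRingCat.ofHom_comp, hφσ]
    exact Spec.map_id _
  haveI : IsSeparated G.hom := Groth.Agent.GrpField.isSeparated_grp (G := G)
  let G' := Red.bc q G
  haveI : LocallyOfFiniteType G'.hom := MorphismProperty.pullback_snd (P := @LocallyOfFiniteType) _ _ ‹_›
  haveI : QuasiCompact G'.hom := MorphismProperty.pullback_snd (P := @QuasiCompact) _ _ ‹_›
  haveI : QuasiSeparated G'.hom := MorphismProperty.pullback_snd (P := @QuasiSeparated) _ _ inferInstance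
  let e := ActBC.bcCompIso g q G hd
  let i' := i ≫ e.inv
  haveI : IsIso e.inv.left := (Over.forget _).map_isIso e.inv
  haveI : IsClosedImmersion i'.left := by
    show IsClosedImmersion (i.left ≫ e.inv.left)
    infer_instance
  haveI : IsMonHom e.hom := ActBC.bcCompIso_isMonHom (h := hd)
  haveI : IsMonHom i' := isMonHom_trans _ _ ‹_› inferInstance
  obtain ⟨H, hH, j, φ', hj, hjc, hfl, hpb, hfac, -⟩ := exists_closure (K := F) (G := G') (HK := U) i'
  haveI := hj; haveI := hjc; haveI := hfl
  haveI : LocallyOfFiniteType H.hom := by rw [← Over.w j]; infer_instance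
  haveI : QuasiCompact H.hom := by rw [← Over.w j]; infer_instance
  haveI : QuasiSeparated H.hom := by rw [← Over.w j]; infer_instance
  haveI : IsAffine (Red.bc g H).left := IsAffine.of_isIso hpb.isoPullback.inv
  have hUH : IsUnipGrp (Red.bc g H) := isUnipGrp_closure g j i' φ' hpb hfac hU
  let Hk := Red.bc p H
  haveI : LocallyOfFiniteType Hk.hom := MorphismProperty.pullback_snd (P := @LocallyOfFiniteType) _ _ ‹_›
  haveI : IsAffine Hk.left := isAffine_special φ (K := F) H hφ
  have hfin : FinTor Hk := finTor_special (F := F) H hUH φ hφ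
  obtain ⟨B, hB, r, hr, hrc, hBs, hBc, hdim⟩ := RedSub.exists_smooth_connected_sub Hk
  haveI := hr; haveI := hrc; haveI := hBs
  haveI : IsAffine B.left := isAffine_of_isAffineHom r.left
  obtain ⟨r', h1, h2⟩ := exists_sub_section p q hp G j hj hjc r hr hrc
  refine ⟨B, hB, _, h1, h2, hBs, inferInstance, hBc, ?_, ?_⟩
  · let s : (Spec (CommRingCat.of k) : Scheme.{u}) := IsLocalRing.closedPoint k
    let Ω := AlgebraicClosure ((Spec (CommRingCat.of k)).residueField s)
    refine Groth.Agent.BorelLib.hasNoSubtorus_of_geom s ?_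
    haveI : IsAffine (Red.geomFibre s B).left := inferInstanceAs (IsAffine (pullback B.hom (Red.geomPt s)))
    haveI : Smooth (Red.geomFibre s B).hom := MorphismProperty.pullback_snd (P := @Smooth) _ _ hBs
    let w := (Over.pullback (Red.geomPt s)).map r
    haveI : IsMonHom w := isMonHom_bcMap _ r
    haveI : Mono w := by
      haveI := isClosedImmersion_map (Red.geomPt s) r
      exact (Over.forget _).mono_of_mono_map (show Mono w.left from inferInstance)
    exact hasNoSubtorus_of_finite _ (torSet_finite_of_injective w (hfin Ω (Red.geomPt s)))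
  · rw [hdim, dim_special_eq (K := F) φ hφ H]
    exact hpb.isoPullback.hom.homeomorph.isHomeomorph.topologicalKrullDim_eq.symm

end SubSpecLib.Unip
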