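import Groth.Agent.HighDPLib.Length
import Groth.Agent.S3405
import Mathlib

/-! Counting jets along a section: the dimension of the special fibre of an algebra bounds the generic one. -/

set_option autoImplicit false
set_option linter.style.haveILetI false
set_option maxHeartbeats 1000000

universe u

open TensorProduct Polynomial

noncomputable section

namespace SubSpecLib.Count

theorem sub_mem_ker {R C : Type u} [CommRing R] [CommRing C] [Algebra R C] (ε : C →ₐ[R] R) (x : C) :
    x - algebraMap R C (ε x) ∈ RingHom.ker ε := by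
  simp [RingHom.mem_ker]

/-- The jets along a point of an algebra of finite type form finite modules. -/
theorem finite_quot_pow {R C : Type u} [CommRing R] [CommRing C] [Algebra R C] [Algebra.FiniteType R C]
    (ε : C →ₐ[R] R) (n : ℕ) : Module.Finite R (C ⧸ RingHom.ker ε ^ n) := by
  classical
  obtain ⟨m, g, hg⟩ := Algebra.FiniteType.iff_quotient_mvPolynomial''.1 ‹Algebra.FiniteType R C›
  let I := RingHom.ker ε
  let y : Fin m → C := fun i => g (MvPolynomial.X i) - algebraMap R C (ε (g (MvPolynomial.X i)))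
  let s : Finset (Fin m →₀ ℕ) := Finset.univ.biUnion fun f : Fin m → Fin n => {Finsupp.equivFunOnFinite.symm fun i => (f i : ℕ)}
  let T : Submodule R (C ⧸ I ^ n) :=
    Submodule.span R (s.image fun a => Ideal.Quotient.mk (I ^ n) (∏ i, y i ^ a i) : Set (C ⧸ I ^ n))
  have hy : ∀ i, y i ∈ I := fun i => sub_mem_ker ε _
  have hmon : ∀ a : Fin m →₀ ℕ, Ideal.Quotient.mk (I ^ n) (∏ i, y i ^ a i) ∈ T := by
    intro a
    by_cases h : ∀ i, a i < n
    · refine Submodule.subset_span ?_
      simp only [Finset.coe_image, Set.mem_image, Finset.mem_coe]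
      refine ⟨a, ?_, rfl⟩
      simp only [s, Finset.mem_biUnion, Finset.mem_univ, true_and, Finset.mem_singleton]
      exact ⟨fun i => ⟨a i, h i⟩, by ext i; simp⟩
    · obtain ⟨i, hi⟩ := not_forall.1 h
      have hz : (∏ j, y j ^ a j) ∈ I ^ n := by
        rw [← Finset.mul_prod_erase _ _ (Finset.mem_univ i)]
        exact Ideal.mul_mem_right _ _ (Ideal.pow_le_pow_right (not_lt.1 hi) (Ideal.pow_mem_pow (hy i) _))
      rw [Ideal.Quotient.eq_zero_iff_mem.2 hz]
      exact T.zero_mem
  refine ⟨⟨s.image fun a => Ideal.Quotient.mk (I ^ n) (∏ i, y i ^ a i), ?_⟩⟩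
  rw [eq_top_iff]
  rintro c -
  obtain ⟨c, rfl⟩ := Ideal.Quotient.mk_surjective c
  let h : MvPolynomial (Fin m) R →ₐ[R] C := MvPolynomial.aeval y
  have hh : Function.Surjective h := by
    intro c
    obtain ⟨p, rfl⟩ := hg c
    refine ⟨MvPolynomial.aeval (fun i => MvPolynomial.X i + MvPolynomial.C (ε (g (MvPolynomial.X i)))) p, ?_⟩
    rw [← AlgHom.comp_apply]
    congr 1
    refine MvPolynomial.algHom_ext fun i => ?_
    simp [h, y]
  obtain ⟨p, rfl⟩ := hh c
  induction p using MvPolynomial.induction_on' with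
  | add p q hp hq => rw [map_add, map_add]; exact T.add_mem hp hq
  | monomial a r =>
    rw [MvPolynomial.aeval_monomial, ← Algebra.smul_def, ← Ideal.Quotient.mkₐ_eq_mk R, map_smul]
    refine T.smul_mem r ?_
    rw [Finsupp.prod_fintype _ _ (fun i => pow_zero _)]
    exact hmon a

/-- The Hilbert–Samuel function of a rational point. -/
theorem exists_poly {F C : Type u} [Field F] [CommRing C] [Algebra F C] [Algebra.FiniteType F C] (ε : C →ₐ[F] F)
    [(RingHom.ker ε).IsPrime] :
    ∃ P : ℚ[X], (∃ N : ℕ, ∀ n : ℕ, N ≤ n → (Module.finrank F (C ⧸ RingHom.ker ε ^ n) : ℚ) = P.eval (n : ℚ)) ∧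
      (P.natDegree : WithBot ℕ∞) = ringKrullDim (Localization.AtPrime (RingHom.ker ε)) := by
  let M := RingHom.ker ε
  haveI hM : M.IsMaximal := RingHom.ker_isMaximal_of_surjective ε fun r => ⟨algebraMap F C r, by simp⟩
  let L := Localization.AtPrime M
  haveI : IsNoetherianRing C := Algebra.FiniteType.isNoetherianRing F C
  haveI : IsNoetherianRing L := IsLocalization.isNoetherianRing M.primeCompl L inferInstance
  haveI : Finite (MaximalSpectrum L) := inferInstance
  obtain ⟨P, ⟨N, hN⟩, hdeg⟩ := Groth.Agent.S3405.result L L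
  refine ⟨P, ⟨N, fun n hn => ?_⟩, hdeg.trans (Module.supportDim_self_eq_ringKrullDim L)⟩
  obtain ⟨ℓ, hℓ, hev⟩ := hN n hn
  rw [IsLocalRing.ringJacobson_eq_maximalIdeal, Ideal.smul_eq_mul, Ideal.mul_top] at hℓ
  haveI := finite_quot_pow ε n
  let e := IsLocalization.AtPrime.equivQuotMaximalIdealPow M L n
  haveI : FiniteDimensional F (L ⧸ IsLocalRing.maximalIdeal L ^ n) :=
    Module.Finite.equiv (e.restrictScalars F).toLinearEquiv
  have hres : ∀ I : Ideal L, I.IsMaximal → Function.Surjective (algebraMap F (L ⧸ I)) := by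
    intro I hI x
    obtain rfl := IsLocalRing.eq_maximalIdeal hI
    obtain ⟨z, hz⟩ := (IsLocalization.AtPrime.equivQuotMaximalIdealPow M L 1).surjective
      (Ideal.Quotient.factor (le_of_eq (pow_one _).symm) x)
    obtain ⟨c, rfl⟩ := Ideal.Quotient.mk_surjective z
    refine ⟨ε c, ?_⟩
    obtain ⟨x, rfl⟩ := Ideal.Quotient.mk_surjective x
    rw [IsLocalization.AtPrime.equivQuotMaximalIdealPow_apply_mk, Ideal.Quotient.factor_mk, Ideal.Quotient.eq,
      pow_one] at hz
    rw [← Ideal.Quotient.mk_algebraMap, Ideal.Quotient.eq, IsScalarTower.algebraMap_apply F C L]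
    have h2 : algebraMap C L (algebraMap F C (ε c) - c) ∈ IsLocalRing.maximalIdeal L := by
      rw [← Localization.AtPrime.map_eq_maximalIdeal]
      exact Ideal.mem_map_of_mem _ (by simp [M, RingHom.mem_ker])
    rw [map_sub] at h2
    have h3 := Ideal.add_mem _ h2 hz
    rwa [sub_add_sub_cancel] at h3
  have hlen := HighDPLib.length_eq_finrank hres (L ⧸ IsLocalRing.maximalIdeal L ^ n)
  rw [← hev]
  have h4 : (ℓ : ℕ∞) = (Module.finrank F (L ⧸ IsLocalRing.maximalIdeal L ^ n) : ℕ∞) := hℓ.symm.trans hlen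
  rw [(e.restrictScalars F).toLinearEquiv.finrank_eq]
  exact_mod_cast h4.symm

/-- Polynomials comparable at large integers. -/
theorem natDegree_le_of_eval_le {P Q : ℚ[X]} (hP : ∃ N : ℕ, ∀ n : ℕ, N ≤ n → 0 ≤ P.eval (n : ℚ))
    (h : ∃ N : ℕ, ∀ n : ℕ, N ≤ n → P.eval (n : ℚ) ≤ Q.eval (n : ℚ)) : P.natDegree ≤ Q.natDegree := by
  by_contra hlt
  rw [not_le] at hlt
  have hP0 : P ≠ 0 := fun h0 => by simp [h0] at hlt
  have hdeg : Q.degree < P.degree := by
    rw [degree_eq_natDegree hP0]
    exact (degree_le_natDegree).trans_lt (by exact_mod_cast hlt)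
  obtain ⟨N, hN⟩ := h
  obtain ⟨N', hN'⟩ := hP
  have hlead : 0 < P.leadingCoeff := by
    rcases lt_or_gt_of_ne (leadingCoeff_ne_zero.2 hP0) with hneg | hpos
    · exfalso
      have hPd : 0 < P.degree := by rw [degree_eq_natDegree hP0]; exact_mod_cast (show 0 < P.natDegree by omega)
      have ht := (P.tendsto_atBot_of_leadingCoeff_nonpos hPd hneg.le).comp (tendsto_natCast_atTop_atTop (R := ℚ))
      obtain ⟨M, hM⟩ := Filter.eventually_atTop.1 (Filter.tendsto_atBot.1 ht (-1))
      have h9 := hM (max M N') (le_max_left _ _)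
      simp only [Function.comp_apply] at h9
      linarith [hN' (max M N') (le_max_right _ _)]
    · exact hpos
  have hd : (P - Q).degree = P.degree := degree_sub_eq_left_of_degree_lt hdeg
  have hl : (P - Q).leadingCoeff = P.leadingCoeff := leadingCoeff_sub_of_degree_lt hdeg
  have hd0 : 0 < (P - Q).degree := by
    rw [hd, degree_eq_natDegree hP0]; exact_mod_cast (show 0 < P.natDegree by omega)
  have ht := ((P - Q).tendsto_atTop_of_leadingCoeff_nonneg hd0 (hl ▸ hlead.le)).comp (tendsto_natCast_atTop_atTop (R := ℚ))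
  obtain ⟨M, hM⟩ := Filter.eventually_atTop.1 (Filter.tendsto_atTop.1 ht 1)
  have := hM (max M N) (le_max_left _ _)
  simp only [Function.comp_apply, eval_sub] at this
  linarith [hN (max M N) (le_max_right _ _)]

section Count

variable {R : Type u} [CommRing R] [IsDomain R] [IsPrincipalIdealRing R] (K : Type u) [Field K] [Algebra R K]
  [IsFractionRing R K] (k : Type u) [Field k] [Algebra R k] {A B : Type u} [CommRing A] [Algebra R A]
  [CommRing B] [Algebra R B]

/-- The point of a fibre algebra induced by a point. -/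
def fibrePoint (F : Type u) [Field F] [Algebra R F] (ε : A →ₐ[R] R) : F ⊗[R] A →ₐ[F] F :=
  Algebra.TensorProduct.lift (Algebra.ofId F F) ((Algebra.ofId R F).comp ε) fun _ _ => mul_comm _ _

theorem fibrePoint_tmul (F : Type u) [Field F] [Algebra R F] (ε : A →ₐ[R] R) (c : F) (a : A) :
    fibrePoint F ε (c ⊗ₜ a) = c * algebraMap R F (ε a) := rfl

instance isPrime_ker_fibrePoint (F : Type u) [Field F] [Algebra R F] (ε : A →ₐ[R] R) :
    (RingHom.ker (fibrePoint F ε)).IsPrime := RingHom.ker_isPrime _

/-- Jets along a section are at most as many on the generic as on the special fibre. -/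
theorem finrank_le [Algebra.FiniteType R B] (hk : Function.Surjective (algebraMap R k)) (θ : A →ₐ[R] B)
    (εB : B →ₐ[R] R) (n : ℕ)
    (hinj : (RingHom.ker (fibrePoint K εB) ^ n).comap (Algebra.TensorProduct.map (AlgHom.id K K) θ).toRingHom ≤
      RingHom.ker (fibrePoint K (εB.comp θ)) ^ n)
    [FiniteDimensional k ((k ⊗[R] A) ⧸ RingHom.ker (fibrePoint k (εB.comp θ)) ^ n)] :
    Module.finrank K ((K ⊗[R] A) ⧸ RingHom.ker (fibrePoint K (εB.comp θ)) ^ n) ≤
      Module.finrank k ((k ⊗[R] A) ⧸ RingHom.ker (fibrePoint k (εB.comp θ)) ^ n) := by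
  let ε := εB.comp θ
  let JK := RingHom.ker (fibrePoint K ε) ^ n
  let W := (K ⊗[R] A) ⧸ JK
  let ψ : A →ₗ[R] W := ((Ideal.Quotient.mkₐ R JK).comp Algebra.TensorProduct.includeRight).toLinearMap
  let N : Submodule R W := LinearMap.range ψ
  -- `N` is finitely generated
  let θK : K ⊗[R] A →ₐ[K] K ⊗[R] B := Algebra.TensorProduct.map (AlgHom.id K K) θ
  let IK := RingHom.ker (fibrePoint K εB) ^ n
  let g : W →ₐ[R] (K ⊗[R] B) ⧸ IK := Ideal.Quotient.liftₐ JK ((Ideal.Quotient.mkₐ R IK).comp (θK.restrictScalars R))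
    fun x hx => by
      show Ideal.Quotient.mk IK (θK x) = 0
      rw [Ideal.Quotient.eq_zero_iff_mem]
      have h1 : RingHom.ker (fibrePoint K ε) ≤ (RingHom.ker (fibrePoint K εB)).comap θK := fun y hy => by
        have e : (fibrePoint K εB).comp θK = fibrePoint K ε := Algebra.TensorProduct.ext (by ext) (by ext a; simp [θK, ε, fibrePoint])
        rw [Ideal.mem_comap, RingHom.mem_ker, ← AlgHom.comp_apply, e]
        exact hy
      exact Ideal.le_comap_pow _ n (Ideal.pow_right_mono h1 n hx)
  have hg : Function.Injective g := by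
    rw [injective_iff_map_eq_zero]
    intro x hx
    obtain ⟨x, rfl⟩ := Ideal.Quotient.mk_surjective x
    exact Ideal.Quotient.eq_zero_iff_mem.2 (hinj (show θK x ∈ IK from Ideal.Quotient.eq_zero_iff_mem.1 hx))
  haveI : IsNoetherianRing R := inferInstance
  have hNfg : N.FG := by
    let π : B →ₗ[R] (K ⊗[R] B) ⧸ IK := ((Ideal.Quotient.mkₐ R IK).comp Algebra.TensorProduct.includeRight).toLinearMap
    haveI := finite_quot_pow εB n
    have hπ : (LinearMap.range π).FG := by
      let π' : (B ⧸ RingHom.ker εB ^ n) →ₐ[R] (K ⊗[R] B) ⧸ IK :=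
        Ideal.Quotient.liftₐ _ ((Ideal.Quotient.mkₐ R IK).comp Algebra.TensorProduct.includeRight) fun x hx => by
          show Ideal.Quotient.mk IK ((1 : K) ⊗ₜ x) = 0
          rw [Ideal.Quotient.eq_zero_iff_mem]
          have h1 : RingHom.ker εB ≤ (RingHom.ker (fibrePoint K εB)).comap
              (Algebra.TensorProduct.includeRight : B →ₐ[R] K ⊗[R] B) := fun y hy => by
            simp [RingHom.mem_ker, fibrePoint_tmul, RingHom.mem_ker.1 hy]
          exact (Ideal.le_comap_pow (Algebra.TensorProduct.includeRight : B →ₐ[R] K ⊗[R] B) n) (Ideal.pow_right_mono h1 n hx)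
      have e : LinearMap.range π = LinearMap.range π'.toLinearMap := by
        ext z
        constructor
        · rintro ⟨b, rfl⟩; exact ⟨Ideal.Quotient.mk _ b, rfl⟩
        · rintro ⟨b, rfl⟩
          obtain ⟨b, rfl⟩ := Ideal.Quotient.mk_surjective b
          exact ⟨b, rfl⟩
      rw [e, LinearMap.range_eq_map]
      exact Module.Finite.fg_top.map _
    have hle : N.map g.toLinearMap ≤ LinearMap.range π := by
      rintro _ ⟨_, ⟨a, rfl⟩, rfl⟩
      refine ⟨θ a, ?_⟩
      show Ideal.Quotient.mk IK ((1 : K) ⊗ₜ θ a) = Ideal.Quotient.mk IK (θK ((1 : K) ⊗ₜ a))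
      simp [θK]
    haveI : IsNoetherian R ↥(LinearMap.range π) := isNoetherian_of_fg_of_noetherian _ hπ
    have h2 : (N.map g.toLinearMap).FG := Submodule.FG.of_le hπ hle
    exact Submodule.fg_of_fg_map_injective g.toLinearMap hg h2
  haveI : Module.Finite R N := Module.Finite.iff_fg.2 hNfg
  haveI : Module.IsTorsionFree R W := Module.IsTorsionFree.trans_faithfulSMul R K W
  haveI : Module.IsTorsionFree R N := inferInstance
  haveI : Module.Free R N := inferInstance
  let b := Module.Free.chooseBasis R N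
  have hbasis : Module.finrank K W = Module.finrank R N := by
    have hli : LinearIndependent K (fun i => (b i : W)) :=
      (LinearIndependent.iff_fractionRing R K).1 (b.linearIndependent.map' N.subtype N.ker_subtype)
    have hsp : ⊤ ≤ Submodule.span K (Set.range fun i => (b i : W)) := by
      rintro x -
      obtain ⟨x, rfl⟩ := Ideal.Quotient.mk_surjective x
      induction x using TensorProduct.induction_on with
      | zero => rw [map_zero]; exact Submodule.zero_mem _
      | tmul c a =>
        have hc : Ideal.Quotient.mk JK (c ⊗ₜ a) = c • ψ a := by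
          show _ = c • Ideal.Quotient.mk JK ((1 : K) ⊗ₜ a)
          rw [← Ideal.Quotient.mk_eq_mk, ← Ideal.Quotient.mk_eq_mk, ← Submodule.Quotient.mk_smul]
          simp [TensorProduct.smul_tmul']
        rw [hc]
        refine Submodule.smul_mem _ _ ?_
        have h1 : (⟨ψ a, a, rfl⟩ : N) ∈ Submodule.span R (Set.range b) := b.span_eq ▸ Submodule.mem_top
        have h2 := Submodule.mem_map_of_mem (f := N.subtype) h1
        rw [Submodule.map_span, ← Set.range_comp] at h2
        exact Submodule.span_le_restrictScalars R K _ h2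
      | add x y hx hy => rw [map_add]; exact Submodule.add_mem _ hx hy
    rw [Module.finrank_eq_card_basis (Module.Basis.mk hli hsp), Module.finrank_eq_card_basis b]
  -- the special fibre surjects onto `k ⊗ N`
  let Jk := RingHom.ker (fibrePoint k ε) ^ n
  let ψN : A →ₗ[R] N := ψ.rangeRestrict
  let Ψ : k ⊗[R] A →ₗ[k] k ⊗[R] N := LinearMap.baseChange k ψN
  have hΨs : Function.Surjective Ψ := LinearMap.lTensor_surjective k (LinearMap.surjective_rangeRestrict ψ)
  have hincl : Function.Surjective (Algebra.TensorProduct.includeRight : A →ₐ[R] k ⊗[R] A) :=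
    Algebra.TensorProduct.includeRight_surjective _ hk
  have hkill : Jk.restrictScalars k ≤ LinearMap.ker Ψ := by
    intro y hy
    have hJ : RingHom.ker (fibrePoint k ε) =
        (RingHom.ker ε).map (Algebra.TensorProduct.includeRight : A →ₐ[R] k ⊗[R] A) := by
      refine le_antisymm (fun z hz => ?_) (Ideal.map_le_iff_le_comap.2 fun a ha => by
        simp [RingHom.mem_ker, fibrePoint_tmul, RingHom.mem_ker.1 ha])
      obtain ⟨a, rfl⟩ := hincl z
      have ha : algebraMap R k (ε a) = 0 := by simpa [RingHom.mem_ker, fibrePoint_tmul] using hz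
      have e : (Algebra.TensorProduct.includeRight (R := R) (A := k) a) =
          Algebra.TensorProduct.includeRight (a - algebraMap R A (ε a)) := by
        rw [map_sub, AlgHom.commutes, Algebra.TensorProduct.algebraMap_apply, ha, zero_tmul, sub_zero]
      rw [e]
      exact Ideal.mem_map_of_mem _ (sub_mem_ker ε a)
    have hy' : y ∈ (RingHom.ker ε ^ n).map (Algebra.TensorProduct.includeRight : A →ₐ[R] k ⊗[R] A) := by
      rw [Ideal.map_pow, ← hJ]; exact hy
    obtain ⟨a, ha, rfl⟩ := (Ideal.mem_map_iff_of_surjective _ hincl).1 hy'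
    rw [LinearMap.mem_ker]
    show (1 : k) ⊗ₜ ψN a = 0
    have h0 : ψN a = 0 := Subtype.ext (by
      show Ideal.Quotient.mk JK ((1 : K) ⊗ₜ a) = 0
      rw [Ideal.Quotient.eq_zero_iff_mem]
      have h1 : RingHom.ker ε ≤ (RingHom.ker (fibrePoint K ε)).comap
          (Algebra.TensorProduct.includeRight : A →ₐ[R] K ⊗[R] A) := fun z hz => by
        simp [RingHom.mem_ker, fibrePoint_tmul, RingHom.mem_ker.1 hz]
      exact (Ideal.le_comap_pow (Algebra.TensorProduct.includeRight : A →ₐ[R] K ⊗[R] A) n) (Ideal.pow_right_mono h1 n ha))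
    rw [h0, tmul_zero]
  let Ψ' : ((k ⊗[R] A) ⧸ Jk.restrictScalars k) →ₗ[k] k ⊗[R] N := Submodule.liftQ _ Ψ hkill
  have hΨ' : Function.Surjective Ψ' := by
    intro z
    obtain ⟨y, rfl⟩ := hΨs z
    exact ⟨Submodule.Quotient.mk y, rfl⟩
  haveI : FiniteDimensional k ((k ⊗[R] A) ⧸ Jk.restrictScalars k) :=
    Module.Finite.equiv (Submodule.Quotient.restrictScalarsEquiv k Jk).symm
  calc Module.finrank K W = Module.finrank R N := hbasis
    _ = Module.finrank k (k ⊗[R] N) := (Module.finrank_baseChange).symm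
    _ ≤ Module.finrank k ((k ⊗[R] A) ⧸ Jk.restrictScalars k) := LinearMap.finrank_le_finrank_of_surjective hΨ'
    _ = _ := (Submodule.Quotient.restrictScalarsEquiv k Jk).finrank_eq

/-- The generic dimension at a section is at most the special dimension. -/
theorem ringKrullDim_le [Algebra.FiniteType R B] (hk : Function.Surjective (algebraMap R k)) (θ : A →ₐ[R] B)
    (εB : B →ₐ[R] R)
    (hinj : ∀ n, (RingHom.ker (fibrePoint K εB) ^ n).comap (Algebra.TensorProduct.map (AlgHom.id K K) θ).toRingHom ≤
      RingHom.ker (fibrePoint K (εB.comp θ)) ^ n)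
    [Algebra.FiniteType K (K ⊗[R] A)] [Algebra.FiniteType k (k ⊗[R] A)] :
    ringKrullDim (Localization.AtPrime (RingHom.ker (fibrePoint K (εB.comp θ)))) ≤ ringKrullDim (k ⊗[R] A) := by
  obtain ⟨P, ⟨N, hN⟩, hP⟩ := exists_poly (fibrePoint K (εB.comp θ))
  obtain ⟨Q, ⟨M, hM⟩, hQ⟩ := exists_poly (fibrePoint k (εB.comp θ))
  have hle : P.natDegree ≤ Q.natDegree := by
    refine natDegree_le_of_eval_le ⟨N, fun n hn => ?_⟩ ⟨max N M, fun n hn => ?_⟩
    · rw [← hN n hn]; positivity
    · rw [← hN n (le_of_max_le_left hn), ← hM n (le_of_max_le_right hn)]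
      haveI := finite_quot_pow (fibrePoint k (εB.comp θ)) n
      exact_mod_cast finrank_le K k hk θ εB n (hinj n)
  calc ringKrullDim (Localization.AtPrime (RingHom.ker (fibrePoint K (εB.comp θ)))) = (P.natDegree : WithBot ℕ∞) := hP.symm
    _ ≤ (Q.natDegree : WithBot ℕ∞) := by exact_mod_cast hle
    _ = ringKrullDim (Localization.AtPrime (RingHom.ker (fibrePoint k (εB.comp θ)))) := hQ
    _ ≤ ringKrullDim (k ⊗[R] A) := by
      rw [IsLocalization.AtPrime.ringKrullDim_eq_height (RingHom.ker (fibrePoint k (εB.comp θ)))]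
      exact Ideal.height_le_ringKrullDim_of_ne_top (RingHom.ker_ne_top _)

end Count

/-- An open immersion of affine schemes pulls back powers of a maximal ideal to powers. -/
theorem comap_pow_le_of_isOpenImmersion {C D : Type u} [CommRing C] [CommRing D] (t : C →+* D)
    [AlgebraicGeometry.IsOpenImmersion (AlgebraicGeometry.Spec.map (CommRingCat.ofHom t))] (I : Ideal D) [I.IsPrime]
    [(I.comap t).IsMaximal] (n : ℕ) : (I ^ n).comap t ≤ I.comap t ^ n := by
  intro x hx
  let J := I.comap t
  let l : Localization.AtPrime J →+* Localization.AtPrime I := Localization.localRingHom J I t rfl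
  have hl : Function.Bijective l := by
    let f := AlgebraicGeometry.Spec.map (CommRingCat.ofHom t)
    haveI : CategoryTheory.IsIso (f.stalkMap ⟨I, inferInstance⟩) := inferInstance
    haveI : CategoryTheory.IsIso (CommRingCat.ofHom l) := by
      have e := AlgebraicGeometry.Scheme.arrowStalkMapSpecIso (CommRingCat.ofHom t) (⟨I, inferInstance⟩ : PrimeSpectrum D)
      exact ((CategoryTheory.MorphismProperty.isomorphisms CommRingCat).arrow_mk_iso_iff e).1
        (show CategoryTheory.IsIso (f.stalkMap ⟨I, inferInstance⟩) from inferInstance)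
    exact CategoryTheory.ConcreteCategory.bijective_of_isIso (CommRingCat.ofHom l)
  let le := RingEquiv.ofBijective l hl
  have hmax : IsLocalRing.maximalIdeal (Localization.AtPrime I) =
      (IsLocalRing.maximalIdeal (Localization.AtPrime J)).map l :=
    (IsLocalRing.map_ringEquiv_maximalIdeal le).symm
  have h1 : l (algebraMap C _ x) ∈ IsLocalRing.maximalIdeal (Localization.AtPrime I) ^ n := by
    rw [Localization.localRingHom_to_map, ← Localization.AtPrime.map_eq_maximalIdeal, ← Ideal.map_pow]
    exact Ideal.mem_map_of_mem _ hx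
  rw [hmax, ← Ideal.map_pow] at h1
  obtain ⟨y, hy, hxy⟩ := (Ideal.mem_map_iff_of_surjective l hl.2).1 h1
  have h3 : algebraMap C _ x ∈ IsLocalRing.maximalIdeal (Localization.AtPrime J) ^ n := hl.1 hxy ▸ hy
  rw [← IsLocalization.AtPrime.under_maximalIdeal_pow J (Localization.AtPrime J) n]
  exact h3

end SubSpecLib.Count
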