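import Groth.Agent.GrpFieldLib.Comps
import Groth.Agent.NeutralSchLib.Fibre
import Groth.Agent.FibDimLib.Formula
import Groth.Agent.FibDimLib.SchemeInv
import Groth.Agent.FibDimLib.TopLocalDim
import Groth.Agent.SmoothDimLib.Chart

/-! The dimension of a group over a field is the dimension of its local ring at the unit. -/

set_option autoImplicit false
set_option linter.style.haveILetI false
set_option backward.isDefEq.respectTransparency false
set_option maxHeartbeats 1000000

universe u

open CategoryTheory CategoryTheory.Limits MonoidalCategory CartesianMonoidalCategory AlgebraicGeometry TopologicalSpace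
open scoped MonObj
open Groth.Agent.GrpField

noncomputable section

namespace SubSpecLib

variable {k : Type u} [Field k] (G : Over (Spec (CommRingCat.of k))) [GrpObj G] [LocallyOfFiniteType G.hom]

/-- A group over a field is equidimensional. -/
theorem localDim_eq_unit (x : G.left) : FlatMor.localDim G.left x = FlatMor.localDim G.left (unitPt G) := by
  let L := G.left.residueField x
  let p : Spec (CommRingCat.of L) ⟶ Spec (CommRingCat.of k) := G.left.fromSpecResidueField x ≫ G.hom
  let GX := Red.bc p G
  haveI : LocallyOfFiniteType GX.hom := MorphismProperty.pullback_snd (P := @LocallyOfFiniteType) _ _ ‹_›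
  let a : 𝟙_ (Over (Spec (CommRingCat.of L))) ⟶ GX :=
    Over.homMk (pullback.lift (G.left.fromSpecResidueField x) (𝟙 _) (Category.id_comp p).symm) (pullback.lift_snd _ _ _)
  have hinv : ∀ z : GX.left, FlatMor.localDim GX.left z = FlatMor.localDim G.left (pullback.fst G.hom p z) := fun z => by
    rw [← SmoothDimLib.fibreDimAt_eq_localDim GX.hom z,
      ← SmoothDimLib.fibreDimAt_eq_localDim G.hom (pullback.fst G.hom p z)]
    exact FibDimLib.fibreDimAt_baseChange (IsPullback.of_hasPullback G.hom p) z
  let t : GX ≅ GX :=
    { hom := (toUnit GX ≫ a) * 𝟙 GX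
      inv := (toUnit GX ≫ a⁻¹) * 𝟙 GX
      hom_inv_id := by
        rw [MonObj.comp_mul, ← Category.assoc, toUnit_unique (((toUnit GX ≫ a) * 𝟙 GX) ≫ toUnit GX) (toUnit GX),
          Category.comp_id, GrpObj.comp_inv, ← mul_assoc, inv_mul_cancel, one_mul]
      inv_hom_id := by
        rw [MonObj.comp_mul, ← Category.assoc, toUnit_unique (((toUnit GX ≫ a⁻¹) * 𝟙 GX) ≫ toUnit GX) (toUnit GX),
          Category.comp_id, GrpObj.comp_inv, ← mul_assoc, mul_inv_cancel, one_mul] }
  haveI : IsIso t.hom := Iso.isIso_hom t
  haveI : IsIso t.hom.left := (Over.forget _).map_isIso t.hom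
  let c : ↥(Spec (CommRingCat.of L)) := IsLocalRing.closedPoint L
  have ht : η[GX] ≫ t.hom = a := by
    rw [MonObj.comp_mul, ← Category.assoc, toUnit_unique (η[GX] ≫ toUnit GX) (𝟙 _), Category.id_comp,
      Category.comp_id, show (η[GX] : 𝟙_ _ ⟶ GX) = 1 by rw [Hom.one_def, toUnit_unique (toUnit _) (𝟙 _), Category.id_comp],
      mul_one]
  have h1 : t.hom.left (η[GX].left c) = a.left c := by
    rw [← Scheme.Hom.comp_apply, ← Over.comp_left, ht]
  have h2 : pullback.fst G.hom p (a.left c) = x := by
    refine (Scheme.Hom.comp_apply _ _ _).symm.trans ?_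
    show (pullback.lift (G.left.fromSpecResidueField x) (𝟙 _) _ ≫ pullback.fst G.hom p) c = x
    rw [pullback.lift_fst]
    exact G.left.fromSpecResidueField_apply x _
  have h3 : pullback.fst G.hom p (η[GX].left c) = unitPt G := by
    refine ((Scheme.Hom.comp_apply _ _ _).symm.trans
      (congrArg (fun m => m c) (Groth.Agent.NeutralSch.bc_unit_fst G p))).trans ?_
    refine (Scheme.Hom.comp_apply _ _ _).trans ?_
    exact congrArg η[G].left (Subsingleton.elim (α := PrimeSpectrum k) _ _)
  rw [← h2, ← h3, ← hinv, ← hinv, ← h1]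
  exact FibDimLib.localDim_eq_of_isOpenEmbedding t.hom.left.homeomorph.isOpenEmbedding (η[GX].left c)

theorem isClosed_unitPt : IsClosed ({unitPt G} : Set G.left) := by
  haveI : IsSeparated G.hom := isSeparated_grp
  haveI : IsClosedImmersion (η[G].left ≫ G.hom) := by
    rw [Over.w η[G]]; exact inferInstanceAs (IsClosedImmersion (𝟙 _))
  haveI : IsClosedImmersion η[G].left := IsClosedImmersion.of_comp η[G].left G.hom
  have h : Set.range η[G].left = {unitPt G} := by
    refine Set.eq_singleton_iff_unique_mem.2 ⟨⟨_, rfl⟩, ?_⟩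
    rintro _ ⟨y, rfl⟩
    exact congrArg η[G].left (Subsingleton.elim (α := PrimeSpectrum k) _ _)
  exact h ▸ η[G].left.isClosedEmbedding.isClosed_range

/-- The dimension of a group is that of its local ring at the unit. -/
theorem dim_eq_stalk_unit : topologicalKrullDim G.left = ringKrullDim (G.left.presheaf.stalk (unitPt G)) := by
  rw [FibDimLib.topologicalKrullDim_eq_iSup_localDim,
    ← FibDimLib.localDim_eq_stalk_of_isClosed G.hom (isClosed_unitPt G)]
  haveI : Nonempty G.left := ⟨unitPt G⟩
  exact le_antisymm (iSup_le fun x => (localDim_eq_unit G x).le)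
    (le_iSup (fun x => FlatMor.localDim G.left x) (unitPt G))

end SubSpecLib
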