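import Groth.Agent.SubSpecLib.HullSpecial
import Groth.Agent.SubSpecLib.Count
import Groth.Agent.SubSpecLib.GrpDim

/-! The special fibre of the affinization has the dimension of the affine generic fibre. -/

set_option autoImplicit false
set_option linter.style.haveILetI false
set_option backward.isDefEq.respectTransparency false
set_option maxHeartbeats 1000000

universe u

open CategoryTheory CategoryTheory.Limits MonoidalCategory CartesianMonoidalCategory AlgebraicGeometry TopologicalSpace TensorProduct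
open scoped MonObj

noncomputable section

namespace SubSpecLib.Hull

section

variable {R : Type u} [CommRing R] {X : Scheme.{u}} (f : X ⟶ Spec (CommRingCat.of R))

theorem fromSpec_hom {W : X.Opens} (hW : IsAffineOpen W) : hW.fromSpec ≫ f = Spec.map (CommRingCat.ofHom (sc f W)) := by
  have hfs : hW.fromSpec.appTop = X.presheaf.map (homOfLE (le_top : W ≤ ⊤)).op ≫
      (Scheme.ΓSpecIso Γ(X, W)).inv := by
    show hW.fromSpec.app ⊤ = _
    rw [hW.fromSpec_app_of_le ⊤ le_top]
    exact congrArg (_ ≫ ·) (by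
      rw [show (homOfLE (le_top : hW.fromSpec ⁻¹ᵁ ⊤ ≤ ⊤)).op = 𝟙 _ from Subsingleton.elim _ _]
      simp only [CategoryTheory.Functor.map_id, Category.comp_id])
  refine ext_of_isAffine ?_
  rw [Scheme.Hom.comp_appTop, hfs, ← cancel_epi (Scheme.ΓSpecIso (CommRingCat.of R)).inv,
    ← Scheme.ΓSpecIso_inv_naturality]
  simp only [sc, CommRingCat.ofHom_hom, Category.assoc]
  rfl

theorem toSpecΓ_sc : X.toSpecΓ ≫ Spec.map (CommRingCat.ofHom (sc f ⊤)) = f := by
  refine ext_of_isAffine ?_
  rw [Scheme.Hom.comp_appTop, Scheme.toSpecΓ_appTop, ← cancel_epi (Scheme.ΓSpecIso (CommRingCat.of R)).inv,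
    ← Scheme.ΓSpecIso_inv_naturality_assoc, Iso.inv_hom_id, Category.comp_id]
  show (Scheme.ΓSpecIso (CommRingCat.of R)).inv ≫ f.appTop ≫ _ = _
  rw [show (homOfLE (le_top : (⊤ : X.Opens) ≤ ⊤)).op = 𝟙 _ from Subsingleton.elim _ _, CategoryTheory.Functor.map_id,
    Category.comp_id]

theorem hull_hom_eq (G : Over (Spec (CommRingCat.of R))) :
    (hull G).hom = Spec.map (CommRingCat.ofHom (sc G.hom ⊤)) := by
  haveI : IsIso G.left.toSpecΓ.appTop := by rw [Scheme.toSpecΓ_appTop]; infer_instance
  refine ext_of_isAffine ?_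
  rw [← cancel_mono G.left.toSpecΓ.appTop, ← Scheme.Hom.comp_appTop, ← Scheme.Hom.comp_appTop]
  exact congrArg Scheme.Hom.appTop ((Over.w (toHull G)).trans (toSpecΓ_sc G.hom).symm)

end

variable {R : Type u} [CommRing R] [IsDomain R] [IsDiscreteValuationRing R] {K : Type u} [Field K] [Algebra R K]
  [IsFractionRing R K]

theorem dim_generic_le_special (G : Over (Spec (CommRingCat.of R))) [GrpObj G] [Flat G.hom]
    [LocallyOfFiniteType G.hom] [QuasiCompact G.hom] [QuasiSeparated G.hom]
    [IsAffine (Red.bc (Spec.map (CommRingCat.ofHom (algebraMap R K))) G).left]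
    {k : Type u} [Field k] (φ : R →+* k) (hφ : Function.Surjective φ) :
    topologicalKrullDim ↥(Red.bc (Spec.map (CommRingCat.ofHom (algebraMap R K))) G).left ≤
      topologicalKrullDim ↥(Red.bc (Spec.map (CommRingCat.ofHom φ)) (hull G)).left := by
  letI : Algebra R k := φ.toAlgebra
  let g := Spec.map (CommRingCat.ofHom (algebraMap R K))
  let e : Spec (CommRingCat.of R) ⟶ G.left := η[G].left
  have he : e ≫ G.hom = 𝟙 _ := Over.w η[G]
  obtain ⟨U, hU, hxU, -⟩ := exists_isAffineOpen_mem_and_subset (x := e (IsLocalRing.closedPoint R))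
    (U := ⊤) trivial
  have heU : Set.range e ⊆ Set.range hU.fromSpec := by
    rintro _ ⟨s, rfl⟩
    rw [hU.range_fromSpec]
    exact ((IsLocalRing.specializes_closedPoint (R := R) s).map e.continuous).mem_open U.2 hxU
  letI algA : Algebra R Γ(G.left, ⊤) := (sc G.hom ⊤).toAlgebra
  letI algB : Algebra R Γ(G.left, U) := (sc G.hom U).toAlgebra
  let θ : Γ(G.left, ⊤) →ₐ[R] Γ(G.left, U) :=
    { (G.left.presheaf.map (homOfLE (le_top : U ≤ ⊤)).op).hom with
      commutes' := fun r => map_sc G.hom le_top r }
  haveI : Algebra.FiniteType R Γ(G.left, U) := by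
    show (sc G.hom U).FiniteType
    rw [sc, CommRingCat.hom_comp, RingHom.finiteType_respectsIso.cancel_left_isIso]
    exact HasRingHomProperty.appLE (P := @LocallyOfFiniteType) G.hom ‹_› ⟨⊤, isAffineOpen_top _⟩ ⟨U, hU⟩ le_top
  -- the section on the affine chart
  let e' := IsOpenImmersion.lift hU.fromSpec e heU
  have he' : e' ≫ hU.fromSpec = e := IsOpenImmersion.lift_fac _ _ _
  let εB : Γ(G.left, U) →ₐ[R] R :=
    { (Spec.preimage e').hom with
      commutes' := fun r => by
        have h : Spec.map (Spec.preimage e') ≫ Spec.map (CommRingCat.ofHom (sc G.hom U)) = Spec.map (𝟙 _) := by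
          rw [Spec.map_preimage, ← fromSpec_hom G.hom hU, ← Category.assoc, he', he, Spec.map_id]
        rw [← Spec.map_comp] at h
        exact congrArg (fun m => m.hom r) (Spec.map_injective h) }
  -- the generic fibre of the chart
  let θK := Algebra.TensorProduct.map (AlgHom.id K K) θ
  let incA := (Algebra.TensorProduct.includeRight : Γ(G.left, ⊤) →ₐ[R] K ⊗[R] Γ(G.left, ⊤)).toRingHom
  let incB := (Algebra.TensorProduct.includeRight : Γ(G.left, U) →ₐ[R] K ⊗[R] Γ(G.left, U)).toRingHom
  have sqA : IsPullback (Spec.map (CommRingCat.ofHom incA))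
      (Spec.map (CommRingCat.ofHom (Algebra.TensorProduct.includeLeftRingHom : K →+* K ⊗[R] Γ(G.left, ⊤))))
      (hull G).hom g := by
    rw [hull_hom_eq]
    exact (isPullback_SpecMap_of_isPushout _ _ _ _ (CommRingCat.isPushout_tensorProduct R K Γ(G.left, ⊤))).flip
  have sqB : IsPullback (Spec.map (CommRingCat.ofHom incB))
      (Spec.map (CommRingCat.ofHom (Algebra.TensorProduct.includeLeftRingHom : K →+* K ⊗[R] Γ(G.left, U))))
      (hU.fromSpec ≫ G.hom) g := by
    rw [fromSpec_hom]
    exact (isPullback_SpecMap_of_isPushout _ _ _ _ (CommRingCat.isPushout_tensorProduct R K Γ(G.left, U))).flip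
  haveI := isIso_generic (K := K) G
  let n1 : pullback (hU.fromSpec ≫ G.hom) g ⟶ pullback G.hom g :=
    pullback.map _ _ _ _ hU.fromSpec (𝟙 _) (𝟙 _) (Category.comp_id _) rfl
  let m := sqB.isoPullback.hom ≫ n1 ≫ (fibreHull G g).left ≫ sqA.isoPullback.inv
  have hm : Spec.map (CommRingCat.ofHom θK.toRingHom) = m := by
    refine sqA.hom_ext ?_ ?_
    · simp only [m, Category.assoc, IsPullback.isoPullback_inv_fst]
      erw [ActBC.pullback_map_left_fst g (toHull G)]
      rw [← Category.assoc n1, pullback.lift_fst, Category.assoc, sqB.isoPullback_hom_fst_assoc]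
      show _ = Spec.map (CommRingCat.ofHom incB) ≫ hU.fromSpec ≫ G.left.toSpecΓ
      rw [hU.fromSpec_toSpecΓ, ← Spec.map_comp, ← Spec.map_comp]
      congr 1
    · simp only [m, Category.assoc, IsPullback.isoPullback_inv_snd]
      erw [Over.w (fibreHull G g)]
      show _ = _ ≫ n1 ≫ pullback.snd G.hom g
      rw [show n1 ≫ pullback.snd G.hom g = pullback.snd _ g from (pullback.lift_snd _ _ _).trans (Category.comp_id _),
        sqB.isoPullback_hom_snd, ← Spec.map_comp]
      congr 1
      ext c
      exact (Algebra.TensorProduct.map_tmul (AlgHom.id K K) θ c (1 : Γ(G.left, ⊤))).trans (by rw [map_one]; rfl)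
  haveI : IsOpenImmersion (Spec.map (CommRingCat.ofHom θK.toRingHom)) := by
    rw [hm]; infer_instance
  have hinj : ∀ n, (RingHom.ker (Count.fibrePoint K εB) ^ n).comap θK.toRingHom ≤
      RingHom.ker (Count.fibrePoint K (εB.comp θ)) ^ n := fun n => by
    have hc : (Count.fibrePoint K εB).comp θK = Count.fibrePoint K (εB.comp θ) :=
      Algebra.TensorProduct.ext (by ext) (by ext a; simp [θK, Count.fibrePoint])
    have hker : (RingHom.ker (Count.fibrePoint K εB)).comap θK.toRingHom =
        RingHom.ker (Count.fibrePoint K (εB.comp θ)) := by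
      ext y
      rw [Ideal.mem_comap, RingHom.mem_ker, RingHom.mem_ker, ← hc]
      rfl
    haveI : ((RingHom.ker (Count.fibrePoint K εB)).comap θK.toRingHom).IsMaximal :=
      hker ▸ RingHom.ker_isMaximal_of_surjective _ fun r => ⟨algebraMap K _ r, AlgHom.commutes _ r⟩
    exact hker ▸ Count.comap_pow_le_of_isOpenImmersion θK.toRingHom _ n
  -- both fibre algebras are of finite type
  have hKA : Algebra.FiniteType K (K ⊗[R] Γ(G.left, ⊤)) := by
    haveI : LocallyOfFiniteType (Red.bc g G).hom := MorphismProperty.pullback_snd (P := @LocallyOfFiniteType) _ _ ‹_›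
    have h : LocallyOfFiniteType (Spec.map (CommRingCat.ofHom
        (Algebra.TensorProduct.includeLeftRingHom : K →+* K ⊗[R] Γ(G.left, ⊤)))) := by
      rw [← sqA.isoPullback_hom_snd]
      have e1 : pullback.snd (hull G).hom g = inv (fibreHull G g).left ≫ (Red.bc g G).hom := by
        rw [IsIso.eq_inv_comp]
        exact Over.w (fibreHull G g)
      rw [e1]
      infer_instance
    exact RingHom.finiteType_algebraMap.1 ((HasRingHomProperty.Spec_iff (P := @LocallyOfFiniteType)).1 h :
      (algebraMap _ _).FiniteType)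
  have sqk : IsPullback (Spec.map (CommRingCat.ofHom
      (Algebra.TensorProduct.includeRight : Γ(G.left, ⊤) →ₐ[R] k ⊗[R] Γ(G.left, ⊤)).toRingHom))
      (Spec.map (CommRingCat.ofHom (Algebra.TensorProduct.includeLeftRingHom : k →+* k ⊗[R] Γ(G.left, ⊤))))
      (hull G).hom (Spec.map (CommRingCat.ofHom φ)) := by
    rw [hull_hom_eq]
    exact (isPullback_SpecMap_of_isPushout _ _ _ _ (CommRingCat.isPushout_tensorProduct R k Γ(G.left, ⊤))).flip
  have hkA : Algebra.FiniteType k (k ⊗[R] Γ(G.left, ⊤)) := by
    haveI := (special G φ hφ).2.2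
    have h : LocallyOfFiniteType (Spec.map (CommRingCat.ofHom
        (Algebra.TensorProduct.includeLeftRingHom : k →+* k ⊗[R] Γ(G.left, ⊤)))) := by
      rw [← sqk.isoPullback_hom_snd]
      have : LocallyOfFiniteType (pullback.snd (hull G).hom (Spec.map (CommRingCat.ofHom φ))) :=
        (special G φ hφ).2.2
      infer_instance
    exact RingHom.finiteType_algebraMap.1 ((HasRingHomProperty.Spec_iff (P := @LocallyOfFiniteType)).1 h :
      (algebraMap _ _).FiniteType)
  haveI := hKA
  haveI := hkA
  have key := Count.ringKrullDim_le K k hφ θ εB hinj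
  -- the generic dimension is the dimension of the local ring
  haveI hmax : (RingHom.ker (Count.fibrePoint K (εB.comp θ))).IsMaximal :=
    RingHom.ker_isMaximal_of_surjective _ fun r => ⟨algebraMap K _ r, AlgHom.commutes _ r⟩
  haveI : LocallyOfFiniteType (Red.bc g G).hom := MorphismProperty.pullback_snd (P := @LocallyOfFiniteType) _ _ ‹_›
  let w : Spec (CommRingCat.of (K ⊗[R] Γ(G.left, ⊤))) ≅ (Red.bc g G).left :=
    sqA.isoPullback ≪≫ (asIso (fibreHull G g).left).symm
  let z : PrimeSpectrum (K ⊗[R] Γ(G.left, ⊤)) := ⟨RingHom.ker (Count.fibrePoint K (εB.comp θ)), inferInstance⟩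
  have hd : topologicalKrullDim ↥(Red.bc g G).left =
      ringKrullDim (Localization.AtPrime (RingHom.ker (Count.fibrePoint K (εB.comp θ)))) := by
    rw [dim_eq_stalk_unit, ← FibDimLib.localDim_eq_stalk_of_isClosed (Red.bc g G).hom (isClosed_unitPt _),
      ← localDim_eq_unit (Red.bc g G) (w.hom z),
      show FlatMor.localDim (Red.bc g G).left (w.hom z) = FlatMor.localDim (PrimeSpectrum (K ⊗[R] Γ(G.left, ⊤))) z
        from FibDimLib.localDim_eq_of_isOpenEmbedding w.hom.homeomorph.isOpenEmbedding z]
    exact FibDimLib.localDim_eq_of_isMaximal K (RingHom.ker (Count.fibrePoint K (εB.comp θ)))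
  rw [hd]
  refine key.trans (le_of_eq ?_)
  rw [← PrimeSpectrum.topologicalKrullDim_eq_ringKrullDim]
  exact sqk.isoPullback.hom.homeomorph.isHomeomorph.topologicalKrullDim_eq

end SubSpecLib.Hull
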