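import Groth.Agent.SubSpecLib.UnitFibre
import Groth.Agent.ClassBoundLib.Locus
import Groth.Agent.SweepSix.GeomConn

/-! Words trivial on the generic fibre are trivial on connected subgroups of the special fibre. -/

set_option autoImplicit false
set_option linter.style.haveILetI false
set_option backward.isDefEq.respectTransparency false
set_option maxHeartbeats 1000000

universe u

open CategoryTheory CategoryTheory.Limits MonoidalCategory CartesianMonoidalCategory AlgebraicGeometry TopologicalSpace
open scoped MonObj commutatorElement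
open Groth.Agent.ClassBound

noncomputable section

attribute [-instance] CategoryTheory.Hom.commGroup

namespace SubSpecLib

theorem ptsEquiv_left {S : Scheme.{u}} {k : Type u} [Field k] (p : Spec (CommRingCat.of k) ⟶ S) (G : Over S) [GrpObj G]
    (x : 𝟙_ (Over (Spec (CommRingCat.of k))) ⟶ Red.bc p G) :
    (ptsEquiv p G x).left = x.left ≫ pullback.fst G.hom p := by
  have h1 : (((Over.mapPullbackAdj p).homEquiv (𝟙_ (Over (Spec (CommRingCat.of k)))) G).symm x).left =
      x.left ≫ pullback.fst G.hom p := by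
    rw [Adjunction.homEquiv_counit]
    simp
  show 𝟙 _ ≫ _ = _
  rw [Category.id_comp]
  exact h1

theorem exists_dw_lift {D C : Type (u + 1)} [Category.{u} D] [CartesianMonoidalCategory D] [Category.{u} C]
    [CartesianMonoidalCategory C] {B : D} {H : C} [GrpObj B] [GrpObj H] {X : D} {T : C}
    (ψ : (X ⟶ B) →* (T ⟶ H)) (n : ℕ) (x : X ⟶ DP B n) : ∃ y : T ⟶ DP H n, y ≫ dw H n = ψ (x ≫ dw B n) := by
  induction n with
  | zero => exact ⟨(ψ (x ≫ dw B 0) : T ⟶ H), Category.comp_id _⟩
  | succ n ih =>
    obtain ⟨y, hy⟩ := ih (x ≫ fst (DP B n) (DP B n))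
    obtain ⟨z, hz⟩ := ih (x ≫ snd (DP B n) (DP B n))
    exact ⟨lift y z, by rw [comp_dw_succ, comp_dw_succ, lift_fst, lift_snd, hy, hz, map_commutatorElement]⟩

theorem exists_cw_lift {D C : Type (u + 1)} [Category.{u} D] [CartesianMonoidalCategory D] [Category.{u} C]
    [CartesianMonoidalCategory C] {B : D} {H : C} [GrpObj B] [GrpObj H] {X : D} {T : C}
    (ψ : (X ⟶ B) →* (T ⟶ H)) (n : ℕ) (x : X ⟶ CP B n) : ∃ y : T ⟶ CP H n, y ≫ cw H n = ψ (x ≫ cw B n) := by
  induction n with
  | zero => exact ⟨(ψ (x ≫ cw B 0) : T ⟶ H), Category.comp_id _⟩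
  | succ n ih =>
    obtain ⟨y, hy⟩ := ih (x ≫ fst (CP B n) B)
    exact ⟨lift y (ψ (x ≫ snd (CP B n) B)), by
      rw [comp_cw_succ, comp_cw_succ, lift_fst, lift_snd, hy, map_commutatorElement]⟩

theorem exists_dw_one {D : Type (u + 1)} [Category.{u} D] [CartesianMonoidalCategory D] {B : D} [GrpObj B] (X : D)
    (n : ℕ) : ∃ x : X ⟶ DP B n, x ≫ dw B n = 1 := by
  induction n with
  | zero => exact ⟨(1 : X ⟶ B), Category.comp_id _⟩
  | succ n ih =>
    obtain ⟨y, hy⟩ := ih
    exact ⟨lift y y, by rw [comp_dw_succ, lift_fst, hy]; simp⟩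

theorem exists_cw_one {D : Type (u + 1)} [Category.{u} D] [CartesianMonoidalCategory D] {B : D} [GrpObj B] (X : D)
    (n : ℕ) : ∃ x : X ⟶ CP B n, x ≫ cw B n = 1 := by
  induction n with
  | zero => exact ⟨(1 : X ⟶ B), Category.comp_id _⟩
  | succ n ih =>
    obtain ⟨y, hy⟩ := ih
    exact ⟨lift y 1, by rw [comp_cw_succ, lift_fst, hy]; simp⟩

section Words

variable {V : Type u} [CommRing V] [IsDomain V] [ValuationRing V] {K : Type u} [Field K] [Algebra V K]
  [IsFractionRing V K] {k : Type u} [Field k] [IsAlgClosed k] {φ : V →+* k}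

/-- A word trivial on the generic fibre takes the unit value on connected families of special points. -/
theorem eq_one_core (hφ : Function.Surjective φ) (H : Over (Spec (CommRingCat.of V))) [GrpObj H]
    [LocallyOfFiniteType H.hom] [QuasiCompact H.hom] {P : Over (Spec (CommRingCat.of V))} [Flat P.hom] (w : P ⟶ H)
    (hgen : snd (Over.mk (Spec.map (CommRingCat.ofHom (algebraMap V K)))) P ≫ w = 1)
    {P' : Over (Spec (CommRingCat.of k))} [Smooth P'.hom] [ConnectedSpace ↥P'.left]
    (u : P' ⟶ Red.bc (Spec.map (CommRingCat.ofHom φ)) H)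
    (hfac : ∀ x : 𝟙_ (Over (Spec (CommRingCat.of k))) ⟶ P', ∃ y : Over.mk (Spec.map (CommRingCat.ofHom φ)) ⟶ P,
      y ≫ w = ptsEquiv (Spec.map (CommRingCat.ofHom φ)) H (x ≫ u))
    (hone : ∃ x : 𝟙_ (Over (Spec (CommRingCat.of k))) ⟶ P', x ≫ u = 1) : u = 1 := by
  let g := Spec.map (CommRingCat.ofHom (algebraMap V K))
  let p := Spec.map (CommRingCat.ofHom φ)
  haveI : IsClosedImmersion p := IsClosedImmersion.spec_of_surjective _ hφ
  -- `w` lands in the closure of the generic unit
  have hC : ∀ z : P.left, w.left z ∈ closure {genUnit H} := by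
    intro z
    obtain ⟨z', hz', hzη⟩ := Flat.generalizingMap P.hom
      ((PrimeSpectrum.le_iff_specializes (⟨⊥, Ideal.isPrime_bot⟩ : PrimeSpectrum V) (P.hom z)).1 bot_le)
    refine (hz'.map w.left.continuous).mem_closed isClosed_closure (subset_closure ?_)
    obtain ⟨t, -, ht⟩ := Scheme.Pullback.exists_preimage_pullback (f := g) (g := P.hom)
      (IsLocalRing.closedPoint K) z' ((gp_closedPoint V K).trans hzη.symm)
    have h := congrArg (fun m => Over.Hom.left m) hgen
    simp only [one_left, Over.comp_left] at h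
    have h' := congrArg (fun m => m t) h
    simp only [Scheme.Hom.comp_apply] at h'
    refine ((congrArg w.left ht).symm.trans h').trans ?_
    show η[H].left _ = η[H].left _
    congr 1
    show (pullback.fst g P.hom ≫ g) t = _
    rw [pullback.condition, Scheme.Hom.comp_apply, ht, hzη]
  obtain ⟨hfin, hcl⟩ := unitFibre hφ H
  let S₀ : Set ↥(pullback H.hom p) := {z | pullback.fst H.hom p z ∈ closure {genUnit H}}
  haveI : IsReduced P'.left := AlgSpLib.isReduced_of_smooth P'.hom
  haveI : JacobsonSpace P'.left := LocallyOfFiniteType.jacobsonSpace P'.hom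
  have hclosedpts : ∀ z ∈ closedPoints P'.left, u.left z ∈ S₀ := by
    intro z hz
    obtain ⟨x, rfl⟩ : ∃ x : 𝟙_ (Over (Spec (CommRingCat.of k))) ⟶ P', x.left (IsLocalRing.closedPoint k) = z :=
      ⟨Over.homMk (pointOfClosedPoint P'.hom z hz) (pointOfClosedPoint_comp P'.hom z hz),
        pointOfClosedPoint_apply P'.hom z hz _⟩
    obtain ⟨y, hy⟩ := hfac x
    have h := congrArg (fun m => Over.Hom.left m) hy
    rw [ptsEquiv_left] at h
    have h' := congrArg (fun m => m (IsLocalRing.closedPoint k)) h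
    simp only [Over.comp_left, Scheme.Hom.comp_apply] at h'
    show pullback.fst H.hom p (u.left (x.left (IsLocalRing.closedPoint k))) ∈ closure {genUnit H}
    exact h' ▸ hC _
  have hS₀c : IsClosed S₀ := isClosed_closure.preimage (pullback.fst H.hom p).continuous
  have hall : ∀ z : P'.left, u.left z ∈ S₀ := fun z =>
    closure_minimal hclosedpts (hS₀c.preimage u.left.continuous) (by rw [closure_closedPoints]; trivial)
  haveI : Finite ↥S₀ := hfin.to_subtype
  haveI : T1Space ↥S₀ := ⟨fun z => by
    have e : ({z} : Set ↥S₀) = Subtype.val ⁻¹' {z.1} := Set.ext fun y => Subtype.ext_iff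
    rw [e]
    exact (hcl z.1 z.2).preimage continuous_subtype_val⟩
  let u₀ : P'.left → ↥S₀ := fun z => ⟨u.left z, hall z⟩
  have hu₀ : Continuous u₀ := u.left.continuous.subtype_mk _
  obtain ⟨x₁, hx₁⟩ := hone
  haveI : LocallyOfFiniteType (Red.bc p H).hom := MorphismProperty.pullback_snd (P := @LocallyOfFiniteType) _ _ ‹_›
  have hpts : ∀ x : 𝟙_ (Over (Spec (CommRingCat.of k))) ⟶ P', x ≫ u = 1 := by
    intro x
    rw [← hx₁]
    refine kpt_injective (Red.bc p H) ?_
    exact congrArg Subtype.val
      ((isPreconnected_range hu₀).subsingleton (Set.mem_range_self (x.left (IsLocalRing.closedPoint k))) (Set.mem_range_self (x₁.left (IsLocalRing.closedPoint k))))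
  exact eq_one_of_pts u (𝟙 _) hpts

end Words

section Transfer

/-- Composition with an isomorphism of groups, on points. -/
def ptsIso {D : Type (u + 1)} [Category.{u} D] [CartesianMonoidalCategory D] {A B : D} [GrpObj A] [GrpObj B]
    (e : A ≅ B) [IsMonHom e.hom] (T : D) : (T ⟶ A) ≃* (T ⟶ B) where
  toFun x := x ≫ e.hom
  invFun x := x ≫ e.inv
  left_inv x := by simp
  right_inv x := by simp
  map_mul' x y := MonObj.mul_comp x y e.hom

/-- Composition with a homomorphism of groups, on points. -/
def ptsMap {D : Type (u + 1)} [Category.{u} D] [CartesianMonoidalCategory D] {A B : D} [GrpObj A] [GrpObj B]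
    (r : A ⟶ B) [IsMonHom r] (T : D) : (T ⟶ A) →* (T ⟶ B) where
  toFun x := x ≫ r
  map_one' := MonObj.one_comp r
  map_mul' x y := MonObj.mul_comp x y r

theorem isCommMonObj_iff_lcs {D : Type (u + 1)} [Category.{u} D] [CartesianMonoidalCategory D] [BraidedCategory D]
    (A : D) [GrpObj A] : IsCommMonObj A ↔ ∀ T : D, (⊤ : Subgroup (T ⟶ A)).lowerCentralSeries 1 = ⊥ := by
  constructor
  · intro h T
    rw [Subgroup.lowerCentralSeries_succ, Subgroup.lowerCentralSeries_zero, eq_bot_iff, Subgroup.commutator_le]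
    intro x _ y _
    rw [Subgroup.mem_bot, commutatorElement_eq_one_iff_mul_comm]
    exact (CategoryTheory.Hom.commGroup (X := T) (G := A)).mul_comm x y
  · intro h
    refine ⟨?_⟩
    have h1 : (snd A A * fst A A : A ⊗ A ⟶ A) = fst A A * snd A A := by
      have h2 := Subgroup.commutator_mem_commutator (H₁ := (⊤ : Subgroup (A ⊗ A ⟶ A))) (H₂ := ⊤)
        (Subgroup.mem_top (snd A A)) (Subgroup.mem_top (fst A A))
      have h3 := h (A ⊗ A)
      rw [Subgroup.lowerCentralSeries_succ, Subgroup.lowerCentralSeries_zero] at h3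
      rw [h3, Subgroup.mem_bot, commutatorElement_eq_one_iff_mul_comm] at h2
      exact h2
    rw [show μ[A] = fst A A * snd A A by rw [Hom.mul_def, lift_fst_snd, Category.id_comp], MonObj.comp_mul,
      braiding_hom_fst, braiding_hom_snd, h1]

variable {V : Type u} [CommRing V] [IsDomain V] [ValuationRing V] {K : Type u} [Field K] [Algebra V K]
  [IsFractionRing V K] {k : Type u} [Field k] [IsAlgClosed k] {φ : V →+* k}
  {G H : Over (Spec (CommRingCat.of V))} [GrpObj G] [GrpObj H] (j : H ⟶ G) [IsMonHom j] [Mono j]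
  {HK : Over (Spec (CommRingCat.of K))} [GrpObj HK]
  (i : HK ⟶ Red.bc (Spec.map (CommRingCat.ofHom (algebraMap V K))) G) [IsMonHom i]
  (φH : HK.left ⟶ H.left) (hpb : IsPullback φH HK.hom H.hom (Spec.map (CommRingCat.ofHom (algebraMap V K))))
  (hφj : φH ≫ j.left = i.left ≫ pullback.fst G.hom _)

include hpb hφj in
/-- The points of the generic fibre of the closure. -/
theorem exists_ptsEquiv (T : Over (Spec (CommRingCat.of K))) :
    Nonempty (((Over.map (Spec.map (CommRingCat.ofHom (algebraMap V K)))).obj T ⟶ H) ≃* (T ⟶ HK)) := by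
  let g := Spec.map (CommRingCat.ofHom (algebraMap V K))
  haveI : Mono ((Over.pullback g).map j) := inferInstance
  let e : HK ≅ Red.bc g H := Over.isoMk hpb.isoPullback hpb.isoPullback_hom_snd
  have he : e.hom ≫ (Over.pullback g).map j = i := by
    refine Over.OverMorphism.ext (pullback.hom_ext ?_ ?_)
    · simp only [Over.comp_left, Category.assoc, ActBC.pullback_map_left_fst]
      rw [← hφj]
      show hpb.isoPullback.hom ≫ pullback.fst H.hom g ≫ j.left = _
      rw [hpb.isoPullback_hom_fst_assoc]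
    · exact (Over.w (e.hom ≫ (Over.pullback g).map j)).trans (Over.w i).symm
  haveI : IsMonHom e.hom := by
    constructor
    · rw [← cancel_mono ((Over.pullback g).map j), Category.assoc, he, IsMonHom.one_hom, IsMonHom.one_hom]
    · rw [← cancel_mono ((Over.pullback g).map j), Category.assoc, he, Category.assoc, IsMonHom.mul_hom,
        IsMonHom.mul_hom, ← Category.assoc, MonoidalCategory.tensorHom_comp_tensorHom, he]
  exact ⟨(PowEtCentralLib.adjEquiv (G := H) g T).trans (ptsIso e T).symm⟩

variable [Flat H.hom] [LocallyOfFiniteType H.hom] [QuasiCompact H.hom] (hφ : Function.Surjective φ)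
  {B : Over (Spec (CommRingCat.of k))} [GrpObj B] [Smooth B.hom] [ConnectedSpace ↥B.left]
  (r : B ⟶ Red.bc (Spec.map (CommRingCat.ofHom φ)) H) [IsMonHom r] [Mono r]

theorem connected_dp (n : ℕ) : GeometricallyConnected (DP B n).hom := by
  induction n with
  | zero => exact SweepSix.GeomConn.gc_of_isAlgClosed B.hom
  | succ n ih =>
    haveI := ih
    haveI : Smooth (DP B n).hom := inferInstance
    exact GeometricallyConnected.comp (pullback.fst (DP B n).hom (DP B n).hom) (DP B n).hom

theorem connected_cp (n : ℕ) : GeometricallyConnected (CP B n).hom := by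
  induction n with
  | zero => exact SweepSix.GeomConn.gc_of_isAlgClosed B.hom
  | succ n ih =>
    haveI := ih
    haveI : Smooth (CP B n).hom := inferInstance
    haveI : GeometricallyConnected B.hom := SweepSix.GeomConn.gc_of_isAlgClosed B.hom
    exact GeometricallyConnected.comp (pullback.fst (CP B n).hom B.hom) (CP B n).hom

include hpb hφj hφ r in
theorem solvable_special (h : Red.IsSolvableGrp HK) : Red.IsSolvableGrp B := by
  obtain ⟨n, hn⟩ := h
  refine ⟨n, (forall_derivedSeries_iff n).2 ?_⟩
  haveI : Flat (DP H n).hom := dp_prop @Flat ‹_› n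
  haveI : GeometricallyConnected (DP B n).hom := connected_dp n
  haveI : ConnectedSpace ↥(DP B n).left := GeometricallyConnected.connectedSpace_of_subsingleton (DP B n).hom
  let T : Over (Spec (CommRingCat.of K)) :=
    Over.mk (pullback.fst (Spec.map (CommRingCat.ofHom (algebraMap V K))) (DP H n).hom)
  obtain ⟨e⟩ := exists_ptsEquiv j i φH hpb hφj T
  have hgen := (derivedSeries_eq_bot_iff (G := H) _ n).1 ((derivedSeries_congr e n).2 (hn T))
  rw [← cancel_mono r, MonObj.one_comp]
  refine eq_one_core (K := K) hφ H (dw H n)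
    (hgen (snd (Over.mk (Spec.map (CommRingCat.ofHom (algebraMap V K)))) (DP H n))) (dw B n ≫ r) (fun x => ?_) ?_
  · rw [← Category.assoc]
    exact exists_dw_lift ((ptsEquiv _ H).toMonoidHom.comp (ptsMap r _)) n x
  · obtain ⟨x, hx⟩ := exists_dw_one (B := B) (𝟙_ _) n
    exact ⟨x, by rw [← Category.assoc, hx, MonObj.one_comp]⟩

include hpb hφj hφ r in
theorem lcs_special {n : ℕ} (hn : ∀ T : Over (Spec (CommRingCat.of K)), (⊤ : Subgroup (T ⟶ HK)).lowerCentralSeries n = ⊥) :
    ∀ T : Over (Spec (CommRingCat.of k)), (⊤ : Subgroup (T ⟶ B)).lowerCentralSeries n = ⊥ := by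
  refine (forall_lcs_iff n).2 ?_
  haveI : Flat (CP H n).hom := cp_prop @Flat ‹_› n
  haveI : GeometricallyConnected (CP B n).hom := connected_cp n
  haveI : ConnectedSpace ↥(CP B n).left := GeometricallyConnected.connectedSpace_of_subsingleton (CP B n).hom
  let T : Over (Spec (CommRingCat.of K)) :=
    Over.mk (pullback.fst (Spec.map (CommRingCat.ofHom (algebraMap V K))) (CP H n).hom)
  obtain ⟨e⟩ := exists_ptsEquiv j i φH hpb hφj T
  have hgen := (lcs_eq_bot_iff (G := H) _ n).1 ((lcs_congr e n).2 (hn T))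
  rw [← cancel_mono r, MonObj.one_comp]
  refine eq_one_core (K := K) hφ H (cw H n)
    (hgen (snd (Over.mk (Spec.map (CommRingCat.ofHom (algebraMap V K)))) (CP H n))) (cw B n ≫ r) (fun x => ?_) ?_
  · rw [← Category.assoc]
    exact exists_cw_lift ((ptsEquiv _ H).toMonoidHom.comp (ptsMap r _)) n x
  · obtain ⟨x, hx⟩ := exists_cw_one (B := B) (𝟙_ _) n
    exact ⟨x, by rw [← Category.assoc, hx, MonObj.one_comp]⟩

include hpb hφj hφ r in
theorem nilpotent_special (h : AGF.IsNilpotentGrp HK) : AGF.IsNilpotentGrp B := by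
  obtain ⟨n, hn⟩ := h
  exact ⟨n, fun T => (upper_iff_lower n).2
    (lcs_special j i φH hpb hφj hφ r (fun T => (upper_iff_lower n).1 (hn T)) T)⟩

include hpb hφj hφ r in
theorem comm_special (h : IsCommMonObj HK) : IsCommMonObj B :=
  (isCommMonObj_iff_lcs B).2 (lcs_special j i φH hpb hφj hφ r ((isCommMonObj_iff_lcs HK).1 h))

end Transfer

end SubSpecLib
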