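import Groth.Agent.SubSpecLib.Affine
import Groth.Agent.SubSpecLib.Special
import Groth.Agent.S5341
import Groth.Agent.S18082
import Groth.Agent.CommAlgDim.Regular
import Groth.Prelude.Def_ActBC
import Groth.Prelude.Def_AlgGrp

/-! Specialization of subgroups along a regular local ring. -/

set_option autoImplicit false
set_option linter.style.haveILetI false
set_option backward.isDefEq.respectTransparency false
set_option maxHeartbeats 1000000

universe u

open CategoryTheory CategoryTheory.Limits MonoidalCategory CartesianMonoidalCategory AlgebraicGeometry TopologicalSpace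
open scoped MonObj
open Groth.Agent.HomogDense Groth.Agent.GrpField

noncomputable section

attribute [-instance] CategoryTheory.Hom.commGroup

namespace SubSpecLib

section dim

variable {R : Type u} [CommRing R] [IsDomain R] [IsDiscreteValuationRing R] {K : Type u} [Field K] [Algebra R K]
  [IsFractionRing R K] {k : Type u} [Field k] (φ : R →+* k)

theorem dim_special_eq (hφ : Function.Surjective φ) (H : Over (Spec (CommRingCat.of R))) [GrpObj H] [Flat H.hom]
    [LocallyOfFiniteType H.hom] :
    topologicalKrullDim ↥(Red.bc (Spec.map (CommRingCat.ofHom φ)) H).left =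
      topologicalKrullDim ↥(Red.bc (Spec.map (CommRingCat.ofHom (algebraMap R K))) H).left := by
  let p := Spec.map (CommRingCat.ofHom φ)
  let g := Spec.map (CommRingCat.ofHom (algebraMap R K))
  let f := H.hom
  refine le_antisymm (dim_special_le (K := K) φ hφ f) ?_
  haveI : IsClosedImmersion p := IsClosedImmersion.spec_of_surjective _ hφ
  haveI : IsPreimmersion g := IsPreimmersion.of_isLocalization (nonZeroDivisors R)
  let η0 : Spec (CommRingCat.of R) := (⟨⊥, Ideal.isPrime_bot⟩ : PrimeSpectrum R)
  let eK : H.left := η[H].left η0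
  let ek : H.left := η[H].left (IsLocalRing.closedPoint R)
  have hfK : f eK = η0 := hom_unit_apply H η0
  have hfk : f ek = IsLocalRing.closedPoint R := hom_unit_apply H _
  have hsp : eK ⤳ ek :=
    ((PrimeSpectrum.le_iff_specializes η0 (IsLocalRing.closedPoint R)).1 bot_le).map η[H].left.continuous
  obtain ⟨ξ, hξ, hξK⟩ := exists_isMax_specializes eK
  have hfξ : f ξ = η0 := by
    have h := hξK.map f.continuous
    rw [hfK] at h
    exact PrimeSpectrum.ext (le_bot_iff.1 ((PrimeSpectrum.le_iff_specializes _ _).2 h))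
  let C : Closeds H.left := ⟨closure {ξ}, isClosed_closure⟩
  let X := (Scheme.IdealSheafData.vanishingIdeal C).subscheme
  let ιX : X ⟶ H.left := (Scheme.IdealSheafData.vanishingIdeal C).subschemeι
  have hrange : Set.range ιX = closure {ξ} := by
    rw [Scheme.IdealSheafData.range_subschemeι, Scheme.IdealSheafData.coe_support_vanishingIdeal]
    rfl
  haveI : IrreducibleSpace ↥X := by
    haveI : IrreducibleSpace ↥(Set.range ιX) :=
      isIrreducible_iff_irreducibleSpace.1 (hrange ▸ isIrreducible_singleton.closure)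
    exact ιX.isEmbedding.toHomeomorph.irreducibleSpace_iff.2 inferInstance
  let fX := ιX ≫ f
  haveI : Surjective fX := ⟨fun s => by
    by_cases hs : s.asIdeal = ⊥
    · obtain ⟨x, hx⟩ : ξ ∈ Set.range ιX := hrange ▸ subset_closure rfl
      exact ⟨x, by rw [Scheme.Hom.comp_apply, hx, hfξ]; exact PrimeSpectrum.ext hs.symm⟩
    · obtain ⟨x, hx⟩ : ek ∈ Set.range ιX := hrange ▸ (hξK.trans hsp).mem_closure
      refine ⟨x, ?_⟩
      rw [Scheme.Hom.comp_apply, hx, hfk]
      exact PrimeSpectrum.ext (IsLocalRing.eq_maximalIdeal (Ideal.IsPrime.isMaximal s.isPrime hs)).symm⟩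
  have hemb : ∀ {F : Type u} [Field F] (q : Spec (CommRingCat.of F) ⟶ Spec (CommRingCat.of R)) [IsPreimmersion q],
      Topology.IsEmbedding (pullback.map fX q f q ιX (𝟙 _) (𝟙 _) (Category.comp_id _) rfl).base := by
    intro F _ q _
    refine Topology.IsEmbedding.of_comp (pullback.map fX q f q ιX (𝟙 _) (𝟙 _) (Category.comp_id _) rfl).continuous
      (pullback.fst f q).continuous ?_
    have h : (pullback.fst f q).base ∘ (pullback.map fX q f q ιX (𝟙 _) (𝟙 _) (Category.comp_id _) rfl).base =
        ιX.base ∘ (pullback.fst fX q).base := funext fun z => by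
      simp only [Function.comp_apply, ← Scheme.Hom.comp_apply]
      rw [pullback.lift_fst]
    exact h ▸ ιX.isEmbedding.comp (pullback.fst fX q).isEmbedding
  -- the special fibre of `X`
  obtain ⟨x₀, hx₀⟩ : ek ∈ Set.range ιX := hrange ▸ (hξK.trans hsp).mem_closure
  have hmem : IsLocalRing.closedPoint R = p (IsLocalRing.closedPoint k) := (sp_closedPoint φ hφ).symm
  obtain ⟨x', -, -⟩ := Scheme.Pullback.exists_preimage_pullback x₀ (IsLocalRing.closedPoint k)
    (f := fX) (g := p) (by rw [Scheme.Hom.comp_apply, hx₀, hfk, hmem])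
  obtain ⟨Z', hZ', -⟩ := exists_mem_irreducibleComponents_subset_of_isIrreducible (closure {x'})
    isIrreducible_singleton.closure
  have h1 : topologicalKrullDim ↥(pullback fX g) ≤ topologicalKrullDim ↥(pullback f p) := by
    rw [← dim_special_component (K := K) φ hφ fX Z' hZ']
    exact ((hemb p).comp Topology.IsEmbedding.subtypeVal).isInducing.topologicalKrullDim_le
  refine le_trans ?_ h1
  -- the component of the generic fibre
  haveI : LocallyOfFiniteType (Red.bc g H).hom := MorphismProperty.pullback_snd (P := @LocallyOfFiniteType) _ _ ‹_›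
  obtain ⟨w, hw, -⟩ := Scheme.Pullback.exists_preimage_pullback ξ (IsLocalRing.closedPoint K)
    (f := f) (g := g) (by rw [hfξ]; exact (gp_closedPoint R K).symm)
  have hmax : ∀ z, z ⤳ w → z = w := fun z hz => (pullback.fst f g).isEmbedding.injective (by
    rw [hw]
    exact hξ _ (hw ▸ hz.map (pullback.fst f g).continuous))
  have hZ : closure {w} ∈ irreducibleComponents ↥(Red.bc g H).left :=
    FibDimLib.closure_mem_irreducibleComponents_of_max hmax
  rw [← (Groth.Agent.S5341.result K (Red.bc g H)).1 _ hZ]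
  have hsub : closure {w} ⊆ Set.range (pullback.map fX g f g ιX (𝟙 _) (𝟙 _) (Category.comp_id _) rfl).base := by
    have hr : Set.range (pullback.map fX g f g ιX (𝟙 _) (𝟙 _) (Category.comp_id _) rfl).base =
        pullback.fst f g ⁻¹' closure {ξ} := by
      rw [Scheme.Pullback.range_map, hrange]
      simp
    rw [hr]
    exact closure_minimal (Set.singleton_subset_iff.2 (by
      show pullback.fst f g w ∈ closure {ξ}
      rw [hw]; exact subset_closure rfl)) (isClosed_closure.preimage (pullback.fst f g).continuous)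
  refine le_trans (Topology.IsEmbedding.inclusion hsub).isInducing.topologicalKrullDim_le ?_
  exact ((hemb g).toHomeomorph.isHomeomorph.topologicalKrullDim_eq).ge

end dim

section normal

variable {R : Type u} [CommRing R] [IsDomain R] [IsDiscreteValuationRing R] {K : Type u} [Field K] [Algebra R K]
  [IsFractionRing R K] {G : Over (Spec (CommRingCat.of R))} [GrpObj G] [Flat G.hom]
  {H : Over (Spec (CommRingCat.of R))} [GrpObj H] [Flat H.hom] (j : H ⟶ G) [IsClosedImmersion j.left]
  {HK : Over (Spec (CommRingCat.of K))} [GrpObj HK]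
  (i : HK ⟶ Red.bc (gp R K) G) [IsMonHom i] [IsClosedImmersion i.left]
  (φH : HK.left ⟶ H.left) (hpb : IsPullback φH HK.hom H.hom (gp R K)) (hφj : φH ≫ j.left = u₀ G HK i)

include hpb hφj in
theorem isNormalHom_closure (hker : φH.ker = ⊥) (hn : AlgGrp.IsNormalHom i) : AlgGrp.IsNormalHom j := by
  haveI : IsPreimmersion (gp R K) := IsPreimmersion.of_isLocalization (nonZeroDivisors R)
  haveI : Flat (gp R K) := flat_gp R K
  haveI : QuasiCompact φH := MorphismProperty.of_isPullback hpb.flip (inferInstance : QuasiCompact (gp R K))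
  let φo : HR HK ⟶ H := Over.homMk φH hpb.w
  haveI : IsSchemeTheoreticallyDominant φo.left := ⟨hker⟩
  haveI : QuasiCompact φo.left := ‹QuasiCompact φH›
  have hφo : φo ≫ j = uo G HK i := Over.OverMorphism.ext hφj
  haveI : Flat (snd G H).left := TorsExtLib.property_snd (Q := @Flat) G H ‹_›
  haveI := TorsExtLib.dominant_whiskerLeft G φo
  let c : G ⊗ H ⟶ G := fst G H * (snd G H ≫ j) * (fst G H)⁻¹
  let a : G ⊗ HR HK ⟶ HR HK := snd G (HR HK)
  let az : TK a ⟶ HK := Over.homMk a.left rfl
  obtain ⟨z, hz⟩ := hn (TK a) (unitK a ≫ (Over.pullback (gp R K)).map (fst G (HR HK))) az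
  have hc : (G ◁ φo) ≫ c = fst G (HR HK) * (a ≫ uo G HK i) * (fst G (HR HK))⁻¹ := by
    simp only [c, a, MonObj.comp_mul, GrpObj.comp_inv, whiskerLeft_fst, whiskerLeft_snd_assoc, hφo]
  have hz' : ((G ◁ φo) ≫ c).left = z.left ≫ u₀ G HK i := by
    refine unitK_map_fst i a _ z ?_
    rw [hc, Functor.map_mul, Functor.map_mul, MonObj.comp_mul, MonObj.comp_mul, unitK_map i a a, ← hz]
    congr 1
    refine eq_inv_of_mul_eq_one_left ?_
    rw [← MonObj.comp_mul, ← Functor.map_mul, inv_mul_cancel, Functor.map_one, MonObj.comp_one]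
  have hle : j.left.ker ≤ c.left.ker := by
    have h1 : (z.left ≫ u₀ G HK i).ker = c.left.ker := by
      rw [← hz', Over.comp_left, AlgSpRegLib.ker_comp_dominant]
    have h2 : (u₀ G HK i).ker = j.left.ker := by
      rw [← hφj]
      haveI : IsSchemeTheoreticallyDominant φH := ⟨hker⟩
      rw [AlgSpRegLib.ker_comp_dominant]
    rw [← h1, ← h2]
    exact Scheme.Hom.le_ker_comp _ _
  let l : G ⊗ H ⟶ H := Over.homMk (IsClosedImmersion.lift j.left c.left hle)
    (by rw [← Over.w j, ← Category.assoc, IsClosedImmersion.lift_fac, Over.w c])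
  have hl : l ≫ j = c := Over.OverMorphism.ext (IsClosedImmersion.lift_fac _ _ _)
  intro T g n
  refine ⟨lift g n ≫ l, ?_⟩
  rw [Category.assoc, hl]
  simp only [c, MonObj.comp_mul, GrpObj.comp_inv, lift_fst, lift_snd_assoc]

end normal

theorem isNormalHom_bc {S S' : Scheme.{u}} (p : S' ⟶ S) {H G : Over S} [GrpObj H] [GrpObj G] (i : H ⟶ G) [IsMonHom i]
    (hn : AlgGrp.IsNormalHom i) : AlgGrp.IsNormalHom ((Over.pullback p).map i) := by
  intro T g n
  let eG := PowEtCentralLib.adjEquiv (G := G) p T
  let eH := PowEtCentralLib.adjEquiv (G := H) p T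
  obtain ⟨n', hn'⟩ := hn _ (eG.symm g) (eH.symm n)
  have hnat : ∀ x, eG (x ≫ i) = eH x ≫ (Over.pullback p).map i := fun x =>
    Adjunction.homEquiv_naturality_right (Over.mapPullbackAdj p) x i
  refine ⟨eH n', ?_⟩
  rw [← hnat, ← hn', map_mul, map_mul, map_inv, hnat, eG.apply_symm_apply, eH.apply_symm_apply]

theorem isNormalHom_iso {S : Scheme.{u}} {H G G' : Over S} [GrpObj H] [GrpObj G] [GrpObj G'] (i : H ⟶ G)
    (e : G ≅ G') [IsMonHom e.hom] (hn : AlgGrp.IsNormalHom i) : AlgGrp.IsNormalHom (i ≫ e.hom) := by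
  intro T g n
  obtain ⟨n', hn'⟩ := hn T (g ≫ e.inv) n
  refine ⟨n', ?_⟩
  have h := congrArg (ptsIso e T) hn'
  rw [map_mul, map_mul, map_inv] at h
  simpa [ptsIso] using h

end SubSpecLib
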