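import Groth.Prelude
import Groth.Agent.BorelLib.RedUnip
import Groth.Agent.IsogWordLib.Unip
import Groth.Agent.TorsExtLib.Main
import Groth.Agent.AlgSpLib.ReducedSmooth
import Groth.Agent.MiscFlat6.EqualizerDom
import Mathlib.Algebra.Group.ForwardDiff

/-! Unipotence through iterated differences of functions along powers. -/

set_option autoImplicit false
set_option linter.style.haveILetI false
set_option linter.unusedSectionVars false
set_option backward.isDefEq.respectTransparency false
set_option maxHeartbeats 1000000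
set_option synthInstance.maxHeartbeats 400000

universe u

open CategoryTheory CategoryTheory.Limits MonoidalCategory CartesianMonoidalCategory AlgebraicGeometry WithConv
open scoped MonObj
open CoactBr (sp)

noncomputable section

attribute [-instance] CategoryTheory.Hom.commGroup

namespace SubSpecLib.Unip

open Groth.Agent Groth.Agent.BorelLib
attribute [local instance] pTop pTopTensor

theorem fwdDiff_iter_map {A B : Type*} [AddCommGroup A] [AddCommGroup B] {F : Type*} [FunLike F A B]
    [AddMonoidHomClass F A B] (ψ : F) (a : ℕ → A) :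
    ∀ N : ℕ, ((fwdDiff (1 : ℕ))^[N] (fun i => ψ (a i))) = fun i => ψ (((fwdDiff (1 : ℕ))^[N] a) i)
  | 0 => rfl
  | N + 1 => by
    rw [Function.iterate_succ_apply', fwdDiff_iter_map ψ a N, Function.iterate_succ_apply']
    funext i
    simp [fwdDiff, map_sub]

theorem fwdDiff_iter_zero_of_le {A : Type*} [AddCommGroup A] {a : ℕ → A} {N M : ℕ} (h : (fwdDiff (1 : ℕ))^[N] a = 0)
    (hNM : N ≤ M) : (fwdDiff (1 : ℕ))^[M] a = 0 := by
  obtain ⟨j, rfl⟩ := Nat.exists_eq_add_of_le hNM
  rw [Nat.add_comm, Function.iterate_add_apply, h]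
  induction j with
  | zero => rfl
  | succ j ih =>
    rw [Function.iterate_succ_apply', ih (Nat.le_add_right _ _)]
    funext i
    simp [fwdDiff]

/-- A periodic sequence killed by a difference operator is constant when the period is invertible. -/
theorem eq_of_periodic {A : Type*} [CommRing A] {n : ℕ} (hn : IsUnit (n : A)) :
    ∀ (N : ℕ) (a : ℕ → A), (∀ i, a (i + n) = a i) → (fwdDiff (1 : ℕ))^[N] a = 0 → ∀ i, a i = a 0
  | 0, a, _, h, i => by
    have h1 := congrFun h i
    have h2 := congrFun h 0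
    simp only [Function.iterate_zero, id_eq, Pi.zero_apply] at h1 h2
    rw [h1, h2]
  | N + 1, a, hp, h, i => by
    rw [Function.iterate_succ_apply] at h
    have hb : ∀ j, fwdDiff 1 a j = fwdDiff 1 a 0 :=
      eq_of_periodic hn N (fwdDiff 1 a) (fun j => by simp [fwdDiff, Nat.add_right_comm j n 1, hp]) h
    have hlin : ∀ j, a j = a 0 + j * fwdDiff 1 a 0 := fun j => by
      induction j with
      | zero => simp
      | succ j ih =>
        have := hb j
        simp only [fwdDiff] at this ih ⊢
        push_cast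
        linear_combination this + ih
    have hc : fwdDiff 1 a 0 = 0 := by
      have := hp 0
      rw [Nat.zero_add, hlin n, add_eq_left] at this
      exact hn.mul_right_eq_zero.1 this
    rw [hlin i, hc, mul_zero, add_zero]

variable {S : Scheme.{u}}

/-- The translates of a function along the powers. -/
def powSeq (H : Over S) [GrpObj H] (f : Γ(H.left, ⊤)) (i : ℕ) : Γ(H.left, ⊤) := ((𝟙 H) ^ i).left.appTop f

/-- A function killed by an iterated difference along powers. -/
def IsUnipFun (H : Over S) [GrpObj H] (f : Γ(H.left, ⊤)) : Prop := ∃ N : ℕ, (fwdDiff (1 : ℕ))^[N] (powSeq H f) = 0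

/-- Every function is killed by an iterated difference along powers. -/
def IsUnipGrp (H : Over S) [GrpObj H] : Prop := ∀ f, IsUnipFun H f

theorem isUnipFun_add (H : Over S) [GrpObj H] {f g : Γ(H.left, ⊤)} (hf : IsUnipFun H f) (hg : IsUnipFun H g) :
    IsUnipFun H (f + g) := by
  obtain ⟨N, hN⟩ := hf
  obtain ⟨M, hM⟩ := hg
  refine ⟨max N M, ?_⟩
  rw [show powSeq H (f + g) = powSeq H f + powSeq H g from funext fun i => map_add _ _ _, fwdDiff_iter_add,
    fwdDiff_iter_zero_of_le hN (le_max_left _ _), fwdDiff_iter_zero_of_le hM (le_max_right _ _), add_zero]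

theorem isUnipFun_zero (H : Over S) [GrpObj H] : IsUnipFun H 0 :=
  ⟨0, funext fun _ => map_zero _⟩

theorem isUnipFun_mul_const (H : Over S) [GrpObj H] {f : Γ(H.left, ⊤)} (c : Γ(S, ⊤)) (hf : IsUnipFun H f) :
    IsUnipFun H (f * H.hom.appTop c) := by
  obtain ⟨N, hN⟩ := hf
  refine ⟨N, ?_⟩
  have he : powSeq H (f * H.hom.appTop c) = fun i => AddMonoidHom.mulRight (H.hom.appTop c) (powSeq H f i) := by
    funext i
    show ((𝟙 H) ^ i).left.appTop (f * H.hom.appTop c) = _
    rw [map_mul, ← CommRingCat.comp_apply H.hom.appTop, ← Scheme.Hom.comp_appTop, Over.w]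
    rfl
  rw [he, fwdDiff_iter_map (AddMonoidHom.mulRight (H.hom.appTop c)) (powSeq H f) N, hN]
  funext i
  simp

/-- Along a map commuting with powers. -/
theorem isUnipFun_map {S' : Scheme.{u}} {H : Over S} [GrpObj H] {H' : Over S'} [GrpObj H'] (φ : H'.left ⟶ H.left)
    (hφ : ∀ i : ℕ, ((𝟙 H') ^ i).left ≫ φ = φ ≫ ((𝟙 H) ^ i).left) {f : Γ(H.left, ⊤)} (hf : IsUnipFun H f) :
    IsUnipFun H' (φ.appTop f) := by
  obtain ⟨N, hN⟩ := hf
  refine ⟨N, ?_⟩
  have he : powSeq H' (φ.appTop f) = fun i => φ.appTop.hom (powSeq H f i) := by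
    funext i
    show ((𝟙 H') ^ i).left.appTop (φ.appTop f) = φ.appTop (((𝟙 H) ^ i).left.appTop f)
    rw [← CommRingCat.comp_apply, ← CommRingCat.comp_apply, ← Scheme.Hom.comp_appTop, ← Scheme.Hom.comp_appTop, hφ]
  rw [he, fwdDiff_iter_map φ.appTop.hom (powSeq H f) N, hN]
  funext i
  simp

theorem isUnipFun_of_map {S' : Scheme.{u}} {H : Over S} [GrpObj H] {H' : Over S'} [GrpObj H'] (φ : H'.left ⟶ H.left)
    (hφ : ∀ i : ℕ, ((𝟙 H') ^ i).left ≫ φ = φ ≫ ((𝟙 H) ^ i).left) (hinj : Function.Injective φ.appTop)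
    {f : Γ(H.left, ⊤)} (hf : IsUnipFun H' (φ.appTop f)) : IsUnipFun H f := by
  obtain ⟨N, hN⟩ := hf
  refine ⟨N, funext fun i => hinj ?_⟩
  have he : powSeq H' (φ.appTop f) = fun i => φ.appTop.hom (powSeq H f i) := by
    funext i
    show ((𝟙 H') ^ i).left.appTop (φ.appTop f) = φ.appTop (((𝟙 H) ^ i).left.appTop f)
    rw [← CommRingCat.comp_apply, ← CommRingCat.comp_apply, ← Scheme.Hom.comp_appTop, ← Scheme.Hom.comp_appTop, hφ]
  rw [he, fwdDiff_iter_map φ.appTop.hom (powSeq H f) N] at hN
  rw [Pi.zero_apply, map_zero]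
  exact congrFun hN i

theorem hom_pow_comm {H H' : Over S} [GrpObj H] [GrpObj H'] (φ : H' ⟶ H) [IsMonHom φ] (i : ℕ) :
    ((𝟙 H') ^ i).left ≫ φ.left = φ.left ≫ ((𝟙 H) ^ i).left := by
  rw [← Over.comp_left, ← Over.comp_left, MonObj.pow_comp, MonObj.comp_pow, Category.id_comp, Category.comp_id]

theorem bc_pow_comm {S' : Scheme.{u}} (p : S' ⟶ S) (H : Over S) [GrpObj H] (i : ℕ) :
    ((𝟙 (Red.bc p H)) ^ i).left ≫ pullback.fst H.hom p = pullback.fst H.hom p ≫ ((𝟙 H) ^ i).left := by
  have e : (Over.pullback p).map ((𝟙 H) ^ i) = (𝟙 (Red.bc p H)) ^ i := by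
    induction i with
    | zero => rw [pow_zero, pow_zero, Functor.map_one]
    | succ i ih => rw [pow_succ, pow_succ, Functor.map_mul, ih, CategoryTheory.Functor.map_id]
  rw [← e]
  exact ActBC.pullback_map_left_fst p ((𝟙 H) ^ i)

/-- Functions killed by differences agree at the unit and at torsion points of invertible order. -/
theorem appTop_eq_of_torsion {H : Over S} [GrpObj H] {f : Γ(H.left, ⊤)} (hf : IsUnipFun H f) {T : Over S}
    (x : T ⟶ H) {n : ℕ} (hn : IsUnit (n : Γ(T.left, ⊤))) (hx : x ^ n = 1) :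
    x.left.appTop f = (1 : T ⟶ H).left.appTop f := by
  obtain ⟨N, hN⟩ := hf
  have hD : (fwdDiff (1 : ℕ))^[N] (fun i => x.left.appTop.hom (powSeq H f i)) = 0 := by
    rw [fwdDiff_iter_map x.left.appTop.hom (powSeq H f) N, hN]
    funext i
    simp
  have he : ∀ i : ℕ, x.left.appTop.hom (powSeq H f i) = (x ^ i).left.appTop f := fun i => by
    show x.left.appTop (((𝟙 H) ^ i).left.appTop f) = _
    rw [← CommRingCat.comp_apply, ← Scheme.Hom.comp_appTop, ← Over.comp_left, MonObj.comp_pow, Category.comp_id]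
  have h := eq_of_periodic hn N _ (fun i => by rw [he, he, pow_add, hx, mul_one]) hD 1
  rwa [he, he, pow_one, pow_zero] at h

/-- A section vanishing at all rational points of a reduced scheme of finite type vanishes. -/
theorem eq_zero_of_points {k : Type u} [Field k] [IsAlgClosed k] (X : Over (Spec (CommRingCat.of k)))
    [LocallyOfFiniteType X.hom] [_root_.AlgebraicGeometry.IsReduced X.left] (f : Γ(X.left, ⊤))
    (h : ∀ x : 𝟙_ (Over (Spec (CommRingCat.of k))) ⟶ X, x.left.appTop f = 0) : f = 0 := by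
  haveI : JacobsonSpace X.left := LocallyOfFiniteType.jacobsonSpace X.hom
  rw [← basicOpen_eq_bot_iff]
  refine SetLike.coe_injective (Set.eq_empty_iff_forall_notMem.2 fun y hy => ?_)
  obtain ⟨z, hz, hzc⟩ := nonempty_inter_closedPoints (Z := ((X.left.basicOpen f : X.left.Opens) : Set X.left))
    ⟨y, hy⟩ (X.left.basicOpen f).isOpen.isLocallyClosed
  let x : 𝟙_ (Over (Spec (CommRingCat.of k))) ⟶ X :=
    Over.homMk (pointOfClosedPoint X.hom z hzc) (pointOfClosedPoint_comp _ _ _)
  have hmem : (IsLocalRing.closedPoint k : PrimeSpectrum k) ∈ x.left ⁻¹ᵁ X.left.basicOpen f := by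
    show pointOfClosedPoint X.hom z hzc (IsLocalRing.closedPoint k) ∈ X.left.basicOpen f
    rw [pointOfClosedPoint_apply]
    exact hz
  rw [Scheme.preimage_basicOpen] at hmem
  have h0 : x.left.app ⊤ f = 0 := h x
  rw [h0, Scheme.basicOpen_zero] at hmem
  exact hmem.elim

theorem pow_finrank_eq_zero {k V : Type u} [Field k] [AddCommGroup V] [Module k V] [FiniteDimensional k V]
    (T : Module.End k V) {N : ℕ} (h : T ^ N = 0) : T ^ Module.finrank k V = 0 := by
  have hc := LinearMap.aeval_self_charpoly T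
  rwa [(IsNilpotent.charpoly_eq_X_pow_finrank (φ := T) ⟨N, h⟩), map_pow, Polynomial.aeval_X] at hc

theorem fwdDiff_iter_pow_apply {k V : Type u} [Field k] [AddCommGroup V] [Module k V] (T : Module.End k V) (v : V) :
    ∀ N : ℕ, (fwdDiff (1 : ℕ))^[N] (fun i : ℕ => (T ^ i) v) = fun i => ((T - 1) ^ N) ((T ^ i) v)
  | 0 => rfl
  | N + 1 => by
    rw [Function.iterate_succ_apply', fwdDiff_iter_pow_apply T v N]
    funext i
    rw [fwdDiff, pow_succ' T i, Module.End.mul_apply, pow_succ (T - 1) N, Module.End.mul_apply,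
      LinearMap.sub_apply, Module.End.one_apply, map_sub]

section Points

variable {k : Type u} [Field k] [IsAlgClosed k]

/-- All functions on a connected affine group without subtorus are killed by differences. -/
theorem isUnipGrp_of_hasNoSubtorus (U : Over (Spec (CommRingCat.of k))) [GrpObj U] [IsAffine U.left] [Smooth U.hom]
    [ConnectedSpace U.left] (h : Red.HasNoSubtorus k U) : IsUnipGrp U := by
  obtain ⟨A, _, _, v, hv, hA, -⟩ := exists_setup U
  haveI := hv
  haveI := hA
  haveI : _root_.AlgebraicGeometry.IsReduced U.left := AlgSpLib.isReduced_of_smooth U.hom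
  have huni := IsogWordLib.forall_uni v h
  intro f
  let a : A := (Scheme.ΓSpecIso (CommRingCat.of A)).hom (v.hom.left.appTop f)
  obtain ⟨W, hW, hFW, hsub⟩ := HopfFF.exists_finite_subcomod (k := k) ({a} : Finset A)
  letI := HopfFF.selfComod (k := k) (A := A)
  let r : RegRep (⊤ : Subgroup (Pt k A)) A :=
    { ρ := fun g => LieKolchinLib.rep A g
      map_one := map_one _
      map_mul := fun g _ h _ => map_mul _ g h
      reg := fun φ v => ⟨ComodLib.coeff (A := A) φ v, fun g => LieKolchinLib.apply_rep φ g v⟩ }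
  have hs : r.Stable ⊤ W := fun g _ w hw => by
    obtain ⟨t, ht⟩ := hsub w hw
    show ComodLib.slice (LieKolchinLib.fn g).ofConv (CoalgebraStruct.comul (R := k) w) ∈ W
    rw [← ht]
    clear ht
    induction t using TensorProduct.induction_on with
    | zero => simp
    | add a b ha hb => rw [map_add, map_add]; exact W.add_mem ha hb
    | tmul a b => simpa using W.smul_mem _ a.2
  obtain ⟨r₁, hr₁⟩ := r.exists_sub hs
  let a₁ : W := ⟨a, hFW a (Finset.mem_singleton_self a)⟩
  let L : W →ₗ[k] k := (CoalgebraStruct.counit (R := k) (A := A)) ∘ₗ W.subtype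
  have hev : ∀ g : Pt k A, g.ofConv a = L (r₁.ρ g a₁) := fun g => by
    show _ = CoalgebraStruct.counit (R := k) ((r₁.ρ g a₁ : W) : A)
    rw [hr₁ g trivial a₁]
    have := LieKolchinLib.apply_rep (A := A) (V := A) (CoalgebraStruct.counit (R := k)) g a
    rw [ComodLib.coeff_counit] at this
    exact this.symm
  refine ⟨Module.finrank k W, funext fun i => eq_zero_of_points U _ fun y => ?_⟩
  let x : Pt k A := (ptEquiv v).symm y
  let w₀ := (Groth.Agent.HopfPoints.exists_unit_hom (k := k)).some
  let ψ : k →+* Γ((𝟙_ (Over (Spec (CommRingCat.of k)))).left, ⊤) :=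
    w₀.left.appTop.hom.comp (Scheme.ΓSpecIso (CommRingCat.of k)).inv.hom
  have hval : ∀ g : Pt k A, (ptEquiv v g).left.appTop f = ψ (g.ofConv a) := fun g => by
    show ((toRPt v g).left).appTop f = _
    simp only [toRPt, Over.comp_left, Scheme.Hom.comp_appTop, CommRingCat.comp_apply, CoactBr.pt_left, ψ,
      RingHom.comp_apply]
    congr 1
    have hn := Scheme.ΓSpecIso_inv_naturality (CommRingCat.ofHom g.ofConv.toRingHom)
    have h1 := congrArg (fun m => m.hom a) hn
    refine Eq.trans ?_ h1.symm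
    show _ = (Spec.map (CommRingCat.ofHom g.ofConv.toRingHom)).appTop
      ((Scheme.ΓSpecIso (CommRingCat.of A)).inv a)
    simp only [a, Iso.hom_inv_id_apply]
    rfl
  have hT : (r₁.ρ x - 1) ^ Module.finrank k W = 0 := by
    obtain ⟨N, hN⟩ := huni x W r₁
    exact pow_finrank_eq_zero _ hN
  have hpow : ∀ j : ℕ, r₁.ρ (x ^ j) = r₁.ρ x ^ j := fun j => by
    induction j with
    | zero => rw [pow_zero, pow_zero, r₁.map_one]
    | succ j ih => rw [pow_succ, pow_succ, r₁.map_mul _ trivial _ trivial, ih]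
  have hseq : (fun j => y.left.appTop.hom (powSeq U f j)) =
      fun j => (ψ.toAddMonoidHom.comp L.toAddMonoidHom) ((r₁.ρ x ^ j) a₁) := by
    funext j
    show y.left.appTop (((𝟙 U) ^ j).left.appTop f) = _
    rw [← CommRingCat.comp_apply, ← Scheme.Hom.comp_appTop, ← Over.comp_left, MonObj.comp_pow, Category.comp_id,
      show y ^ j = ptEquiv v (x ^ j) by rw [map_pow, MulEquiv.apply_symm_apply], hval, hev, hpow]
    rfl
  have key := congrFun (fwdDiff_iter_map y.left.appTop.hom (powSeq U f) (Module.finrank k W)) i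
  rw [hseq, fwdDiff_iter_map (ψ.toAddMonoidHom.comp L.toAddMonoidHom) (fun j => (r₁.ρ x ^ j) a₁),
    fwdDiff_iter_pow_apply, hT] at key
  simpa using key.symm

end Points

end SubSpecLib.Unip
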