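import Groth.Agent.SubSpecLib.UnipCore
import Groth.Agent.SubSpecLib.Hull
import Groth.Agent.SubSpecLib.Closure

/-! Functions killed by differences under base change and density. -/

set_option autoImplicit false
set_option linter.style.haveILetI false
set_option linter.unusedSectionVars false
set_option backward.isDefEq.respectTransparency false
set_option maxHeartbeats 1000000
set_option synthInstance.maxHeartbeats 400000

universe u

open CategoryTheory CategoryTheory.Limits MonoidalCategory CartesianMonoidalCategory AlgebraicGeometry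
open scoped MonObj

noncomputable section

attribute [-instance] CategoryTheory.Hom.commGroup

namespace SubSpecLib.Unip

theorem fwdDiff_iter_mul_zero {A : Type*} [CommRing A] :
    ∀ (n N M : ℕ) (a b : ℕ → A), N + M = n → (fwdDiff (1 : ℕ))^[N] a = 0 → (fwdDiff (1 : ℕ))^[M] b = 0 →
      (fwdDiff (1 : ℕ))^[n] (a * b) = 0
  | 0, N, M, a, b, h, ha, hb => by
    obtain rfl : N = 0 := by omega
    rw [Function.iterate_zero, id_eq] at ha ⊢
    rw [ha, zero_mul]
  | n + 1, N, M, a, b, h, ha, hb => by
    rcases Nat.eq_zero_or_pos N with rfl | hN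
    · rw [Function.iterate_zero, id_eq] at ha
      rw [ha, zero_mul]
      exact fwdDiff_iter_zero_of_le (N := 0) rfl (Nat.zero_le _)
    rcases Nat.eq_zero_or_pos M with rfl | hM
    · rw [Function.iterate_zero, id_eq] at hb
      rw [hb, mul_zero]
      exact fwdDiff_iter_zero_of_le (N := 0) rfl (Nat.zero_le _)
    have e : fwdDiff (1 : ℕ) (a * b) = fwdDiff (1 : ℕ) a * (fun i => b (i + 1)) + a * fwdDiff (1 : ℕ) b := by
      funext i
      simp only [fwdDiff, Pi.mul_apply, Pi.add_apply]
      ring
    rw [Function.iterate_succ_apply, e, fwdDiff_iter_add,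
      fwdDiff_iter_mul_zero n (N - 1) M _ _ (by omega)
        (by rw [← Function.iterate_succ_apply (fwdDiff (1 : ℕ)), Nat.succ_eq_add_one, Nat.sub_add_cancel hN, ha])
        (funext fun i => by rw [fwdDiff_iter_comp_add, hb]; rfl),
      fwdDiff_iter_mul_zero n N (M - 1) _ _ (by omega) ha
        (by rw [← Function.iterate_succ_apply (fwdDiff (1 : ℕ)), Nat.succ_eq_add_one, Nat.sub_add_cancel hM, hb]),
      add_zero]

variable {S : Scheme.{u}}

theorem isUnipFun_mul (H : Over S) [GrpObj H] {f g : Γ(H.left, ⊤)} (hf : IsUnipFun H f) (hg : IsUnipFun H g) :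
    IsUnipFun H (f * g) := by
  obtain ⟨N, hN⟩ := hf
  obtain ⟨M, hM⟩ := hg
  refine ⟨N + M, ?_⟩
  rw [show powSeq H (f * g) = powSeq H f * powSeq H g from funext fun i => map_mul _ _ _]
  exact fwdDiff_iter_mul_zero _ N M _ _ rfl hN hM

theorem isUnipFun_const (H : Over S) [GrpObj H] (c : Γ(S, ⊤)) : IsUnipFun H (H.hom.appTop c) := by
  refine ⟨1, funext fun i => ?_⟩
  have he : ∀ j, powSeq H (H.hom.appTop c) j = H.hom.appTop c := fun j => by
    show ((𝟙 H) ^ j).left.appTop (H.hom.appTop c) = _
    rw [← CommRingCat.comp_apply, ← Scheme.Hom.comp_appTop, Over.w]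
  rw [Function.iterate_one, fwdDiff, he, he, sub_self]
  rfl

/-- All functions are killed on the base change of a group over a field to a larger field. -/
theorem isUnipGrp_bc {k K : Type u} [Field k] [Field K] (q : Spec (CommRingCat.of K) ⟶ Spec (CommRingCat.of k))
    (H : Over (Spec (CommRingCat.of k))) [GrpObj H] [QuasiCompact H.hom] [QuasiSeparated H.hom]
    (h : IsUnipGrp H) : IsUnipGrp (Red.bc q H) := by
  let Y : Over (Spec (CommRingCat.of k)) := Over.mk q
  haveI : QuasiCompact Y.hom := inferInstanceAs (QuasiCompact q)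
  haveI : QuasiSeparated Y.hom := inferInstanceAs (QuasiSeparated q)
  haveI : Flat H.hom := inferInstance
  haveI : Flat Y.hom := inferInstance
  have hp := Hull.isPushout_appTop H Y
  have htop := CommRingCat.closure_range_union_range_eq_top_of_isPushout hp
  intro f
  have hf : f ∈ Subring.closure (Set.range (fst H Y).left.appTop ∪ Set.range (snd H Y).left.appTop) :=
    htop ▸ Subring.mem_top _
  induction hf using Subring.closure_induction with
  | mem x hx =>
    rcases hx with ⟨a, rfl⟩ | ⟨c, rfl⟩
    · exact isUnipFun_map (H' := Red.bc q H) (pullback.fst H.hom q) (bc_pow_comm q H) (h a)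
    · exact isUnipFun_const (Red.bc q H) c
  | zero => exact isUnipFun_zero _
  | one => exact (map_one (Red.bc q H).hom.appTop.hom) ▸ isUnipFun_const (Red.bc q H) 1
  | add x y _ _ hx hy => exact isUnipFun_add _ hx hy
  | neg x _ hx =>
    have := isUnipFun_mul _ hx (isUnipFun_const (Red.bc q H) (-1))
    rwa [map_neg, map_one, mul_neg, mul_one] at this
  | mul x y _ _ hx hy => exact isUnipFun_mul _ hx hy

/-- Being killed by differences descends along a dominant base change of a flat group. -/
theorem isUnipGrp_of_bc_dominant {S' : Scheme.{u}} (p : S' ⟶ S) [IsSchemeTheoreticallyDominant p] [QuasiCompact p]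
    (H : Over S) [GrpObj H] [Flat H.hom] (h : IsUnipGrp (Red.bc p H)) : IsUnipGrp H := by
  haveI : IsSchemeTheoreticallyDominant (pullback.fst H.hom p) :=
    IsSchemeTheoreticallyDominant.of_isPullback (IsPullback.of_hasPullback H.hom p).flip
  intro f
  exact isUnipFun_of_map (H' := Red.bc p H) (pullback.fst H.hom p) (bc_pow_comm p H)
    ((pullback.fst H.hom p).app_injective ⊤) (h _)

/-- Being killed by differences is invariant under isomorphism. -/
theorem isUnipGrp_of_iso {H H' : Over S} [GrpObj H] [GrpObj H'] (e : H ≅ H') [IsMonHom e.hom] (h : IsUnipGrp H) :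
    IsUnipGrp H' := by
  haveI : IsIso e.hom.left := inferInstanceAs (IsIso ((Over.forget _).map e.hom))
  intro f
  exact isUnipFun_of_map e.hom.left (hom_pow_comm e.hom)
    (ConcreteCategory.bijective_of_isIso e.hom.left.appTop).1 (h _)

end SubSpecLib.Unip
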