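import Groth.Agent.SubSpecLib.AffineVal
import Groth.Agent.SubSpecLib.UnipTransfer

/-! Torsion points in the special fibre of a group with generic fibre killed by differences. -/

set_option autoImplicit false
set_option linter.style.haveILetI false
set_option linter.unusedSectionVars false
set_option backward.isDefEq.respectTransparency false
set_option maxHeartbeats 1000000

universe u

open CategoryTheory CategoryTheory.Limits MonoidalCategory CartesianMonoidalCategory AlgebraicGeometry TopologicalSpace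
open scoped MonObj
open Groth.Agent.HomogDense Groth.Agent.GrpField

noncomputable section

attribute [-instance] CategoryTheory.Hom.commGroup

namespace SubSpecLib.Unip

/-- Finitely many torsion points prime to the characteristic over every algebraically closed extension. -/
def FinTor {κ : Type u} [Field κ] (C : Over (Spec (CommRingCat.of κ))) [GrpObj C] : Prop :=
  ∀ (Ω : Type u) [Field Ω] [IsAlgClosed Ω] (q : Spec (CommRingCat.of Ω) ⟶ Spec (CommRingCat.of κ)),
    (torSet (Red.bc q C)).Finite

variable {D : Type u} [CommRing D] [IsDomain D] [IsDiscreteValuationRing D] {F : Type u} [Field F] [Algebra D F]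
  [IsFractionRing D F]

/-- Torsion points of the special fibre over a discrete valuation ring are finite in number. -/
theorem finTor_special (H : Over (Spec (CommRingCat.of D))) [GrpObj H] [Flat H.hom] [LocallyOfFiniteType H.hom]
    [QuasiCompact H.hom] [QuasiSeparated H.hom]
    [IsAffine (Red.bc (Spec.map (CommRingCat.ofHom (algebraMap D F))) H).left]
    (hU : IsUnipGrp (Red.bc (Spec.map (CommRingCat.ofHom (algebraMap D F))) H))
    {κ : Type u} [Field κ] (φ : D →+* κ) (hφ : Function.Surjective φ) :
    FinTor (Red.bc (Spec.map (CommRingCat.ofHom φ)) H) := by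
  intro Ω _ _ q
  let p := Spec.map (CommRingCat.ofHom φ)
  let g := Spec.map (CommRingCat.ofHom (algebraMap D F))
  haveI : IsSchemeTheoreticallyDominant g := dominant_gp D F
  have hH : IsUnipGrp H := isUnipGrp_of_bc_dominant g H hU
  haveI hfin : IsFinite (Hull.fibreHull H p).left := isFinite_special φ (K := F) H hφ
  haveI hmon : IsMonHom (Hull.fibreHull H p) := inferInstanceAs (IsMonHom ((Over.pullback p).map (Hull.toHull H)))
  let uΩ := (Over.pullback q).map (Hull.fibreHull H p)
  haveI : IsFinite uΩ.left := MorphismProperty.baseChange_map (P := @IsFinite) q (Hull.fibreHull H p) hfin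
  haveI : LocallyOfFiniteType (Red.bc p H).hom := MorphismProperty.pullback_snd (P := @LocallyOfFiniteType) _ _ ‹_›
  haveI : LocallyOfFiniteType (Red.bc q (Red.bc p H)).hom :=
    MorphismProperty.pullback_snd (P := @LocallyOfFiniteType) _ _ ‹_›
  refine torSet_finite_of_finite uΩ ?_
  rintro y ⟨n, hn, hy⟩
  let e1 := PowEtCentralLib.adjEquiv (G := Red.bc p H) q (𝟙_ (Over (Spec (CommRingCat.of Ω))))
  let e2 := PowEtCentralLib.adjEquiv (G := H) p ((Over.map q).obj (𝟙_ (Over (Spec (CommRingCat.of Ω)))))
  let y2 := e2.symm (e1.symm y)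
  have hy2 : y2 ^ n = 1 := by rw [← map_pow, ← map_pow, hy, map_one, map_one]
  have hval : y2 ≫ Hull.toHull H = 1 := by
    have h1 : y2 ≫ Hull.toHull H = (1 : _ ⟶ H) ≫ Hull.toHull H := by
      refine Over.OverMorphism.ext (ext_of_isAffine ?_)
      refine CommRingCat.hom_ext (RingHom.ext fun f => ?_)
      simp only [Over.comp_left, Scheme.Hom.comp_appTop, CommRingCat.hom_comp, RingHom.comp_apply]
      exact appTop_eq_of_torsion (hH _) y2 (isUnit_natCast_unit hn) hy2
    rwa [MonObj.one_comp] at h1
  let f1 := PowEtCentralLib.adjEquiv (G := Red.bc p (Hull.hull H)) q (𝟙_ (Over (Spec (CommRingCat.of Ω))))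
  let f2 := PowEtCentralLib.adjEquiv (G := Hull.hull H) p ((Over.map q).obj (𝟙_ (Over (Spec (CommRingCat.of Ω)))))
  have n2 : f2 (y2 ≫ Hull.toHull H) = e2 y2 ≫ Hull.fibreHull H p :=
    Adjunction.homEquiv_naturality_right (Over.mapPullbackAdj p) y2 (Hull.toHull H)
  have n1 : f1 (e1.symm y ≫ Hull.fibreHull H p) = e1 (e1.symm y) ≫ uΩ :=
    Adjunction.homEquiv_naturality_right (Over.mapPullbackAdj q) (e1.symm y) (Hull.fibreHull H p)
  rw [hval, map_one, show e2 y2 = e1.symm y from e2.apply_symm_apply _] at n2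
  rw [← n2, map_one, e1.apply_symm_apply] at n1
  exact n1.symm

theorem exists_factor_of_range_subset {S : Scheme.{u}} {X Y N : Over S} (r : X ⟶ N) (u : Y ⟶ N)
    [IsClosedImmersion r.left] [IsClosedImmersion u.left] [IsReduced X.left]
    (h : Set.range r.left ⊆ Set.range u.left) : ∃ w : X ⟶ Y, w ≫ u = r := by
  haveI : Surjective (pullback.fst r.left u.left) := ⟨fun x => by
    obtain ⟨y, hy⟩ := h ⟨x, rfl⟩
    obtain ⟨z, hz, -⟩ := Scheme.Pullback.exists_preimage_pullback x y hy.symm
    exact ⟨z, hz⟩⟩
  haveI : IsClosedImmersion (pullback.fst r.left u.left) :=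
    MorphismProperty.pullback_fst (P := @IsClosedImmersion) _ _ ‹_›
  haveI := isIso_of_isClosedImmersion_of_surjective (pullback.fst r.left u.left)
  have hw : (inv (pullback.fst r.left u.left) ≫ pullback.snd r.left u.left) ≫ u.left = r.left := by
    rw [Category.assoc, ← pullback.condition, IsIso.inv_hom_id_assoc]
  exact ⟨Over.homMk (inv (pullback.fst r.left u.left) ≫ pullback.snd r.left u.left)
    (by rw [← Over.w u, ← Category.assoc, hw, Over.w r]), Over.OverMorphism.ext hw⟩

/-- A smooth connected subgroup set theoretically inside one with few torsion points has few torsion points. -/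
theorem torSet_finite_of_subgroups {Ω : Type u} [Field Ω] {X Y N : Over (Spec (CommRingCat.of Ω))} [GrpObj X]
    [GrpObj Y] [GrpObj N] (hN : LocallyOfFiniteType N.hom) (r : X ⟶ N) (u : Y ⟶ N) (hr : IsMonHom r)
    (hu : IsMonHom u) (hrc : IsClosedImmersion r.left) (huc : IsClosedImmersion u.left) [Smooth X.hom]
    [ConnectedSpace ↥X.left] (hY : (torSet Y).Finite)
    (hdim : topologicalKrullDim ↥N.left ≤ topologicalKrullDim ↥Y.left) : (torSet X).Finite := by
  haveI := hN
  haveI := hr
  haveI := hu
  haveI := hrc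
  haveI := huc
  haveI : IsReduced X.left := AlgSpLib.isReduced_of_smooth X.hom
  have hB : Set.range r.left ⊆ Z0 N := by
    rw [← connectedComponent_unit]
    exact (isConnected_range r.left.continuous).isPreconnected.subset_connectedComponent (unitPt_mem_range r)
  obtain ⟨w, hw⟩ := exists_factor_of_range_subset r u (hB.trans (Z0_subset_range u hdim))
  haveI : Mono u := (Over.forget _).mono_of_mono_map (show Mono u.left from inferInstance)
  haveI : Mono r := (Over.forget _).mono_of_mono_map (show Mono r.left from inferInstance)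
  haveI : Mono w := mono_of_mono_fac hw
  haveI : IsMonHom w :=
    { one_hom := (cancel_mono u).1 (by rw [Category.assoc, hw, IsMonHom.one_hom, IsMonHom.one_hom])
      mul_hom := (cancel_mono u).1 (by
        rw [Category.assoc, hw, Category.assoc, IsMonHom.mul_hom, IsMonHom.mul_hom (f := u), ← Category.assoc,
          tensorHom_comp_tensorHom, hw]) }
  exact torSet_finite_of_injective w hY

/-- Comparison of torsion points inside a common base change. -/
theorem torSet_finite_of_common {κ k Ω : Type u} [Field κ] [Field k] [IsAlgClosed k] [Field Ω]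
    {Ga : Over (Spec (CommRingCat.of κ))} [GrpObj Ga] [LocallyOfFiniteType Ga.hom]
    {Gb : Over (Spec (CommRingCat.of k))} [GrpObj Gb] [LocallyOfFiniteType Gb.hom] [QuasiCompact Gb.hom]
    {N : Over (Spec (CommRingCat.of Ω))} [GrpObj N]
    (da : Spec (CommRingCat.of Ω) ⟶ Spec (CommRingCat.of κ)) (db : Spec (CommRingCat.of Ω) ⟶ Spec (CommRingCat.of k))
    (ea : Red.bc da Ga ≅ N) (eb : Red.bc db Gb ≅ N) [IsMonHom ea.hom] [IsMonHom eb.hom]
    (C : Over (Spec (CommRingCat.of κ))) [GrpObj C] (hC : (torSet (Red.bc da C)).Finite) (u : C ⟶ Ga) [IsMonHom u]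
    [IsClosedImmersion u.left] (B : Over (Spec (CommRingCat.of k))) [GrpObj B] [Smooth B.hom]
    [ConnectedSpace ↥B.left] (r : B ⟶ Gb) [IsMonHom r] [IsClosedImmersion r.left]
    (hdim : topologicalKrullDim ↥Gb.left ≤ topologicalKrullDim ↥C.left) : (torSet B).Finite := by
  haveI iGb : LocallyOfFiniteType (Red.bc db Gb).hom := MorphismProperty.pullback_snd (P := @LocallyOfFiniteType) _ _ ‹_›
  haveI iN : LocallyOfFiniteType N.hom := by
    haveI : IsIso eb.inv.left := inferInstanceAs (IsIso ((Over.forget _).map eb.inv))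
    rw [← Over.w eb.inv]
    infer_instance
  haveI : LocallyOfFiniteType C.hom := by rw [← Over.w u]; infer_instance
  haveI := isClosedImmersion_map da u
  haveI := isClosedImmersion_map db r
  haveI iCc := isClosedImmersion_comp_iso ((Over.pullback da).map u) ea
  haveI iBc := isClosedImmersion_comp_iso ((Over.pullback db).map r) eb
  haveI : GeometricallyConnected B.hom := SweepSix.GeomConn.gc_of_isAlgClosed B.hom
  haveI : GeometricallyConnected (Red.bc db B).hom := inferInstanceAs (GeometricallyConnected (pullback.snd B.hom db))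
  haveI : ConnectedSpace ↥(Red.bc db B).left :=
    GeometricallyConnected.connectedSpace_of_subsingleton (Red.bc db B).hom
  haveI : Smooth (Red.bc db B).hom := MorphismProperty.pullback_snd (P := @Smooth) _ _ ‹_›
  have hN : topologicalKrullDim ↥N.left ≤ topologicalKrullDim ↥(Red.bc da C).left := by
    rw [← dim_eq_of_overIso eb,
      show topologicalKrullDim ↥(Red.bc db Gb).left = _ from Groth.Agent.DimFieldBCLib.dim_pullback Gb.hom db,
      show topologicalKrullDim ↥(Red.bc da C).left = _ from Groth.Agent.DimFieldBCLib.dim_pullback C.hom da]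
    exact hdim
  exact torSet_finite_of_bc db B (torSet_finite_of_subgroups iN ((Over.pullback db).map r ≫ eb.hom)
    ((Over.pullback da).map u ≫ ea.hom) (isMonHom_trans _ _ (isMonHom_bcMap db r) ‹IsMonHom eb.hom›)
    (isMonHom_trans _ _ (isMonHom_bcMap da u) ‹IsMonHom ea.hom›) iBc iCc hC hN)

/-- Being killed by differences passes to an isomorphic closure of the generic fibre. -/
theorem isUnipGrp_of_generic {S S' : Scheme.{u}} (p : S' ⟶ S) {X H' : Over S} [GrpObj X] [GrpObj H'] (j : H' ⟶ X)
    [IsMonHom j] (φ : (Red.bc p X).left ⟶ H'.left) (hpb : IsPullback φ (Red.bc p X).hom H'.hom p)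
    (hfac : φ ≫ j.left = (𝟙 (Red.bc p X) : Red.bc p X ⟶ Red.bc p X).left ≫ pullback.fst X.hom p)
    (hU : IsUnipGrp (Red.bc p X)) : IsUnipGrp (Red.bc p H') := by
  let m := (Over.pullback p).map j
  haveI : IsMonHom m := inferInstanceAs (IsMonHom ((Over.pullback p).map j))
  haveI : IsIso m.left := by
    have e : hpb.isoPullback.hom ≫ m.left = 𝟙 _ := by
      refine pullback.hom_ext ?_ ?_
      · rw [Category.assoc, ActBC.pullback_map_left_fst, hpb.isoPullback_hom_fst_assoc, hfac]
        rfl
      · rw [Category.assoc]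
        show hpb.isoPullback.hom ≫ m.left ≫ (Red.bc p X).hom = _
        rw [Over.w m]
        exact hpb.isoPullback_hom_snd.trans (Category.id_comp _).symm
    exact IsIso.of_isIso_fac_left e
  intro f
  refine isUnipFun_of_map (inv m.left) (fun i => ?_) (ConcreteCategory.bijective_of_isIso (inv m.left).appTop).1
    (hU _)
  rw [IsIso.eq_inv_comp, ← Category.assoc, IsIso.comp_inv_eq]
  exact (hom_pow_comm m i).symm

/-- Being killed by differences passes along a tower of base changes. -/
theorem isUnipGrp_bc_tower {S T U : Scheme.{u}} (a : U ⟶ T) (b : T ⟶ S) (c : U ⟶ S) (h : a ≫ b = c) (X : Over S)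
    [GrpObj X] (hU : IsUnipGrp (Red.bc c X)) : IsUnipGrp (Red.bc a (Red.bc b X)) := by
  haveI : IsMonHom (ActBC.bcCompIso a b X h).hom := ActBC.bcCompIso_isMonHom (h := h)
  haveI : IsMonHom (ActBC.bcCompIso a b X h).symm.hom := inferInstanceAs (IsMonHom (ActBC.bcCompIso a b X h).inv)
  exact isUnipGrp_of_iso (ActBC.bcCompIso a b X h).symm hU

section model

variable {R0 : Type u} [CommRing R0] [IsDomain R0] (G0 : Over (Spec (CommRingCat.of R0))) [GrpObj G0]

/-- A discrete valuation ring gives a subgroup of full dimension with few torsion points over a point. -/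
theorem exists_finTor_of_dvr [IsNoetherianRing R0] [LocallyOfFiniteType G0.hom] [QuasiCompact G0.hom]
    [QuasiSeparated G0.hom] (F : Type u) [Field F] [Algebra R0 F] [IsFractionRing R0 F]
    [IsAffine (Red.bc (Spec.map (CommRingCat.ofHom (algebraMap R0 F))) G0).left]
    (hU : IsUnipGrp (Red.bc (Spec.map (CommRingCat.ofHom (algebraMap R0 F))) G0)) (P : Ideal R0) [P.IsPrime]
    (hP : P ≠ ⊥) :
    ∃ (κ : Type u) (_ : Field κ) (a₀ : P.ResidueField →+* κ) (C : Over (Spec (CommRingCat.of κ))) (_ : GrpObj C)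
      (u : C ⟶ Red.bc (Spec.map (CommRingCat.ofHom (a₀.comp (algebraMap R0 P.ResidueField)))) G0),
      IsMonHom u ∧ IsClosedImmersion u.left ∧ FinTor C ∧
        topologicalKrullDim ↥(Red.bc (Spec.map (CommRingCat.ofHom (algebraMap R0 F))) G0).left ≤
          topologicalKrullDim ↥C.left := by
  obtain ⟨a, ha, ha0⟩ : ∃ a ∈ P, a ≠ 0 := by
    by_contra hc
    push Not at hc
    exact hP (eq_bot_iff.2 fun x hx => hc x hx)
  obtain ⟨s, hs⟩ := DvrDomLib.exists_closure_eq_top_of_fg (A := R0) (K := F) (L := F)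
    ⟨∅, by rw [Finset.coe_empty, IntermediateField.adjoin_empty]; exact Subsingleton.elim _ _⟩
  obtain ⟨D, hD, hmem, hval⟩ := DvrDomLib.exists_dvr_dominating (L := F) P
    (by rw [(RingHom.injective_iff_ker_eq_bot _).1 (IsFractionRing.injective R0 F)]; exact bot_le)
    ⟨a, ha, (map_ne_zero_iff _ (IsFractionRing.injective R0 F)).2 ha0⟩ s hs
  haveI := hD
  let ψ : R0 →+* D := (algebraMap R0 F).codRestrict D.toSubring hmem
  let πD : Spec (CommRingCat.of D) ⟶ Spec (CommRingCat.of R0) := Spec.map (CommRingCat.ofHom ψ)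
  let GD := Red.bc πD G0
  haveI : LocallyOfFiniteType GD.hom := MorphismProperty.pullback_snd (P := @LocallyOfFiniteType) _ _ ‹_›
  haveI : QuasiCompact GD.hom := MorphismProperty.pullback_snd (P := @QuasiCompact) _ _ ‹_›
  haveI : QuasiSeparated GD.hom := MorphismProperty.pullback_snd (P := @QuasiSeparated) _ _ ‹_›
  have hgD : gp D F ≫ πD = Spec.map (CommRingCat.ofHom (algebraMap R0 F)) := by
    rw [← Spec.map_comp, ← CommRingCat.ofHom_comp]
    rfl
  obtain ⟨H', hH', j', φH', hj', hjc', hfl', hpb', hfac', -⟩ :=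
    exists_closure (K := F) (G := GD) (HK := Red.bc (gp D F) GD) (𝟙 _)
  haveI := hj'
  haveI := hjc'
  haveI := hfl'
  haveI : LocallyOfFiniteType H'.hom := by rw [← Over.w j']; infer_instance
  haveI : QuasiCompact H'.hom := by rw [← Over.w j']; infer_instance
  haveI : QuasiSeparated H'.hom := by rw [← Over.w j']; infer_instance
  haveI := isAffine_of_overIso (ActBC.bcCompIso (gp D F) πD G0 hgD).symm
  haveI : IsAffine (Red.bc (Spec.map (CommRingCat.ofHom (algebraMap D F))) H').left :=
    IsAffine.of_isIso hpb'.isoPullback.inv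
  have hU' : IsUnipGrp (Red.bc (Spec.map (CommRingCat.ofHom (algebraMap D F))) H') :=
    isUnipGrp_of_generic (gp D F) j' φH' hpb' hfac'
      (isUnipGrp_bc_tower (gp D F) πD _ hgD G0 hU)
  have hκ := dim_special_eq (K := F) (IsLocalRing.residue D) IsLocalRing.residue_surjective H'
  have haff := finTor_special (F := F) H' hU' (IsLocalRing.residue D) IsLocalRing.residue_surjective
  have hker : RingHom.ker ((IsLocalRing.residue D).comp ψ) = P := by
    ext x
    rw [← hval x, RingHom.mem_ker, RingHom.comp_apply, IsLocalRing.residue_eq_zero_iff]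
    exact ValuationSubring.valuation_lt_one_iff D (ψ x)
  have hunit : P.primeCompl ≤ (IsUnit.submonoid (IsLocalRing.ResidueField D)).comap ((IsLocalRing.residue D).comp ψ) :=
    fun x hx => IsUnit.mk0 _ (fun h0 => hx (hker ▸ RingHom.mem_ker.2 h0))
  let a₀ : P.ResidueField →+* IsLocalRing.ResidueField D :=
    Ideal.ResidueField.lift P ((IsLocalRing.residue D).comp ψ) (le_of_eq hker.symm) hunit
  have e1 : a₀.comp (algebraMap R0 P.ResidueField) = (IsLocalRing.residue D).comp ψ :=
    RingHom.ext fun x => Ideal.ResidueField.lift_algebraMap _ _ _ hunit x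
  have hcomp : Spec.map (CommRingCat.ofHom (IsLocalRing.residue D)) ≫ πD =
      Spec.map (CommRingCat.ofHom (a₀.comp (algebraMap R0 P.ResidueField))) := by
    rw [e1, ← Spec.map_comp, ← CommRingCat.ofHom_comp]
  haveI := isClosedImmersion_map (Spec.map (CommRingCat.ofHom (IsLocalRing.residue D))) j'
  refine ⟨IsLocalRing.ResidueField D, inferInstance, a₀, _, inferInstance,
    (Over.pullback _).map j' ≫ (ActBC.bcCompIso _ _ G0 hcomp).hom,
    isMonHom_trans _ _ (isMonHom_bcMap _ j') (ActBC.bcCompIso_isMonHom (h := hcomp)),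
    isClosedImmersion_comp_iso _ _, haff, le_of_eq ?_⟩
  rw [hκ, ← dim_eq_of_overIso (ActBC.bcCompIso (gp D F) πD G0 hgD)]
  exact hpb'.isoPullback.hom.homeomorph.isHomeomorph.topologicalKrullDim_eq

/-- Two subgroups over fields above one point, compared over a common algebraically closed extension. -/
theorem torSet_finite_of_compare {P : Ideal R0} [P.IsPrime] [LocallyOfFiniteType G0.hom] [QuasiCompact G0.hom]
    {k : Type u} [Field k] [IsAlgClosed k] (b₀ : P.ResidueField →+* k) {κ : Type u} [Field κ]
    (a₀ : P.ResidueField →+* κ) (C : Over (Spec (CommRingCat.of κ))) [GrpObj C] (hC : FinTor C)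
    (u : C ⟶ Red.bc (Spec.map (CommRingCat.ofHom (a₀.comp (algebraMap R0 P.ResidueField)))) G0) [IsMonHom u]
    [IsClosedImmersion u.left] (B : Over (Spec (CommRingCat.of k))) [GrpObj B] [Smooth B.hom]
    [ConnectedSpace ↥B.left] {dk : Spec (CommRingCat.of k) ⟶ Spec (CommRingCat.of R0)}
    (hdk : dk = Spec.map (CommRingCat.ofHom (b₀.comp (algebraMap R0 P.ResidueField))))
    (r : B ⟶ Red.bc dk G0) [IsMonHom r] [IsClosedImmersion r.left]
    (hdim : topologicalKrullDim ↥(Red.bc dk G0).left ≤ topologicalKrullDim ↥C.left) : (torSet B).Finite := by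
  subst hdk
  obtain ⟨Ω₀, hΩ, a', b', hab'⟩ := exists_common_extension a₀ b₀
  letI := hΩ
  let Ω := AlgebraicClosure Ω₀
  let a : κ →+* Ω := (algebraMap Ω₀ Ω).comp a'
  let b : k →+* Ω := (algebraMap Ω₀ Ω).comp b'
  have hab : a.comp a₀ = b.comp b₀ := by simp only [a, b, RingHom.comp_assoc, hab']
  let da := Spec.map (CommRingCat.ofHom a)
  let db := Spec.map (CommRingCat.ofHom b)
  let qa := Spec.map (CommRingCat.ofHom (a₀.comp (algebraMap R0 P.ResidueField)))
  let qb := Spec.map (CommRingCat.ofHom (b₀.comp (algebraMap R0 P.ResidueField)))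
  have hcomm : da ≫ qa = db ≫ qb := by
    simp only [da, db, qa, qb, ← Spec.map_comp, ← CommRingCat.ofHom_comp]
    congr 2
    rw [← RingHom.comp_assoc, ← RingHom.comp_assoc, hab]
  haveI iB : LocallyOfFiniteType (Red.bc qb G0).hom :=
    MorphismProperty.pullback_snd (P := @LocallyOfFiniteType) _ _ ‹_›
  haveI iQ : QuasiCompact (Red.bc qb G0).hom := MorphismProperty.pullback_snd (P := @QuasiCompact) _ _ ‹_›
  haveI iA : LocallyOfFiniteType (Red.bc qa G0).hom :=
    MorphismProperty.pullback_snd (P := @LocallyOfFiniteType) _ _ ‹_›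
  exact torSet_finite_of_common (Ga := Red.bc qa G0) (Gb := Red.bc qb G0) (N := Red.bc (db ≫ qb) G0) da db
    (ActBC.bcCompIso da qa G0 hcomm) (ActBC.bcCompIso db qb G0 rfl) C (hC Ω da) u B r hdim

/-- The special point of a model of a group whose functions are killed by differences. -/
theorem torSet_finite_of_model [IsNoetherianRing R0] [LocallyOfFiniteType G0.hom] [QuasiCompact G0.hom]
    [QuasiSeparated G0.hom] {K : Type u} [Field K] {ν : R0 →+* K} (hν : Function.Injective ν)
    (hK : IsAffine (Red.bc (Spec.map (CommRingCat.ofHom ν)) G0).left)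
    (hU : IsUnipGrp (Red.bc (Spec.map (CommRingCat.ofHom ν)) G0))
    {k : Type u} [Field k] [IsAlgClosed k] (χ : R0 →+* k)
    (hdim : topologicalKrullDim ↥(Red.bc (Spec.map (CommRingCat.ofHom χ)) G0).left ≤
      topologicalKrullDim ↥(Red.bc (Spec.map (CommRingCat.ofHom ν)) G0).left)
    (B : Over (Spec (CommRingCat.of k))) [GrpObj B] [Smooth B.hom] [ConnectedSpace ↥B.left]
    (r : B ⟶ Red.bc (Spec.map (CommRingCat.ofHom χ)) G0) [IsMonHom r] [IsClosedImmersion r.left] :
    (torSet B).Finite := by
  let F := FractionRing R0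
  let σ : F →+* K := IsFractionRing.lift hν
  let gF := Spec.map (CommRingCat.ofHom (algebraMap R0 F))
  let sK := Spec.map (CommRingCat.ofHom σ)
  have hgK : sK ≫ gF = Spec.map (CommRingCat.ofHom ν) := by
    rw [← Spec.map_comp, ← CommRingCat.ofHom_comp]
    congr 2
    exact RingHom.ext fun a => IsFractionRing.lift_algebraMap hν a
  let GF := Red.bc gF G0
  haveI : LocallyOfFiniteType GF.hom := MorphismProperty.pullback_snd (P := @LocallyOfFiniteType) _ _ ‹_›
  haveI : QuasiCompact GF.hom := MorphismProperty.pullback_snd (P := @QuasiCompact) _ _ ‹_›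
  haveI : QuasiSeparated GF.hom := MorphismProperty.pullback_snd (P := @QuasiSeparated) _ _ ‹_›
  haveI hGF : IsAffine GF.left := by
    haveI := hK
    exact isAffine_of_bc GF sK (isAffine_of_overIso (ActBC.bcCompIso sK gF G0 hgK).symm)
  haveI : IsSchemeTheoreticallyDominant sK :=
    TorsExtLib.isSchemeTheoreticallyDominant_SpecMap σ σ.injective
  have hUF : IsUnipGrp GF := by
    haveI : IsMonHom (ActBC.bcCompIso sK gF G0 hgK).symm.hom :=
      inferInstanceAs (IsMonHom (ActBC.bcCompIso sK gF G0 hgK).inv)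
    exact isUnipGrp_of_bc_dominant sK GF (isUnipGrp_of_iso (ActBC.bcCompIso sK gF G0 hgK).symm hU)
  by_cases hP : RingHom.ker χ = ⊥
  · let τ : F →+* k := IsFractionRing.lift ((RingHom.injective_iff_ker_eq_bot χ).2 hP)
    have hgk : Spec.map (CommRingCat.ofHom τ) ≫ gF = Spec.map (CommRingCat.ofHom χ) := by
      rw [← Spec.map_comp, ← CommRingCat.ofHom_comp]
      congr 2
      exact RingHom.ext fun a => IsFractionRing.lift_algebraMap ((RingHom.injective_iff_ker_eq_bot χ).2 hP) a
    haveI : IsAffine (Red.bc (Spec.map (CommRingCat.ofHom τ)) GF).left := inferInstanceAs (IsAffine (pullback GF.hom _))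
    haveI := isAffine_of_overIso (ActBC.bcCompIso _ gF G0 hgk)
    haveI : Mono r := (Over.forget _).mono_of_mono_map (show Mono r.left from inferInstance)
    exact torSet_finite_of_injective r (torSet_finite_of_isUnipGrp _
      (isUnipGrp_of_iso (ActBC.bcCompIso _ gF G0 hgk) (isUnipGrp_bc (Spec.map (CommRingCat.ofHom τ)) GF hUF)))
  haveI : (RingHom.ker χ).IsPrime := RingHom.ker_isPrime χ
  obtain ⟨κ, hκ, a₀, C, hC, u, hu, huc, hCa, hCd⟩ := exists_finTor_of_dvr G0 F hUF (RingHom.ker χ) hP
  haveI := hu; haveI := huc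
  have hunit : (RingHom.ker χ).primeCompl ≤ (IsUnit.submonoid k).comap χ :=
    fun x hx => IsUnit.mk0 _ (fun h0 => hx (RingHom.mem_ker.2 h0))
  let b₀ : (RingHom.ker χ).ResidueField →+* k := Ideal.ResidueField.lift _ χ le_rfl hunit
  have e2 : b₀.comp (algebraMap R0 (RingHom.ker χ).ResidueField) = χ :=
    RingHom.ext fun x => Ideal.ResidueField.lift_algebraMap _ _ _ hunit x
  refine torSet_finite_of_compare G0 b₀ a₀ C hCa u B (congrArg (fun f => Spec.map (CommRingCat.ofHom f)) e2.symm) r
    (le_trans ?_ hCd)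
  refine hdim.trans (le_of_eq ?_)
  rw [← dim_eq_of_overIso (ActBC.bcCompIso sK gF G0 hgK)]
  exact Groth.Agent.DimFieldBCLib.dim_pullback GF.hom sK

end model

variable {V : Type u} [CommRing V] [IsDomain V] [ValuationRing V] {K : Type u} [Field K] [Algebra V K]
  [IsFractionRing V K] {k : Type u} [Field k] [IsAlgClosed k] {φ : V →+* k}

theorem torSet_finite_sub_of_model {R0 : Type u} [CommRing R0] [IsDomain R0] [IsNoetherianRing R0] (ι₀ : R0 →+* V)
    (hι : Function.Injective ι₀) (hφ : Function.Surjective φ) (G0 : Over (Spec (CommRingCat.of R0))) [GrpObj G0]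
    [LocallyOfFiniteType G0.hom] [QuasiCompact G0.hom] [QuasiSeparated G0.hom]
    (H : Over (Spec (CommRingCat.of V))) [GrpObj H] [Flat H.hom] [LocallyOfFiniteType H.hom]
    (e : H ≅ Red.bc (Spec.map (CommRingCat.ofHom ι₀)) G0) [IsMonHom e.hom]
    (hK : IsAffine (Red.bc (Spec.map (CommRingCat.ofHom (algebraMap V K))) H).left)
    (hU : IsUnipGrp (Red.bc (Spec.map (CommRingCat.ofHom (algebraMap V K))) H))
    [IrreducibleSpace ↥(Red.bc (Spec.map (CommRingCat.ofHom (algebraMap V K))) H).left]
    (B : Over (Spec (CommRingCat.of k))) [GrpObj B] [Smooth B.hom] [ConnectedSpace ↥B.left]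
    (r : B ⟶ Red.bc (Spec.map (CommRingCat.ofHom φ)) H) [IsMonHom r] [IsClosedImmersion r.left] :
    (torSet B).Finite := by
  let g := Spec.map (CommRingCat.ofHom (algebraMap V K))
  let p := Spec.map (CommRingCat.ofHom φ)
  have hg : g ≫ Spec.map (CommRingCat.ofHom ι₀) = Spec.map (CommRingCat.ofHom ((algebraMap V K).comp ι₀)) := by
    rw [← Spec.map_comp, ← CommRingCat.ofHom_comp]
  have hp : p ≫ Spec.map (CommRingCat.ofHom ι₀) = Spec.map (CommRingCat.ofHom (φ.comp ι₀)) := by
    rw [← Spec.map_comp, ← CommRingCat.ofHom_comp]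
  let eK := towerIso g _ _ hg e
  let ek := towerIso p _ _ hp e
  have ieK : IsMonHom eK.hom := isMonHom_towerIso g _ _ hg e
  have iek : IsMonHom ek.hom := isMonHom_towerIso p _ _ hp e
  haveI := hK
  haveI irc : IsClosedImmersion (r ≫ ek.hom).left := isClosedImmersion_comp_iso r ek
  haveI irm : IsMonHom (r ≫ ek.hom) := isMonHom_trans r ek.hom inferInstance iek
  refine torSet_finite_of_model G0 (ν := (algebraMap V K).comp ι₀) ((IsFractionRing.injective V K).comp hι)
    (isAffine_of_overIso eK) (isUnipGrp_of_iso eK hU) (φ.comp ι₀) ?_ B (r ≫ ek.hom)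
  rw [← dim_eq_of_overIso eK, ← dim_eq_of_overIso ek]
  exact dim_special_le_of_irreducible hφ H

end SubSpecLib.Unip
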