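import Groth.Agent.SubSpecLib.Fibre
import Groth.Agent.NeutralSchLib.Fibre

/-! The special fibre of the closure of the generic unit is finite. -/

set_option autoImplicit false
set_option linter.style.haveILetI false
set_option backward.isDefEq.respectTransparency false
set_option maxHeartbeats 1000000

universe u

open CategoryTheory CategoryTheory.Limits MonoidalCategory CartesianMonoidalCategory AlgebraicGeometry TopologicalSpace
open scoped MonObj

noncomputable section

namespace SubSpecLib

variable {V : Type u} [CommRing V] [IsDomain V] [ValuationRing V] {K : Type u} [Field K] [Algebra V K]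
  [IsFractionRing V K] {k : Type u} [Field k] (φ : V →+* k)

/-- The point of the unit section over the generic point. -/
def genUnit (H : Over (Spec (CommRingCat.of V))) [GrpObj H] : H.left :=
  η[H].left (⟨⊥, Ideal.isPrime_bot⟩ : PrimeSpectrum V)

theorem hom_unit_apply (H : Over (Spec (CommRingCat.of V))) [GrpObj H] (s : ↥(Spec (CommRingCat.of V))) :
    H.hom (η[H].left s) = s := by
  rw [← Scheme.Hom.comp_apply, Over.w η[H]]
  rfl

theorem hom_genUnit (H : Over (Spec (CommRingCat.of V))) [GrpObj H] :
    H.hom (genUnit H) = (⟨⊥, Ideal.isPrime_bot⟩ : PrimeSpectrum V) := hom_unit_apply H _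

/-- On the generic fibre, the closure of the unit is the unit. -/
theorem eq_genUnit_of_mem (H : Over (Spec (CommRingCat.of V))) [GrpObj H] [LocallyOfFiniteType H.hom] {y : H.left}
    (hy : y ∈ closure {genUnit H}) (hgen : H.hom y = (⟨⊥, Ideal.isPrime_bot⟩ : PrimeSpectrum V)) : y = genUnit H := by
  let p := Spec.map (CommRingCat.ofHom (algebraMap V (FractionRing V)))
  haveI : IsPreimmersion p := IsPreimmersion.of_isLocalization (nonZeroDivisors V)
  let G := Red.bc p H
  haveI : LocallyOfFiniteType G.hom := MorphismProperty.pullback_snd (P := @LocallyOfFiniteType) _ _ ‹_›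
  haveI : IsSeparated G.hom := Groth.Agent.GrpField.isSeparated_grp
  haveI : IsClosedImmersion (η[G].left ≫ G.hom) := by
    rw [Over.w η[G]]; exact inferInstanceAs (IsClosedImmersion (𝟙 _))
  haveI : IsClosedImmersion η[G].left := IsClosedImmersion.of_comp η[G].left G.hom
  let fh := fibreHomeo H.hom p _ (gp_closedPoint V (FractionRing V))
  let z := fh.symm ⟨y, hgen⟩
  let e : ↥G.left := η[G].left (IsLocalRing.closedPoint (FractionRing V))
  have hz : pullback.fst H.hom p z = y := by
    rw [← fibreHomeo_apply H.hom p _ (gp_closedPoint V (FractionRing V))]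
    exact congrArg Subtype.val (fh.apply_symm_apply _)
  have he : pullback.fst H.hom p e = genUnit H := by
    refine ((Scheme.Hom.comp_apply _ _ _).symm.trans
      (congrArg (fun m => m (IsLocalRing.closedPoint (FractionRing V))) (Groth.Agent.NeutralSch.bc_unit_fst H p))).trans ?_
    refine (Scheme.Hom.comp_apply _ _ _).trans ?_
    exact congrArg η[H].left (gp_closedPoint V (FractionRing V))
  have hmem : z ∈ closure ({e} : Set G.left) := by
    rw [(pullback.fst H.hom p).isEmbedding.closure_eq_preimage_closure_image, Set.image_singleton,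
      Set.mem_preimage, hz, he]
    exact hy
  have hcl : IsClosed ({e} : Set G.left) := by
    have h : Set.range η[G].left = {e} := by
      haveI : Subsingleton ↥(𝟙_ (Over (Spec (CommRingCat.of (FractionRing V))))).left :=
        inferInstanceAs (Subsingleton (PrimeSpectrum (FractionRing V)))
      refine Set.eq_singleton_iff_unique_mem.2 ⟨⟨_, rfl⟩, ?_⟩
      rintro _ ⟨x, rfl⟩
      rw [Subsingleton.elim x (IsLocalRing.closedPoint (FractionRing V))]
    exact h ▸ η[G].left.isClosedEmbedding.isClosed_range
  rw [hcl.closure_eq] at hmem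
  rw [← hz, ← he, Set.mem_singleton_iff.1 hmem]

variable {φ}

theorem unitFibre (hφ : Function.Surjective φ) (H : Over (Spec (CommRingCat.of V))) [GrpObj H]
    [LocallyOfFiniteType H.hom] [QuasiCompact H.hom] :
    {z : ↥(pullback H.hom (Spec.map (CommRingCat.ofHom φ))) |
      pullback.fst H.hom (Spec.map (CommRingCat.ofHom φ)) z ∈ closure {genUnit H}}.Finite ∧
    ∀ z : ↥(pullback H.hom (Spec.map (CommRingCat.ofHom φ))),
      pullback.fst H.hom (Spec.map (CommRingCat.ofHom φ)) z ∈ closure {genUnit H} → IsClosed {z} := by
  let p := Spec.map (CommRingCat.ofHom φ)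
  haveI : IsClosedImmersion p := IsClosedImmersion.spec_of_surjective _ hφ
  let C : Closeds H.left := ⟨closure {genUnit H}, isClosed_closure⟩
  let X := (Scheme.IdealSheafData.vanishingIdeal C).subscheme
  let ιX : X ⟶ H.left := (Scheme.IdealSheafData.vanishingIdeal C).subschemeι
  have hrange : Set.range ιX = closure {genUnit H} := by
    rw [Scheme.IdealSheafData.range_subschemeι, Scheme.IdealSheafData.coe_support_vanishingIdeal]
    rfl
  haveI : IrreducibleSpace ↥X := by
    haveI : IrreducibleSpace ↥(Set.range ιX) :=
      isIrreducible_iff_irreducibleSpace.1 (hrange ▸ isIrreducible_singleton.closure)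
    exact ιX.isEmbedding.toHomeomorph.irreducibleSpace_iff.2 inferInstance
  let f := ιX ≫ H.hom
  haveI : Surjective f := ⟨fun s => by
    have h : η[H].left s ∈ Set.range ιX := by
      rw [hrange]
      refine Specializes.mem_closure ?_
      exact ((PrimeSpectrum.le_iff_specializes (⟨⊥, Ideal.isPrime_bot⟩ : PrimeSpectrum V) s).1 bot_le).map
        η[H].left.continuous
    obtain ⟨x, hx⟩ := h
    exact ⟨x, by rw [Scheme.Hom.comp_apply, hx, hom_unit_apply]⟩⟩
  -- the generic fibre is a point
  have hgen : topologicalKrullDim ↥(pullback f (Spec.map (CommRingCat.ofHom (algebraMap V (FractionRing V))))) ≤ 0 := by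
    let g := Spec.map (CommRingCat.ofHom (algebraMap V (FractionRing V)))
    haveI : IsPreimmersion g := IsPreimmersion.of_isLocalization (nonZeroDivisors V)
    let fh := fibreHomeo f g _ (gp_closedPoint V (FractionRing V))
    haveI : Subsingleton ↥(f.base ⁻¹' {(⟨⊥, Ideal.isPrime_bot⟩ : PrimeSpectrum V)}) := by
      refine ⟨fun a b => Subtype.ext (ιX.isEmbedding.injective ?_)⟩
      rw [eq_genUnit_of_mem H (hrange.subset ⟨a.1, rfl⟩) ((Scheme.Hom.comp_apply _ _ _).symm.trans a.2),
        eq_genUnit_of_mem H (hrange.subset ⟨b.1, rfl⟩) ((Scheme.Hom.comp_apply _ _ _).symm.trans b.2)]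
    haveI : Subsingleton ↥(pullback f g) := fh.toEquiv.subsingleton
    haveI : Subsingleton (IrreducibleCloseds ↥(pullback f g)) := ⟨fun a b => IrreducibleCloseds.ext (by
      have e1 : (a : Set ↥(pullback f g)) = Set.univ := Subsingleton.eq_univ_of_nonempty a.isIrreducible'.nonempty
      have e2 : (b : Set ↥(pullback f g)) = Set.univ := Subsingleton.eq_univ_of_nonempty b.isIrreducible'.nonempty
      exact e1.trans e2.symm)⟩
    exact Order.krullDim_nonpos_of_subsingleton
  let a : pullback f p ⟶ pullback H.hom p := pullback.map _ _ _ _ ιX (𝟙 _) (𝟙 _) (Category.comp_id _) rfl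
  have hra : Set.range a = {z | pullback.fst H.hom p z ∈ closure {genUnit H}} := by
    rw [Scheme.Pullback.range_map, hrange]
    simp
    rfl
  have hemb : Topology.IsClosedEmbedding a := by
    refine ⟨Topology.IsEmbedding.of_comp a.continuous (pullback.fst H.hom p).continuous ?_, ?_⟩
    · have h : (pullback.fst H.hom p).base ∘ a.base = ιX.base ∘ (pullback.fst f p).base := funext fun z => by
        simp only [Function.comp_apply, ← Scheme.Hom.comp_apply]
        rw [pullback.lift_fst]
      exact h ▸ ιX.isEmbedding.comp (pullback.fst f p).isEmbedding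
    · rw [hra]; exact isClosed_closure.preimage (pullback.fst H.hom p).continuous
  let F := pullback f p
  haveI : IsLocallyNoetherian F := LocallyOfFiniteType.isLocallyNoetherian (pullback.snd f p)
  haveI : CompactSpace F := QuasiCompact.compactSpace_of_compactSpace (pullback.snd f p)
  haveI : IsNoetherian F := {}
  have hpt : ∀ Z ∈ irreducibleComponents ↥F, ∀ y ∈ Z, closure {y} = Z := fun Z hZ y hy =>
    eq_of_dim_zero hZ.1 (isClosed_of_mem_irreducibleComponents Z hZ)
      ((dim_special_component (K := FractionRing V) φ hφ f Z hZ).trans_le hgen) hy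
  have hclosed : ∀ y : F, IsClosed {y} := by
    intro y
    rw [← closure_subset_iff_isClosed]
    intro w hw
    obtain ⟨Z, hZ, hyZ⟩ := exists_mem_irreducibleComponents_subset_of_isIrreducible (closure {y})
      isIrreducible_singleton.closure
    have h1 := hpt Z hZ w (hyZ hw)
    have h2 : y ∈ closure {w} := h1 ▸ hyZ (subset_closure rfl)
    exact ((specializes_iff_mem_closure.2 hw).antisymm (specializes_iff_mem_closure.2 h2)).eq.symm
  have hfin : Finite ↥F := by
    have hc := TopologicalSpace.NoetherianSpace.finite_irreducibleComponents (α := ↥F)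
    refine Set.finite_univ_iff.1 (Set.Finite.subset (s := ⋃ Z ∈ irreducibleComponents ↥F, Z)
      (hc.biUnion fun Z hZ => ?_) ?_)
    · refine Set.Subsingleton.finite fun w hw w' hw' => ?_
      have h1 := hpt Z hZ w hw
      rw [← h1, (hclosed w).closure_eq] at hw'
      exact hw'.symm
    · intro y _
      exact Set.mem_biUnion (irreducibleComponent_mem_irreducibleComponents y) mem_irreducibleComponent
  refine ⟨hra ▸ Set.finite_range a, fun z hz => ?_⟩
  obtain ⟨y, rfl⟩ : z ∈ Set.range a := hra ▸ hz
  simpa using hemb.isClosedMap _ (hclosed y)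

end SubSpecLib
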